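import Mathlib
import Cfsg.Agent.Lib.Lie.SLComm.Sourour
import Cfsg.Agent.Lib.Lie.SLComm.Hess

/-!
Every matrix of determinant one which is not a scalar other than one is a product of two conjugates, inside the
special linear group, of one fixed real matrix.
-/

set_option autoImplicit false
set_option linter.unusedSectionVars false

namespace Cfsg.Agent.Lie.ClassSq

open Matrix Polynomial Cfsg.Agent.Lie.SLComm

variable {F : Type*} [Field F] {k : ℕ}

/-- The diagonal of the canonical form. -/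
def canβ (k : ℕ) (a : F) : Fin (k + 2) → F := Fin.cons a (Fin.cons a⁻¹ fun _ => 1)

/-- The canonical form. -/
def canM (k : ℕ) (a : F) : Matrix (Fin (k + 2)) (Fin (k + 2)) F := blk a 0 0 (blk a⁻¹ 0 0 (Jb k 1))

/-- The inverse of a unipotent lower block. -/
def jbInv (k : ℕ) : Matrix (Fin k) (Fin k) F :=
  Matrix.of fun i j => if j ≤ i then (-1) ^ ((i : ℕ) - j) else 0

theorem Jb_jbInv (k : ℕ) : Jb k (1 : F) * jbInv k = 1 := by
  ext i j
  rw [Matrix.mul_apply]
  by_cases h0 : (i : ℕ) = 0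
  · rw [Finset.sum_eq_single i]
    · have e : j ≤ i ↔ i = j := by rw [Fin.le_def, Fin.ext_iff, h0]; omega
      simp [Jb, jbInv, e, Matrix.one_apply]
      split_ifs with h
      · subst h; simp
      · rfl
    · intro l _ hl
      simp [Jb, Ne.symm hl, h0]
    · simp
  · let p : Fin k := ⟨(i : ℕ) - 1, by omega⟩
    have hpi : i ≠ p := fun e => by have := congrArg Fin.val e; simp [p] at this; omega
    rw [Finset.sum_eq_add (i) p hpi]
    · simp only [Jb, jbInv, Matrix.of_apply, Matrix.one_apply, if_pos, one_mul, if_neg hpi,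
        show (i : ℕ) = (p : ℕ) + 1 by simp [p]; omega]
      rcases lt_trichotomy (i : ℕ) j with h | h | h
      · rw [if_neg (by rw [Fin.le_def]; omega), if_neg (by rw [Fin.le_def]; simp [p]; omega),
          if_neg (fun e => by rw [e] at h; omega)]
        simp
      · rw [if_pos (by rw [Fin.le_def]; omega), if_neg (by rw [Fin.le_def]; simp [p]; omega), if_pos (Fin.ext h),
          show (p : ℕ) + 1 - j = 0 by simp [p]; omega]
        simp
      · rw [if_pos (by rw [Fin.le_def]; omega), if_pos (by rw [Fin.le_def]; simp [p]; omega),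
          if_neg (fun e => by rw [e] at h; omega),
          show (p : ℕ) + 1 - j = (p : ℕ) - j + 1 by simp [p]; omega, pow_succ]
        ring
    · intro l _ hl
      have h1 : i ≠ l := fun e => hl.1 e.symm
      have h2 : ¬ (i : ℕ) = (l : ℕ) + 1 := fun e => hl.2 (Fin.ext (by simp [p]; omega))
      simp [Jb, h1, h2]
    · simp
    · simp

/-- Similar in the special linear group. -/
def SSim {n : ℕ} (A B : Matrix (Fin n) (Fin n) F) : Prop :=
  ∃ P : Matrix.SpecialLinearGroup (Fin n) F,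
    A = (P : Matrix (Fin n) (Fin n) F) * B * ((P⁻¹ : Matrix.SpecialLinearGroup (Fin n) F) : Matrix (Fin n) (Fin n) F)

theorem det_canM (a : F) (ha : a ≠ 0) : (canM k a).det = 1 := by
  rw [canM, blk_det_lower, blk_det_lower, det_Jb, one_pow, mul_one, mul_inv_cancel₀ ha]

/-- Similarity to the canonical form can be taken of determinant one. -/
theorem ssim_of_sim {a : F} {A : Matrix (Fin (k + 2)) (Fin (k + 2)) F} (h : Sim A (canM k a)) :
    SSim A (canM k a) := by
  obtain ⟨P, Q, hPQ, hQP, e⟩ := h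
  have hd : P.det * Q.det = 1 := by rw [← Matrix.det_mul, hPQ, Matrix.det_one]
  have hP : P.det ≠ 0 := left_ne_zero_of_mul_eq_one hd
  let D : Matrix (Fin (k + 2)) (Fin (k + 2)) F := blk P.det⁻¹ 0 0 1
  let D' : Matrix (Fin (k + 2)) (Fin (k + 2)) F := blk P.det 0 0 1
  have hDD : D * D' = 1 := by simp [D, D', blk_mul, inv_mul_cancel₀ hP, blk_one]
  have hdet : (P * D).det = 1 := by
    rw [Matrix.det_mul, blk_det_lower, Matrix.det_one, mul_one, mul_inv_cancel₀ hP]
  refine ⟨⟨P * D, hdet⟩, ?_⟩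
  have hinv : P * D * (D' * Q) = 1 := by
    rw [Matrix.mul_assoc P D, ← Matrix.mul_assoc D, hDD, Matrix.one_mul, hPQ]
  have hi : ((⟨P * D, hdet⟩⁻¹ : Matrix.SpecialLinearGroup (Fin (k + 2)) F) :
      Matrix (Fin (k + 2)) (Fin (k + 2)) F) = D' * Q := by
    rw [← Matrix.inv_eq_right_inv hinv, Matrix.inv_def, hdet, Ring.inverse_one, one_smul]
    exact Matrix.SpecialLinearGroup.coe_inv (⟨P * D, hdet⟩ : Matrix.SpecialLinearGroup (Fin (k + 2)) F)
  rw [hi, e]
  have hcomm : D * canM k a = canM k a * D := by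
    simp [D, canM, blk_mul, mul_comm]
  symm
  calc P * D * canM k a * (D' * Q) = P * (D * canM k a) * D' * Q := by simp only [Matrix.mul_assoc]
    _ = P * (canM k a * D) * D' * Q := by rw [hcomm]
    _ = P * canM k a * (D * D') * Q := by simp only [Matrix.mul_assoc]
    _ = _ := by rw [hDD, Matrix.mul_one]

theorem sim_swap (x y : F) (T : Matrix (Fin k) (Fin k) F) :
    Sim (blk x 0 0 (blk y 0 0 T)) (blk y 0 0 (blk x 0 0 T)) := by
  refine (sim_reindex (Equiv.swap (0 : Fin (k + 2)) 1) _).trans ?_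
  rw [show Matrix.reindex (Equiv.swap (0 : Fin (k + 2)) 1) (Equiv.swap 0 1) (blk x 0 0 (blk y 0 0 T)) =
      blk y 0 0 (blk x 0 0 T) from ?_]
  · exact Sim.refl _
  ext i j
  have hs : ∀ i : Fin k, Equiv.swap (0 : Fin (k + 2)) 1 i.succ.succ = i.succ.succ := fun i =>
    Equiv.swap_apply_of_ne_of_ne (Fin.succ_ne_zero _) (fun e => Fin.succ_ne_zero i (Fin.succ_inj.1 e))
  simp only [Matrix.reindex_apply, Matrix.submatrix_apply, Equiv.symm_swap]
  refine Fin.cases ?_ (Fin.cases ?_ fun i => ?_) i <;> refine Fin.cases ?_ (Fin.cases ?_ fun j => ?_) j <;>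
    simp [hs]
  all_goals rw [show (1 : Fin (k + 2)) = Fin.succ 0 from rfl]
  all_goals simp only [blk_zz, blk_zs, blk_sz, blk_ss, Pi.zero_apply, Matrix.zero_apply]

theorem jbInv_sim (k : ℕ) : Sim (jbInv (F := F) k) (Jb k 1) := by
  have h1 : Sim (jbInv (F := F) k) ((1 : F) • 1 + cmp k (X ^ k)) :=
    sim_tail_lower (fun i => by simp [jbInv]) (fun i j h => by simp [jbInv, not_le.2 h])
      (fun i j h => by
        simp only [jbInv, Matrix.of_apply]
        rw [if_pos (by rw [Fin.le_def]; omega)]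
        exact pow_ne_zero _ (neg_ne_zero.2 one_ne_zero))
  refine h1.trans (sim_tail_lower (fun i => by simp [Jb]) (fun i j h => ?_) (fun i j h => ?_)).symm
  · have h' : (i : ℕ) < j := h
    simp [Jb, ne_of_lt h, show ¬ (i : ℕ) = (j : ℕ) + 1 by omega]
  · have : i ≠ j := fun e => by subst e; omega
    simp [Jb, this, h]

theorem low_sim {a : F} (ha : a ≠ 0) (ha2 : a * a ≠ 1) {L : Matrix (Fin (k + 2)) (Fin (k + 2)) F}
    (hL : Low (canβ k a) L) : Sim L (canM k a) := by
  have hai : a⁻¹ ≠ a := fun e => ha2 (by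
    conv_lhs => arg 1; rw [← e]
    exact inv_mul_cancel₀ ha)
  have ha1 : a ≠ 1 := fun e => ha2 (by rw [e, one_mul])
  obtain ⟨L', hL', hs⟩ := low_peel hL (Fin.cases (by simpa using hai) (fun i => by simpa using Ne.symm ha1))
  obtain ⟨L'', hL'', hs'⟩ := low_peel hL' (fun _ => fun e => ha1 (by rw [← inv_inv a, ← e, inv_one]))
  have h1 : Sim L'' (Jb k (1 : F)) := by
    refine (sim_tail_lower hL''.1 hL''.2.1 hL''.2.2).trans
      (sim_tail_lower (fun i => by simp [Jb]) (fun i j h => ?_) (fun i j h => ?_)).symm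
    · have h' : (i : ℕ) < j := h
      simp [Jb, ne_of_lt h, show ¬ (i : ℕ) = (j : ℕ) + 1 by omega]
    · have : i ≠ j := fun e => by subst e; omega
      simp [Jb, this, h]
  exact hs.trans ((hs'.trans (h1.blk a⁻¹)).blk a)

theorem upp_sim {a : F} (ha : a ≠ 0) (ha2 : a * a ≠ 1) {X : Matrix (Fin (k + 2)) (Fin (k + 2)) F}
    (hX : Upp (canβ k a) X) : Sim X (canM k a) := by
  have hai : a⁻¹ ≠ a := fun e => ha2 (by
    conv_lhs => arg 1; rw [← e]
    exact inv_mul_cancel₀ ha)
  have ha1 : a ≠ 1 := fun e => ha2 (by rw [e, one_mul])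
  obtain ⟨X', hX', hs⟩ := upp_peel hX (Fin.cases (by simpa using hai) (fun i => by simpa using Ne.symm ha1))
  obtain ⟨X'', hX'', hs'⟩ := upp_peel hX' (fun _ => fun e => ha1 (by rw [← inv_inv a, ← e, inv_one]))
  have h1 : Sim X'' (Jb k (1 : F)) := by
    refine (sim_tail_upper hX''.1 hX''.2.1 hX''.2.2).trans
      (sim_tail_lower (fun i => by simp [Jb]) (fun i j h => ?_) (fun i j h => ?_)).symm
    · have h' : (i : ℕ) < j := h
      simp [Jb, ne_of_lt h, show ¬ (i : ℕ) = (j : ℕ) + 1 by omega]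
    · have : i ≠ j := fun e => by subst e; omega
      simp [Jb, this, h]
  exact hs.trans ((hs'.trans (h1.blk a⁻¹)).blk a)

/-- The inverse of the canonical form. -/
def canI (k : ℕ) (a : F) : Matrix (Fin (k + 2)) (Fin (k + 2)) F := blk a⁻¹ 0 0 (blk a 0 0 (jbInv k))

theorem canM_canI {a : F} (ha : a ≠ 0) : canM k a * canI k a = 1 := by
  simp [canM, canI, blk_mul, Jb_jbInv, mul_inv_cancel₀ ha, inv_mul_cancel₀ ha, blk_one]

theorem canI_sim {a : F} : Sim (canI k a) (canM k a) :=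
  ((jbInv_sim k).blk a |>.blk a⁻¹).trans (sim_swap _ _ _)

/-- A transvection is the product of the canonical form and a conjugate of it. -/
theorem transvection_fac {a : F} (ha : a ≠ 0) (ha2 : a * a ≠ 1) (e : Fin (k + 1) → F) :
    ∃ N, Sim N (canM k a) ∧ blk 1 0 e 1 = canM k a * N := by
  have hinv : canM k a * canI k a = 1 := canM_canI ha
  refine ⟨canI k a * blk 1 0 e 1, ?_, by rw [← Matrix.mul_assoc, hinv, Matrix.one_mul]⟩
  have h : canI k a * blk 1 0 e 1 = blk a⁻¹ 0 (blk a 0 0 (jbInv k) *ᵥ e) (blk a 0 0 (jbInv k)) := by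
    simp [canI, blk_mul]
  rw [h]
  refine (sim_peel_lower _ _ _ (isUnit_iff_ne_zero.2 ?_)).trans canI_sim
  have hlow : (blk a 0 0 (jbInv k) - a⁻¹ • 1).det = (a - a⁻¹) * ∏ _i : Fin k, (1 - a⁻¹) := by
    rw [← Matrix.det_transpose, Matrix.det_of_isUpperTriangular (M := (blk a 0 0 (jbInv k) - a⁻¹ • 1).transpose)
      (fun i j (hij : j < i) => by
        revert hij
        refine Fin.cases ?_ (fun i' => ?_) i <;> refine Fin.cases ?_ (fun j' => ?_) j <;> intro hij
        · exact absurd hij (lt_irrefl _)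
        · exact absurd hij (by simp [Fin.lt_def])
        · simp [Matrix.one_apply, Ne.symm (Fin.succ_ne_zero _)]
        · have h' : j' < i' := Fin.succ_lt_succ_iff.1 hij
          simp [jbInv, not_le.2 h', Matrix.one_apply, ne_of_lt h', Fin.succ_inj])]
    rw [Fin.prod_univ_succ]
    simp [jbInv]
  rw [hlow]
  refine mul_ne_zero (sub_ne_zero.2 fun e' => ha2 ?_) (Finset.prod_ne_zero_iff.2 fun i _ => sub_ne_zero.2 fun e' => ha2 ?_)
  · conv_lhs => arg 1; rw [e']
    exact inv_mul_cancel₀ ha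
  · rw [show a = 1 by rw [← inv_inv a, ← e', inv_one], one_mul]

/-- A non-trivial matrix `1 + x f` with `f x = 0` is a basic transvection after a change of basis. -/
theorem sim_transvection [Fintype F] {x f : Fin (k + 2) → F} (hx : x ≠ 0) (hf : f ≠ 0) (hfx : f ⬝ᵥ x = 0) :
    ∃ e : Fin (k + 1) → F, Sim (1 + Matrix.vecMulVec x f) (blk 1 0 e 1) := by
  classical
  obtain ⟨i, hi⟩ := Function.ne_iff.1 hf
  rw [Pi.zero_apply] at hi
  obtain ⟨P, Q, hPQ, hQP, hP, hQ⟩ := exists_basis_matrix ((f i)⁻¹ • Pi.single i 1) f (by simp [hi])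
  refine ⟨Fin.tail (Q *ᵥ x), P, Q, hPQ, hQP, ?_⟩
  have h0 : (Q *ᵥ x) 0 = 0 := by rw [← hfx]; simp [Matrix.mulVec, dotProduct, hQ]
  have hf' : f ᵥ* P = Pi.single 0 1 := by
    ext j
    have h1 : (Q * P) 0 j = (f ᵥ* P) j := by simp [Matrix.mul_apply, Matrix.vecMul, dotProduct, hQ]
    rw [← h1, hQP]
    simp [Matrix.one_apply, Pi.single_apply, eq_comm]
  have key : Q * (1 + Matrix.vecMulVec x f) * P = blk 1 0 (Fin.tail (Q *ᵥ x)) 1 := by
    rw [Matrix.mul_add, Matrix.add_mul, Matrix.mul_one, hQP, Matrix.mul_vecMulVec, Matrix.vecMulVec_mul, hf']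
    ext a b
    refine Fin.cases ?_ (fun a' => ?_) a <;> refine Fin.cases ?_ (fun b' => ?_) b <;>
      simp [h0, Matrix.vecMulVec_apply, Matrix.one_apply, Fin.succ_ne_zero, Ne.symm (Fin.succ_ne_zero _), Fin.tail]
  rw [← key, ← Matrix.mul_assoc, ← Matrix.mul_assoc, hPQ, Matrix.one_mul, Matrix.mul_assoc, hPQ, Matrix.mul_one]

theorem SSim.conj {n : ℕ} {A B : Matrix (Fin n) (Fin n) F} (h : SSim A B) : Sim A B := by
  obtain ⟨P, e⟩ := h
  exact ⟨_, _, by rw [← Matrix.SpecialLinearGroup.coe_mul, mul_inv_cancel, Matrix.SpecialLinearGroup.coe_one],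
    by rw [← Matrix.SpecialLinearGroup.coe_mul, inv_mul_cancel, Matrix.SpecialLinearGroup.coe_one], e⟩

/-- The two-conjugate factorisation. -/
theorem exists_two [Fintype F] (h4 : 4 ≤ Fintype.card F) {a : F} (ha : a ≠ 0) (ha2 : a * a ≠ 1)
    (S : Matrix (Fin (k + 2)) (Fin (k + 2)) F) (hS : S.det = 1) (hsc : ∀ μ : F, S = μ • 1 → μ = 1) :
    ∃ A B, SSim A (canM k a) ∧ SSim B (canM k a) ∧ S = A * B := by
  classical
  suffices h : ∃ A B, Sim A (canM k a) ∧ Sim B (canM k a) ∧ S = A * B by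
    obtain ⟨A, B, h1, h2, h3⟩ := h
    exact ⟨A, B, ssim_of_sim h1, ssim_of_sim h2, h3⟩
  by_cases h1 : S = 1
  · exact ⟨canM k a, canI k a, Sim.refl _, canI_sim, by rw [h1, canM_canI ha]⟩
  by_cases hr : (S - 1).rank ≤ 1
  · obtain ⟨x, f, hx, hf, hfx, rfl⟩ : ∃ x f : Fin (k + 2) → F, x ≠ 0 ∧ f ≠ 0 ∧ f ⬝ᵥ x = 0 ∧
        S = 1 + Matrix.vecMulVec x f := by
      obtain ⟨j, hj⟩ : ∃ j, (S - 1).col j ≠ 0 := by
        by_contra hno
        push Not at hno
        exact h1 (sub_eq_zero.1 (Matrix.ext fun i j => congrFun (hno j) i))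
      have hrange : Submodule.span F {(S - 1).col j} = LinearMap.range (S - 1).mulVecLin := by
        refine Submodule.eq_of_le_of_finrank_le ?_ ?_
        · rw [Submodule.span_singleton_le_iff_mem]
          exact ⟨Pi.single j 1, by rw [Matrix.mulVecLin_apply, Matrix.mulVec_single_one]⟩
        · rw [finrank_span_singleton hj]
          exact hr
      have hcol : ∀ l, ∃ s : F, s • (S - 1).col j = (S - 1).col l := fun l => Submodule.mem_span_singleton.1 (by
        rw [hrange]
        exact ⟨Pi.single l 1, by rw [Matrix.mulVecLin_apply, Matrix.mulVec_single_one]⟩)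
      choose f hf using hcol
      have he : S = 1 + Matrix.vecMulVec ((S - 1).col j) f := by
        ext i l
        have h := congrFun (hf l) i
        rw [Matrix.add_apply, Matrix.vecMulVec_apply]
        simp [Matrix.col_apply, mul_comm] at h ⊢
        linear_combination -h
      refine ⟨(S - 1).col j, f, hj, fun h => h1 (by rw [he, h]; simp), ?_, he⟩
      have h2 := hS
      rw [he, Matrix.vecMulVec_eq Unit, Matrix.det_one_add_replicateCol_mul_replicateRow] at h2
      linear_combination h2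
    obtain ⟨e, P, Q, hPQ, hQP, he⟩ := sim_transvection hx hf hfx
    obtain ⟨N, hN, hfac⟩ := transvection_fac ha ha2 e
    refine ⟨P * canM k a * Q, P * N * Q, ⟨P, Q, hPQ, hQP, rfl⟩, Sim.trans ⟨P, Q, hPQ, hQP, rfl⟩ hN, ?_⟩
    rw [he, hfac]
    calc P * (canM k a * N) * Q = P * canM k a * (Q * P) * N * Q := by
          rw [hQP, Matrix.mul_one]; simp only [Matrix.mul_assoc]
      _ = _ := by simp only [Matrix.mul_assoc]
  have hns : ∀ μ : F, S ≠ μ • 1 := fun μ e => h1 (by rw [e, hsc μ e, one_smul])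
  have hinv : Inv S := ⟨hS, by omega, hns⟩
  have hone : (fun _ => 1 : Fin (k + 2) → F) ≠ 0 := fun e => one_ne_zero (congrFun e 0)
  obtain ⟨P, Q, L, X, hPQ, hQP, hLX, hL, hX, -, -⟩ := exists_fac h4 (k + 1) S hS (fun _ => hinv) _ _ hone hone
    (canβ k a) (Fin.cases (by simp [canβ, ha]) (Fin.cases (by simp [canβ, ha]) (fun i => by simp [canβ])))
  obtain ⟨R, T, hRT, hTR, hXe⟩ := upp_sim ha ha2 hX
  have hXi : X * (R * canI k a * T) = 1 := by
    rw [hXe, show R * canM k a * T * (R * canI k a * T) = R * (canM k a * (T * R) * canI k a) * T by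
      simp only [Matrix.mul_assoc], hTR, Matrix.mul_one, canM_canI ha, Matrix.mul_one, hRT]
  refine ⟨P * L * Q, P * (R * canI k a * T) * Q, Sim.trans ⟨P, Q, hPQ, hQP, rfl⟩ (low_sim ha ha2 hL),
    Sim.trans ⟨P, Q, hPQ, hQP, rfl⟩ (Sim.trans ⟨R, T, hRT, hTR, rfl⟩ canI_sim), ?_⟩
  rw [← hLX, show P * (Q * S * P * X) * Q * (P * (R * canI k a * T) * Q) =
    P * Q * S * P * (X * (Q * P) * (R * canI k a * T)) * Q by simp only [Matrix.mul_assoc], hQP, Matrix.mul_one,
    hXi, hPQ, Matrix.one_mul, Matrix.mul_one, Matrix.mul_assoc, hPQ, Matrix.mul_one]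

end Cfsg.Agent.Lie.ClassSq
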