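import Cfsg.Agent.Lib.Lie.Simple
import Cfsg.Agent.Lib.Lie.SL2Hom

/-!
The simple coordinates of the two unipotent subgroups, and the big cell up to conjugation.
-/

set_option autoImplicit false
set_option linter.unusedSectionVars false

namespace Cfsg.Agent.Lie.ClassSq.Exc

open Cfsg.Lie
open scoped MatrixGroups

variable {D : ChevalleyDatum} (hF : Facts D) {F : Type*} [Field F]

/-- The negative roots other than minus the i-th fundamental one. -/
def negNe (D : ChevalleyDatum) (i : Fin D.rank) : List ℕ :=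
  (List.range (D.nroots / 2)).filter fun r => r != D.neg (D.simple i.val)

theorem mem_negNe {i : Fin D.rank} {r : ℕ} : r ∈ negNe D i ↔ r < D.nroots / 2 ∧ r ≠ D.neg (D.simple i.val) := by
  simp [negNe]

include hF

theorem neg_simple_lt (i : Fin D.rank) : D.neg (D.simple i.val) < D.nroots / 2 := by
  by_contra h
  have h1 := (hF.neg_ge_iff (hF.simple_lt i.val i.isLt)).1 (by omega)
  have h2 := hF.simple_ge i.val i.isLt
  omega

theorem refl_negNe (i : Fin D.rank) {r : ℕ} (hr : r ∈ negNe D i) : D.reflectRoot i.val r ∈ negNe D i := by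
  obtain ⟨h1, h2⟩ := mem_negNe.1 hr
  have hr' : r < D.nroots := by omega
  have hp : D.neg r ∈ TorusSys.posNe D i := TorusSys.mem_posNe.2 ⟨(hF.neg_ge_iff hr').2 h1, hF.neg_lt hr',
    fun he => h2 (by rw [← he, hF.neg_neg hr'])⟩
  obtain ⟨q1, q2, q3⟩ := TorusSys.mem_posNe.1 (TorusSys.refl_posNe (hF := hF) i hp)
  rw [hF.refl_neg i.val i.isLt r hr'] at q1 q3
  have hl := hF.refl_lt i.val i.isLt r hr'
  refine mem_negNe.2 ⟨(hF.neg_ge_iff hl).1 q1, fun he => q3 ?_⟩
  rw [he, hF.neg_neg (hF.simple_lt i.val i.isLt)]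

/-- The commutator terms of ±α_i with the roots of either side stay on that side. -/
theorem terms_side (i : Fin D.rank) :
    (∀ s ∈ TorusSys.posNe D i, ∀ c ∈ D.commTerms (D.simple i.val) s, c.1 ∈ TorusSys.posNe D i) ∧
    (∀ s ∈ negNe D i, ∀ c ∈ D.commTerms (D.neg (D.simple i.val)) s, c.1 ∈ negNe D i) ∧
    (∀ s ∈ TorusSys.posNe D i, ∀ c ∈ D.commTerms (D.neg (D.simple i.val)) s, c.1 ∈ TorusSys.posNe D i) ∧
    (∀ s ∈ negNe D i, ∀ c ∈ D.commTerms (D.simple i.val) s, c.1 ∈ negNe D i) := by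
  have hα := hF.simple_lt i.val i.isLt
  have hge := hF.simple_ge i.val i.isLt
  have hnα := neg_simple_lt hF i
  have hpα := hF.psi_pos hα hge
  refine ⟨fun s hs c hc => ?_, fun s hs c hc => ?_, fun s hs c hc => ?_, fun s hs c hc => ?_⟩
  · obtain ⟨h1, h2, h3⟩ := TorusSys.mem_posNe.1 hs
    obtain ⟨hlt, hgt, -⟩ := hF.commTerms_gt hα h2 hge h1 hc
    exact TorusSys.mem_posNe.2 ⟨by omega, hlt, by omega⟩
  · obtain ⟨h1, h2⟩ := mem_negNe.1 hs
    have hs' : s < D.nroots := by omega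
    have hn : D.neg (D.simple i.val) < D.nroots := by omega
    obtain ⟨a1, b1, -⟩ := hF.commTerms_psi hn hs' hc
    have hpsi := hF.commTerms_psi' hn hs' hc
    have hneg : hF.psi s < 0 := by
      have := hF.psi_pos (hF.neg_lt hs') ((hF.neg_ge_iff hs').2 h1)
      rw [hF.psi_neg hs'] at this
      omega
    rw [hF.psi_neg hα] at hpsi
    have a1' : (1 : ℤ) ≤ c.2.2.1 := by exact_mod_cast a1
    have b1' : (1 : ℤ) ≤ c.2.2.2 := by exact_mod_cast b1
    have hc' : c.1 < D.neg (D.simple i.val) :=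
      hF.lt_of_psi_lt (hF.commTerms_lt hn hs' c hc) (by rw [hF.psi_neg hα]; nlinarith)
    exact mem_negNe.2 ⟨by omega, by omega⟩
  · obtain ⟨h1, h2, -⟩ := TorusSys.mem_posNe.1 hs
    have hn : D.neg (D.simple i.val) < D.nroots := by omega
    have hclt := hF.commTerms_lt hn h2 c hc
    obtain ⟨a1, b1, hw⟩ := hF.commTerms_psi hn h2 hc
    have hlin := TorusSys.refl_comb (hF := hF) i hn h2 hclt _ _ hw
    have hpsi := TorusSys.psi_comb (hF := hF) _ _ hlin
    rw [hF.refl_neg i.val i.isLt _ hα, Facts.refl_simple, hF.neg_neg hα] at hpsi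
    obtain ⟨q1, q2, -⟩ := TorusSys.mem_posNe.1 (TorusSys.refl_posNe (hF := hF) i hs)
    have h4 := hF.psi_pos q2 q1
    have a1' : (1 : ℤ) ≤ c.2.2.1 := by exact_mod_cast a1
    have b1' : (1 : ℤ) ≤ c.2.2.2 := by exact_mod_cast b1
    have hgt : D.simple i.val < D.reflectRoot i.val c.1 := hF.lt_of_psi_lt hα (by nlinarith)
    have := TorusSys.refl_posNe (hF := hF) i (r := D.reflectRoot i.val c.1)
      (TorusSys.mem_posNe.2 ⟨by omega, hF.refl_lt i.val i.isLt _ hclt, by omega⟩)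
    rwa [hF.refl_refl i.val i.isLt _ hclt] at this
  · obtain ⟨h1, h2⟩ := mem_negNe.1 hs
    have hs' : s < D.nroots := by omega
    have hclt := hF.commTerms_lt hα hs' c hc
    obtain ⟨a1, b1, hw⟩ := hF.commTerms_psi hα hs' hc
    have hlin := TorusSys.refl_comb (hF := hF) i hα hs' hclt _ _ hw
    have hpsi := TorusSys.psi_comb (hF := hF) _ _ hlin
    rw [Facts.refl_simple, hF.psi_neg hα] at hpsi
    have q1 := (mem_negNe.1 (refl_negNe hF i hs)).1
    have q2 := hF.refl_lt i.val i.isLt s hs'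
    have h4 : hF.psi (D.reflectRoot i.val s) < 0 := by
      have := hF.psi_pos (hF.neg_lt q2) ((hF.neg_ge_iff q2).2 q1)
      rw [hF.psi_neg q2] at this
      omega
    have a1' : (1 : ℤ) ≤ c.2.2.1 := by exact_mod_cast a1
    have b1' : (1 : ℤ) ≤ c.2.2.2 := by exact_mod_cast b1
    have hlt : D.reflectRoot i.val c.1 < D.neg (D.simple i.val) :=
      hF.lt_of_psi_lt (hF.refl_lt i.val i.isLt _ hclt) (by rw [hF.psi_neg hα]; nlinarith)
    have := refl_negNe hF i (r := D.reflectRoot i.val c.1) (mem_negNe.2 ⟨by omega, by omega⟩)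
    rwa [hF.refl_refl i.val i.isLt _ hclt] at this

/-- The positive side: X i t. -/
noncomputable abbrev Xp (i : Fin D.rank) (t : F) : GL D.Idx F := hF.xg (D.simple i.val) t

/-- The negative side: Y i t. -/
noncomputable abbrev Xm (i : Fin D.rank) (t : F) : GL D.Idx F := hF.xg (D.neg (D.simple i.val)) t

/-- The lower unipotent subgroup. -/
noncomputable abbrev Vg (F : Type*) [Field F] : Subgroup (GL D.Idx F) :=
  (hF.tsys F).US (List.range (D.nroots / 2))

/-- The upper unipotent subgroup. -/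
noncomputable abbrev Ug (F : Type*) [Field F] : Subgroup (GL D.Idx F) := (hF.tsys F).U

/-- The positive side without α_i. -/
noncomputable abbrev Up (F : Type*) [Field F] (i : Fin D.rank) : Subgroup (GL D.Idx F) :=
  (hF.tsys F).US (TorusSys.posNe D i)

/-- The negative side without -α_i. -/
noncomputable abbrev Um (F : Type*) [Field F] (i : Fin D.rank) : Subgroup (GL D.Idx F) :=
  (hF.tsys F).US (negNe D i)

theorem xp_norm (i : Fin D.rank) (t : F) :
    Xp hF i t ∈ Subgroup.normalizer (Up hF F i : Set (GL D.Idx F)) ∧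
      Xp hF i t ∈ Subgroup.normalizer (Um hF F i : Set (GL D.Idx F)) := by
  have hα := hF.simple_lt i.val i.isLt
  have hge := hF.simple_ge i.val i.isLt
  refine ⟨(hF.tsys F).x_normalizes hα (fun s hs => ?_) t, (hF.tsys F).x_normalizes hα (fun s hs => ?_) t⟩
  · obtain ⟨h1, h2, -⟩ := TorusSys.mem_posNe.1 hs
    refine ⟨h2, fun he => ?_, fun _ => (terms_side hF i).1 s hs⟩
    have := neg_simple_lt hF i
    omega
  · obtain ⟨h1, h2⟩ := mem_negNe.1 hs
    exact ⟨by omega, h2, fun _ => (terms_side hF i).2.2.2 s hs⟩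

theorem xm_norm (i : Fin D.rank) (t : F) :
    Xm hF i t ∈ Subgroup.normalizer (Up hF F i : Set (GL D.Idx F)) ∧
      Xm hF i t ∈ Subgroup.normalizer (Um hF F i : Set (GL D.Idx F)) := by
  have hα := hF.simple_lt i.val i.isLt
  have hge := hF.simple_ge i.val i.isLt
  have hn := hF.neg_lt hα
  refine ⟨(hF.tsys F).x_normalizes hn (fun s hs => ?_) t, (hF.tsys F).x_normalizes hn (fun s hs => ?_) t⟩
  · obtain ⟨h1, h2, h3⟩ := TorusSys.mem_posNe.1 hs
    exact ⟨h2, by rwa [hF.neg_neg hα], fun _ => (terms_side hF i).2.2.1 s hs⟩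
  · obtain ⟨h1, h2⟩ := mem_negNe.1 hs
    refine ⟨by omega, fun he => ?_, fun _ => (terms_side hF i).2.1 s hs⟩
    rw [hF.neg_neg hα] at he
    omega

theorem xp_conj_um (i : Fin D.rank) (t : F) {v : GL D.Idx F} (hv : v ∈ Um hF F i) :
    Xp hF i t * v * (Xp hF i t)⁻¹ ∈ Um hF F i :=
  (Subgroup.mem_normalizer_iff.1 (xp_norm hF i t).2 v).1 hv

theorem xp_conj_up (i : Fin D.rank) (t : F) {v : GL D.Idx F} (hv : v ∈ Up hF F i) :
    Xp hF i t * v * (Xp hF i t)⁻¹ ∈ Up hF F i :=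
  (Subgroup.mem_normalizer_iff.1 (xp_norm hF i t).1 v).1 hv

theorem xm_conj_um (i : Fin D.rank) (t : F) {v : GL D.Idx F} (hv : v ∈ Um hF F i) :
    Xm hF i t * v * (Xm hF i t)⁻¹ ∈ Um hF F i :=
  (Subgroup.mem_normalizer_iff.1 (xm_norm hF i t).2 v).1 hv

theorem xm_conj_up (i : Fin D.rank) (t : F) {v : GL D.Idx F} (hv : v ∈ Up hF F i) :
    Xm hF i t * v * (Xm hF i t)⁻¹ ∈ Up hF F i :=
  (Subgroup.mem_normalizer_iff.1 (xm_norm hF i t).1 v).1 hv

theorem split_side {L K : List ℕ} {r : ℕ} (hK : ∀ s ∈ K, s = r ∨ s ∈ L)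
    (hn : ∀ t : F, hF.xg r t ∈ Subgroup.normalizer ((hF.tsys F).US L : Set (GL D.Idx F)))
    {g : GL D.Idx F} (hg : g ∈ (hF.tsys F).US K) : ∃ v ∈ (hF.tsys F).US L, ∃ t : F, g = v * hF.xg r t := by
  induction hg using Subgroup.closure_induction with
  | mem g hg =>
    obtain ⟨s, hs, a, rfl⟩ := hg
    rcases hK s hs with rfl | hs'
    · exact ⟨1, one_mem _, a, (one_mul _).symm⟩
    · exact ⟨_, (hF.tsys F).x_mem_US hs' a, 0, by rw [hF.xg_zero, mul_one]⟩
  | one => exact ⟨1, one_mem _, 0, by rw [hF.xg_zero, mul_one]⟩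
  | mul p q _ _ hp hq =>
    obtain ⟨v, hv, a, rfl⟩ := hp
    obtain ⟨w, hw, b, rfl⟩ := hq
    refine ⟨v * (hF.xg r a * w * (hF.xg r a)⁻¹),
      mul_mem hv ((Subgroup.mem_normalizer_iff.1 (hn a) w).1 hw), a + b, ?_⟩
    rw [hF.xg_add]; group
  | inv p _ hp =>
    obtain ⟨v, hv, a, rfl⟩ := hp
    refine ⟨(hF.xg r a)⁻¹ * v⁻¹ * hF.xg r a,
      (Subgroup.mem_normalizer_iff''.1 (hn a) _).1 (inv_mem hv), -a, ?_⟩
    rw [hF.xg_neg]; group

theorem u_split (i : Fin D.rank) {g : GL D.Idx F} (hg : g ∈ Ug hF F) :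
    ∃ v ∈ Up hF F i, ∃ t, g = v * Xp hF i t :=
  (hF.tsys F).U_split i hg

theorem v_split (i : Fin D.rank) {g : GL D.Idx F} (hg : g ∈ Vg hF F) :
    ∃ v ∈ Um hF F i, ∃ t, g = v * Xm hF i t := by
  refine split_side hF (fun s hs => ?_) (fun t => (xm_norm hF i t).2) hg
  by_cases h : s = D.neg (D.simple i.val)
  · exact Or.inl h
  · exact Or.inr (mem_negNe.2 ⟨List.mem_range.1 hs, h⟩)

theorem up_le (i : Fin D.rank) : Up hF F i ≤ Ug hF F := (hF.tsys F).US_posNe_le_U i

theorem um_le (i : Fin D.rank) : Um hF F i ≤ Vg hF F :=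
  (hF.tsys F).US_mono fun _ hr => List.mem_range.2 (mem_negNe.1 hr).1

theorem xp_mem (i : Fin D.rank) (t : F) : Xp hF i t ∈ Ug hF F :=
  (hF.tsys F).x_mem_U (hF.simple_ge i.val i.isLt) (hF.simple_lt i.val i.isLt) t

theorem xm_mem (i : Fin D.rank) (t : F) : Xm hF i t ∈ Vg hF F :=
  (hF.tsys F).x_mem_US (List.mem_range.2 (neg_simple_lt hF i)) t

theorem vg_eq : Vg hF F = D.negUnipotent F :=
  le_antisymm ((hF.tsys F).US_le fun _ hr t => hF.x_mem_negUnipotent (List.mem_range.1 hr) t)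
    (hF.negUnipotent_le fun _ hr t => (hF.tsys F).x_mem_US (List.mem_range.2 hr) t)

theorem u_inter_v {g : GL D.Idx F} (hu : g ∈ Ug hF F) (hv : g ∈ Vg hF F) : g = 1 :=
  hF.B_inter_V ((hF.tsys F).U_le_B hu) (by rwa [← vg_eq hF])

theorem nS_conj_um (i : Fin D.rank) {v : GL D.Idx F} (hv : v ∈ Um hF F i) :
    (hF.tsys F).nS i * v * ((hF.tsys F).nS i)⁻¹ ∈ Um hF F i := by
  have h : Um hF F i ≤ (Um hF F i).comap (MulAut.conj ((hF.tsys F).nS i)).toMonoidHom := by
    refine (hF.tsys F).US_le fun r hr t => ?_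
    show (hF.tsys F).nS i * (hF.tsys F).x r t * ((hF.tsys F).nS i)⁻¹ ∈ Um hF F i
    have := (mem_negNe.1 hr).1
    rw [(hF.tsys F).nS_conj i (by omega)]
    exact (hF.tsys F).x_mem_US (refl_negNe hF i hr) _
  exact h hv

theorem sgn_ne (i : Fin D.rank) {s : ℕ} (hs : s < D.nroots) : hF.sgn F i.val s ≠ 0 :=
  left_ne_zero_of_mul_eq_one (hF.sgn_mul_self i.isLt hs)

theorem xp_unique (i : Fin D.rank) {t : F} (h : Xp hF i t ∈ Up hF F i) : t = 0 := by
  have hα := hF.simple_lt i.val i.isLt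
  have h1 := ((hF.tsys F).nS_conj_posNe i h).1
  have e := (hF.tsys F).nS_conj i hα t
  rw [hF.tsys_x, hF.tsys_x, Facts.refl_simple] at e
  rw [show Xp hF i t = hF.xg (D.simple i.val) t from rfl, e] at h1
  have h2 := u_inter_v hF (up_le hF i h1) (xm_mem hF i _)
  have h3 := congrArg Units.val h2
  rw [Facts.coe_xg, Units.val_one, hF.x_eq_one _ (hF.neg_lt hα)] at h3
  exact (mul_eq_zero.1 h3).resolve_left (sgn_ne hF i hα)

theorem xm_unique (i : Fin D.rank) {t : F} (h : Xm hF i t ∈ Um hF F i) : t = 0 := by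
  have hα := hF.simple_lt i.val i.isLt
  have hn := hF.neg_lt hα
  have h1 := nS_conj_um hF i h
  have e := (hF.tsys F).nS_conj i hn t
  rw [hF.tsys_x, hF.tsys_x, hF.refl_neg i.val i.isLt _ hα, Facts.refl_simple, hF.neg_neg hα] at e
  rw [show Xm hF i t = hF.xg (D.neg (D.simple i.val)) t from rfl, e] at h1
  have h2 := u_inter_v hF (xp_mem hF i _) (um_le hF i h1)
  have h3 := congrArg Units.val h2
  rw [Facts.coe_xg, Units.val_one, hF.x_eq_one _ hα] at h3
  exact (mul_eq_zero.1 h3).resolve_left (sgn_ne hF i hn)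

/-- The coordinate at α_i. -/
noncomputable def cp (i : Fin D.rank) (g : GL D.Idx F) : F :=
  Classical.epsilon fun t => ∃ v ∈ Up hF F i, g = v * Xp hF i t

/-- The coordinate at -α_i. -/
noncomputable def cm (i : Fin D.rank) (g : GL D.Idx F) : F :=
  Classical.epsilon fun t => ∃ v ∈ Um hF F i, g = v * Xm hF i t

theorem cp_eq (i : Fin D.rank) {v g : GL D.Idx F} {t : F} (hv : v ∈ Up hF F i) (hg : g = v * Xp hF i t) :
    cp hF i g = t := by
  obtain ⟨w, hw, e⟩ := Classical.epsilon_spec (p := fun t => ∃ v ∈ Up hF F i, g = v * Xp hF i t) ⟨t, v, hv, hg⟩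
  have h : Xp hF i (cp hF i g - t) ∈ Up hF F i := by
    have e' : Xp hF i (cp hF i g) = w⁻¹ * v * Xp hF i t := by
      rw [mul_assoc, ← hg, eq_inv_mul_iff_mul_eq]; exact e.symm
    rw [show Xp hF i (cp hF i g - t) = hF.xg (D.simple i.val) (cp hF i g + -t) by rw [← sub_eq_add_neg],
      hF.xg_add, hF.xg_neg]
    simp only [Xp] at e'
    rw [e', mul_inv_cancel_right]
    exact mul_mem (inv_mem hw) hv
  exact sub_eq_zero.1 (xp_unique hF i h)

theorem cm_eq (i : Fin D.rank) {v g : GL D.Idx F} {t : F} (hv : v ∈ Um hF F i) (hg : g = v * Xm hF i t) :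
    cm hF i g = t := by
  obtain ⟨w, hw, e⟩ := Classical.epsilon_spec (p := fun t => ∃ v ∈ Um hF F i, g = v * Xm hF i t) ⟨t, v, hv, hg⟩
  have h : Xm hF i (cm hF i g - t) ∈ Um hF F i := by
    have e' : Xm hF i (cm hF i g) = w⁻¹ * v * Xm hF i t := by
      rw [mul_assoc, ← hg, eq_inv_mul_iff_mul_eq]; exact e.symm
    rw [show Xm hF i (cm hF i g - t) = hF.xg (D.neg (D.simple i.val)) (cm hF i g + -t) by rw [← sub_eq_add_neg],
      hF.xg_add, hF.xg_neg]
    simp only [Xm] at e'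
    rw [e', mul_inv_cancel_right]
    exact mul_mem (inv_mem hw) hv
  exact sub_eq_zero.1 (xm_unique hF i h)

theorem cp_spec (i : Fin D.rank) {g : GL D.Idx F} (hg : g ∈ Ug hF F) :
    g * (Xp hF i (cp hF i g))⁻¹ ∈ Up hF F i := by
  obtain ⟨v, hv, t, e⟩ := u_split hF i hg
  rw [cp_eq hF i hv e, e, mul_inv_cancel_right]
  exact hv

theorem cm_spec (i : Fin D.rank) {g : GL D.Idx F} (hg : g ∈ Vg hF F) :
    g * (Xm hF i (cm hF i g))⁻¹ ∈ Um hF F i := by
  obtain ⟨v, hv, t, e⟩ := v_split hF i hg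
  rw [cm_eq hF i hv e, e, mul_inv_cancel_right]
  exact hv

theorem cp_of_mem (i : Fin D.rank) {g : GL D.Idx F} (hg : g ∈ Up hF F i) : cp hF i g = 0 :=
  cp_eq hF i hg (by rw [Xp, hF.xg_zero, mul_one])

theorem cm_of_mem (i : Fin D.rank) {g : GL D.Idx F} (hg : g ∈ Um hF F i) : cm hF i g = 0 :=
  cm_eq hF i hg (by rw [Xm, hF.xg_zero, mul_one])

theorem cp_one (i : Fin D.rank) : cp hF i (1 : GL D.Idx F) = 0 := cp_of_mem hF i (one_mem _)

theorem cm_one (i : Fin D.rank) : cm hF i (1 : GL D.Idx F) = 0 := cm_of_mem hF i (one_mem _)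

theorem mem_up_of_cp (i : Fin D.rank) {g : GL D.Idx F} (hg : g ∈ Ug hF F) (h : cp hF i g = 0) :
    g ∈ Up hF F i := by
  simpa [h, Xp, hF.xg_zero] using cp_spec hF i hg

theorem mem_um_of_cm (i : Fin D.rank) {g : GL D.Idx F} (hg : g ∈ Vg hF F) (h : cm hF i g = 0) :
    g ∈ Um hF F i := by
  simpa [h, Xm, hF.xg_zero] using cm_spec hF i hg

theorem cp_mul (i : Fin D.rank) {g h : GL D.Idx F} (hg : g ∈ Ug hF F) (hh : h ∈ Ug hF F) :
    cp hF i (g * h) = cp hF i g + cp hF i h := by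
  refine cp_eq hF i (mul_mem (cp_spec hF i hg) (xp_conj_up hF i (cp hF i g) (cp_spec hF i hh))) ?_
  simp only [Xp]; rw [hF.xg_add]; group

theorem cm_mul (i : Fin D.rank) {g h : GL D.Idx F} (hg : g ∈ Vg hF F) (hh : h ∈ Vg hF F) :
    cm hF i (g * h) = cm hF i g + cm hF i h := by
  refine cm_eq hF i (mul_mem (cm_spec hF i hg) (xm_conj_um hF i (cm hF i g) (cm_spec hF i hh))) ?_
  simp only [Xm]; rw [hF.xg_add]; group

theorem cp_inv (i : Fin D.rank) {g : GL D.Idx F} (hg : g ∈ Ug hF F) : cp hF i g⁻¹ = -cp hF i g := by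
  have h := cp_mul hF i hg (inv_mem hg)
  rw [mul_inv_cancel, cp_one] at h
  linear_combination -h

theorem cm_inv (i : Fin D.rank) {g : GL D.Idx F} (hg : g ∈ Vg hF F) : cm hF i g⁻¹ = -cm hF i g := by
  have h := cm_mul hF i hg (inv_mem hg)
  rw [mul_inv_cancel, cm_one] at h
  linear_combination -h

theorem cp_x (i : Fin D.rank) {r : ℕ} (h1 : D.nroots / 2 ≤ r) (h2 : r < D.nroots) (t : F) :
    cp hF i (hF.xg r t) = if r = D.simple i.val then t else 0 := by
  split_ifs with h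
  · subst h; exact cp_eq hF i (one_mem _) (one_mul _).symm
  · exact cp_of_mem hF i ((hF.tsys F).x_mem_US (TorusSys.mem_posNe.2 ⟨h1, h2, h⟩) t)

theorem cm_x (i : Fin D.rank) {r : ℕ} (h1 : r < D.nroots / 2) (t : F) :
    cm hF i (hF.xg r t) = if r = D.neg (D.simple i.val) then t else 0 := by
  split_ifs with h
  · subst h; exact cm_eq hF i (one_mem _) (one_mul _).symm
  · exact cm_of_mem hF i ((hF.tsys F).x_mem_US (mem_negNe.2 ⟨h1, h⟩) t)

theorem simple_inj {i j : Fin D.rank} (h : D.simple i.val = D.simple j.val) : i = j := by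
  have e := hF.co_simple i.val i.isLt i.val i.isLt
  rw [h, hF.co_simple j.val j.isLt i.val i.isLt, if_pos rfl] at e
  by_contra hne
  rw [if_neg fun h' => hne (Fin.ext h')] at e
  exact zero_ne_one e

theorem neg_simple_inj {i j : Fin D.rank} (h : D.neg (D.simple i.val) = D.neg (D.simple j.val)) : i = j :=
  simple_inj hF (by rw [← hF.neg_neg (hF.simple_lt i.val i.isLt), h, hF.neg_neg (hF.simple_lt j.val j.isLt)])

theorem cp_xp (i j : Fin D.rank) (t : F) : cp hF i (Xp hF j t) = if i = j then t else 0 := by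
  rw [Xp, cp_x hF i (hF.simple_ge j.val j.isLt) (hF.simple_lt j.val j.isLt)]
  by_cases h : i = j
  · rw [if_pos h, if_pos (by rw [h])]
  · rw [if_neg h, if_neg fun e => h (simple_inj hF e).symm]

theorem cm_xm (i j : Fin D.rank) (t : F) : cm hF i (Xm hF j t) = if i = j then t else 0 := by
  rw [Xm, cm_x hF i (neg_simple_lt hF j)]
  by_cases h : i = j
  · rw [if_pos h, if_pos (by rw [h])]
  · rw [if_neg h, if_neg fun e => h (neg_simple_inj hF e).symm]

/-! ### The torus -/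

theorem torus_mem_H (c : Fin D.rank → Fˣ) : torus D F c ∈ (hF.tsys F).H := by
  rw [hF.tsys_H, hF.diagonalSubgroup_eq F]; exact ⟨c, rfl⟩

theorem torus_mem_group (c : Fin D.rank → Fˣ) : torus D F c ∈ D.group F :=
  hF.borel_le_group (by rw [← hF.tsys_B]; exact (hF.tsys F).H_le_B (torus_mem_H hF c))

theorem torus_conj_mem {L : List ℕ} (hL : ∀ r ∈ L, r < D.nroots) (c : Fin D.rank → Fˣ) {g : GL D.Idx F}
    (hg : g ∈ (hF.tsys F).US L) : torus D F c * g * (torus D F c)⁻¹ ∈ (hF.tsys F).US L :=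
  (hF.tsys F).H_conj_US (torus_mem_H hF c) hL hg

omit hF in
theorem posNe_lt (i : Fin D.rank) : ∀ r ∈ TorusSys.posNe D i, r < D.nroots :=
  fun _ hr => (TorusSys.mem_posNe.1 hr).2.1

omit hF in
theorem negNe_lt (i : Fin D.rank) : ∀ r ∈ negNe D i, r < D.nroots :=
  fun _ hr => by have := (mem_negNe.1 hr).1; omega

omit hF in
theorem negR_lt : ∀ r ∈ List.range (D.nroots / 2), r < D.nroots :=
  fun _ hr => by have := List.mem_range.1 hr; omega

theorem torChar_neg (c : Fin D.rank → Fˣ) {s : ℕ} (hs : s < D.nroots) :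
    (torChar D c (D.neg s) : F) = (torChar D c s : F)⁻¹ := by
  rw [← Units.val_inv_eq_inv_val]
  congr 1
  rw [torChar, torChar, ← Finset.prod_inv_distrib]
  exact Finset.prod_congr rfl fun j _ => by rw [hF.cartan_neg j j.isLt s hs, zpow_neg]

theorem cp_torus (i : Fin D.rank) (c : Fin D.rank → Fˣ) {g : GL D.Idx F} (hg : g ∈ Ug hF F) :
    cp hF i (torus D F c * g * (torus D F c)⁻¹) = (torChar D c (D.simple i.val) : F) * cp hF i g := by
  refine cp_eq hF i (torus_conj_mem hF (posNe_lt i) c (cp_spec hF i hg)) ?_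
  simp only [Xp]; rw [← hF.torus_conj c (hF.simple_lt i.val i.isLt)]
  group

theorem cm_torus (i : Fin D.rank) (c : Fin D.rank → Fˣ) {g : GL D.Idx F} (hg : g ∈ Vg hF F) :
    cm hF i (torus D F c * g * (torus D F c)⁻¹) = (torChar D c (D.simple i.val) : F)⁻¹ * cm hF i g := by
  refine cm_eq hF i (torus_conj_mem hF (negNe_lt i) c (cm_spec hF i hg)) ?_
  simp only [Xm]; rw [← torChar_neg hF c (hF.simple_lt i.val i.isLt),
    ← hF.torus_conj c (hF.neg_lt (hF.simple_lt i.val i.isLt))]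
  group

/-! ### The rank one identity -/

/-- `x_i(b) x_{-i}(a)` in the opposite order. -/
theorem swap_id (i : Fin D.rank) (a b : F) (s : Fˣ) (hs : (s : F) = 1 + a * b) :
    Xp hF i b * Xm hF i a = Xm hF i (a / s) * torus D F (Pi.mulSingle i s) * Xp hF i (b / s) := by
  have R := hF.rankOneRel_simple (F := F) i.val i.isLt
  have hd : R.hom (upS (s : F) * loS (-(s : F)⁻¹) * upS (s : F) * (upS (-1) * loS 1 * upS (-1))) =
      torus D F (Pi.mulSingle i s) := by
    rw [hF.torus_single, hF.hg_eq, hF.ng_eq, hF.ng_eq]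
    simp only [map_mul, RankOneRel.hom_up, RankOneRel.hom_lo, inv_neg, inv_one, neg_neg, mul_assoc]
  rw [← hd]
  simp only [Xp, Xm, ← R.hom_up, ← R.hom_lo, ← map_mul]
  congr 1
  refine Subtype.ext ?_
  have h0 : (s : F) ≠ 0 := s.ne_zero
  ext p q
  fin_cases p <;> fin_cases q <;>
    simp [RankOneRel.entries_mul, RankOneRel.upS_val, RankOneRel.loS_val] <;> field_simp <;>
    first | ring1 | linear_combination hs | linear_combination -hs

/-- The group is generated by the fundamental root elements and their opposites. -/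
theorem group_le_simple {K : Subgroup (GL D.Idx F)}
    (hp : ∀ i : Fin D.rank, ∀ t : F, Xp hF i t ∈ K) (hm : ∀ i : Fin D.rank, ∀ t : F, Xm hF i t ∈ K) :
    D.group F ≤ K := by
  have hn : ∀ i : Fin D.rank, (hF.tsys F).nS i ∈ K := fun i => by
    rw [hF.tsys_nS, hF.ng_eq]
    exact mul_mem (mul_mem (hp i _) (hm i _)) (hp i _)
  have hall : ∀ r, r < D.nroots → ∀ t : F, hF.xg r t ∈ K := by
    refine hF.simple_induction _ (fun i hi => hp ⟨i, hi⟩) (fun i hi r hr ih t => ?_)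
    have h := (hF.tsys F).nS_conj ⟨i, hi⟩ hr (hF.sgn F i r * t)
    rw [← mul_assoc, hF.sgn_mul_self hi hr, one_mul, hF.tsys_x, hF.tsys_x] at h
    rw [← h]
    exact mul_mem (mul_mem (hn _) (ih _)) (inv_mem (hn _))
  rw [hF.group_eq, Subgroup.closure_le]
  rintro g ⟨⟨r, t⟩, rfl⟩
  by_cases hr : r < D.nroots
  · exact hall r hr t
  · simp only [hF.xg_out (not_lt.1 hr), SetLike.mem_coe, one_mem]

theorem vg_le_group : Vg hF F ≤ D.group F :=
  (hF.tsys F).US_le fun r _ t => hF.xg_mem_group r t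

theorem ug_le_group : Ug hF F ≤ D.group F :=
  (hF.tsys F).US_le fun r _ t => hF.xg_mem_group r t

end Cfsg.Agent.Lie.ClassSq.Exc
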