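import Cfsg.Agent.Lib.Lie.ClassSquare.ExcLevi

/-!
The class `z φ(K)` squares to the whole group.
-/

set_option autoImplicit false
set_option linter.unusedSectionVars false

namespace Cfsg.Agent.Lie.ClassSq.Exc

open Cfsg.Lie Matrix
open Cfsg.Agent.Lie.CTA (tv' emb2 ue le' okTri)
open Cfsg.Agent.Lie.SLComm (Low Upp Sim)
open scoped MatrixGroups

variable {F : Type*} [Field F]

/-- A Levi product of two classes extends over both radicals. -/
theorem two_of_levi_inv {G : Type*} [Group G] [Finite G] (V U : Subgroup G) {c : G}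
    (hV : ∀ x ∈ V, c * x * c⁻¹ ∈ V) (hVf : ∀ x ∈ V, c * x * c⁻¹ = x → x = 1)
    (hU : ∀ x ∈ U, c * x * c⁻¹ ∈ U) (hUf : ∀ x ∈ U, c * x * c⁻¹ = x → x = 1)
    (hreal : ∃ w, w * c * w⁻¹ = c⁻¹)
    {p r v u : G} (hp : p⁻¹ * v * p ∈ V) (hr : r⁻¹ * u * r ∈ U) :
    Two c (v * ((p * c * p⁻¹) * (r * c⁻¹ * r⁻¹)) * u) := by
  obtain ⟨x, hx⟩ := (exists_conj_translate V hV hVf hp).1
  obtain ⟨y, hy⟩ := (exists_conj_translate U hU hUf (inv_mem hr)).1
  obtain ⟨w, hw⟩ := hreal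
  have hy' : c⁻¹ * (r⁻¹ * u * r) = y * c⁻¹ * y⁻¹ := by
    have := congrArg (fun g => g⁻¹) hy
    simpa [mul_assoc] using this
  refine ⟨p * x, r * y * w, ?_⟩
  calc v * ((p * c * p⁻¹) * (r * c⁻¹ * r⁻¹)) * u
      = (p * (p⁻¹ * v * p * c) * p⁻¹) * (r * (c⁻¹ * (r⁻¹ * u * r)) * r⁻¹) := by group
    _ = (p * (x * c * x⁻¹) * p⁻¹) * (r * (y * c⁻¹ * y⁻¹) * r⁻¹) := by rw [hx, hy']
    _ = _ := by rw [← hw]; group

theorem tv_mul_apply [Fintype F] {n : ℕ} {i j : Fin n} (h : i ≠ j) (t : F) (A : Matrix.SpecialLinearGroup (Fin n) F)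
    (p q : Fin n) : (tv' i j t * A).1 p q = A.1 p q + if p = i then t * A.1 j q else 0 := by
  show ((tv' i j t).1 * A.1) p q = _
  rw [CTA.tv'_val h, Matrix.add_mul, Matrix.one_mul, Matrix.add_apply]
  by_cases hp : p = i
  · subst hp; rw [if_pos rfl, Matrix.single_mul_apply_same]
  · rw [if_neg hp, Matrix.single_mul_apply_of_ne _ _ _ _ _ hp]

/-- An upper unitriangular product. -/
theorem prod_upper [Fintype F] {k : ℕ} (a : Fin (k + 1) → F) : ∀ l : List (Fin (k + 1)), l.Nodup →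
    let M := (l.map fun m => tv' m.castSucc m.succ (a m)).prod.1
    (∀ i, M i i = 1) ∧ (∀ i j, j < i → M i j = 0) ∧
      ∀ m : Fin (k + 1), M m.castSucc m.succ = if m ∈ l then a m else 0 := by
  intro l
  induction l with
  | nil =>
    intro _
    refine ⟨fun i => by simp, fun i j h => by simp [Matrix.one_apply, (ne_of_lt h).symm], fun m => ?_⟩
    simp [Matrix.one_apply, Fin.castSucc_lt_succ.ne]
  | cons x l ih =>
    intro hl
    obtain ⟨hx, hl'⟩ := List.nodup_cons.1 hl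
    obtain ⟨h1, h2, h3⟩ := ih hl'
    dsimp only at h1 h2 h3 ⊢
    simp only [List.map_cons, List.prod_cons, tv_mul_apply Fin.castSucc_lt_succ.ne]
    set M := (l.map fun m => tv' m.castSucc m.succ (a m)).prod.1
    refine ⟨fun i => ?_, fun i j hij => ?_, fun m => ?_⟩
    · by_cases h : i = x.castSucc
      · subst h
        rw [if_pos rfl, h2 _ _ Fin.castSucc_lt_succ, mul_zero, add_zero, h1]
      · rw [if_neg h, add_zero, h1]
    · by_cases h : i = x.castSucc
      · subst h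
        rw [if_pos rfl, h2 _ _ (hij.trans Fin.castSucc_lt_succ), mul_zero, add_zero, h2 _ _ hij]
      · rw [if_neg h, add_zero, h2 _ _ hij]
    · by_cases h : m = x
      · subst h
        rw [if_pos rfl, h1, mul_one, h3, if_neg hx, zero_add, if_pos (by simp)]
      · rw [if_neg (fun e => h (Fin.castSucc_inj.1 e)), add_zero, h3]
        simp [h]

/-- A lower unitriangular product. -/
theorem prod_lower [Fintype F] {k : ℕ} (a : Fin (k + 1) → F) : ∀ l : List (Fin (k + 1)), l.Nodup →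
    let M := (l.map fun m => tv' m.succ m.castSucc (a m)).prod.1
    (∀ i, M i i = 1) ∧ (∀ i j, i < j → M i j = 0) ∧
      ∀ m : Fin (k + 1), M m.succ m.castSucc = if m ∈ l then a m else 0 := by
  intro l
  induction l with
  | nil =>
    intro _
    refine ⟨fun i => by simp, fun i j h => by simp [Matrix.one_apply, ne_of_lt h], fun m => ?_⟩
    simp [Matrix.one_apply, (Fin.castSucc_lt_succ (i := m)).ne']
  | cons x l ih =>
    intro hl
    obtain ⟨hx, hl'⟩ := List.nodup_cons.1 hl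
    obtain ⟨h1, h2, h3⟩ := ih hl'
    dsimp only at h1 h2 h3 ⊢
    simp only [List.map_cons, List.prod_cons, tv_mul_apply (Fin.castSucc_lt_succ (i := x)).ne']
    set M := (l.map fun m => tv' m.succ m.castSucc (a m)).prod.1
    refine ⟨fun i => ?_, fun i j hij => ?_, fun m => ?_⟩
    · by_cases h : i = x.succ
      · subst h
        rw [if_pos rfl, h2 _ _ Fin.castSucc_lt_succ, mul_zero, add_zero, h1]
      · rw [if_neg h, add_zero, h1]
    · by_cases h : i = x.succ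
      · subst h
        rw [if_pos rfl, h2 _ _ (Fin.castSucc_lt_succ.trans hij), mul_zero, add_zero, h2 _ _ hij]
      · rw [if_neg h, add_zero, h2 _ _ hij]
    · by_cases h : m = x
      · subst h
        rw [if_pos rfl, h1, mul_one, h3, if_neg hx, zero_add, if_pos (by simp)]
      · rw [if_neg (fun e => h (Fin.succ_inj.1 e)), add_zero, h3]
        simp [h]

/-- The group `SL` version of similarity. -/
theorem exists_conj_of_ssim {n : ℕ} {A B : Matrix.SpecialLinearGroup (Fin n) F} (h : SSim A.1 B.1) :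
    ∃ P, A = P * B * P⁻¹ := by
  obtain ⟨P, hP⟩ := h
  exact ⟨P, Subtype.ext (by rw [Matrix.SpecialLinearGroup.coe_mul, Matrix.SpecialLinearGroup.coe_mul]; exact hP)⟩

variable {D : ChevalleyDatum} (hF : Facts D)

theorem cartan_sym_apply (σ : Fin D.rank → Fin D.rank)
    (hsym : ∀ i j : Fin D.rank, D.cartan (σ i).val (D.simple (σ j).val) = D.cartan i.val (D.simple j.val))
    (hσ : Function.Involutive σ) (c : Fin D.rank → Fˣ) (i : Fin D.rank) :
    torChar D (fun j => (c (σ j))⁻¹) (D.simple (σ i).val) = (torChar D c (D.simple i.val))⁻¹ := by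
  rw [torChar, torChar, ← Finset.prod_inv_distrib]
  refine Fintype.prod_equiv hσ.toPerm _ _ fun j => ?_
  simp only [Function.Involutive.coe_toPerm]
  rw [_root_.inv_zpow, ← hsym (σ j) i, hσ j]

include hF

theorem torus_ext {c c' : Fin D.rank → Fˣ}
    (h : ∀ i : Fin D.rank, torChar D c (D.simple i.val) = torChar D c' (D.simple i.val)) :
    torus D F c = torus D F c' := by
  rw [← mul_inv_eq_one, ← map_inv, ← map_mul, coe_torus_eq_one, hF.torChar_eq_one_iff]
  intro i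
  have hinv : torChar D c'⁻¹ (D.simple i.val) = (torChar D c' (D.simple i.val))⁻¹ := by
    simp only [torChar, Pi.inv_apply, _root_.inv_zpow, Finset.prod_inv_distrib]
  rw [torChar_mul, hinv, h, mul_inv_cancel]

/-- An element acting on the fundamental roots as minus a diagram automorphism. -/
def Opp (σ : Fin D.rank → Fin D.rank) (n : GL D.Idx F) : Prop :=
  n ∈ D.group F ∧ ∀ i, ∃ e : F, e ≠ 0 ∧ ∀ t, n * Xp hF i t * n⁻¹ = Xm hF (σ i) (e * t)

theorem opp_torus {σ : Fin D.rank → Fin D.rank} {n : GL D.Idx F} (hn : Opp hF σ n)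
    (hsym : ∀ i j : Fin D.rank, D.cartan (σ i).val (D.simple (σ j).val) = D.cartan i.val (D.simple j.val))
    (hσ : Function.Involutive σ) (hnH : ∀ a ∈ (hF.tsys F).H, n * a * n⁻¹ ∈ (hF.tsys F).H)
    (c : Fin D.rank → Fˣ) :
    n * torus D F c * n⁻¹ = torus D F (fun j => (c (σ j))⁻¹) := by
  have h := hnH _ (torus_mem_H hF c)
  rw [hF.tsys_H, hF.diagonalSubgroup_eq F] at h
  obtain ⟨c', hc'⟩ := h
  rw [← hc']
  refine torus_ext hF fun i => ?_
  obtain ⟨e, he, hconj⟩ := hn.2 (σ i)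
  rw [hσ i] at hconj
  have hα := hF.simple_lt i.val i.isLt
  have h1 := hF.torus_conj c' (hF.neg_lt hα) e
  have h2 : torus D F c' * Xm hF i e * (torus D F c')⁻¹ =
      Xm hF i (e * (torChar D c (D.simple (σ i).val) : F)) := by
    have ht : torus D F c * Xp hF (σ i) 1 * (torus D F c)⁻¹ =
        Xp hF (σ i) (torChar D c (D.simple (σ i).val) : F) := by
      rw [hF.torus_conj c (hF.simple_lt _ (σ i).isLt) 1, mul_one]
    rw [hc', ← hconj, ← ht, show Xm hF i e = n * Xp hF (σ i) 1 * n⁻¹ by rw [hconj, mul_one]]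
    group
  rw [h1] at h2
  have h3 := xg_inj hF (hF.neg_lt hα) h2
  rw [torChar_neg hF c' hα] at h3
  have h4 : (torChar D c' (D.simple i.val) : F)⁻¹ = (torChar D c (D.simple (σ i).val) : F) :=
    mul_right_cancel₀ he (by rw [h3]; ring)
  have h5 := cartan_sym_apply σ hsym hσ c (σ i)
  rw [hσ i] at h5
  rw [h5, eq_inv_iff_mul_eq_one]
  refine Units.ext ?_
  rw [Units.val_mul, Units.val_one, ← h4, mul_inv_cancel₀ (Units.ne_zero _)]

/-- Decidable description of the action of a word as minus a diagram automorphism. -/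
def okOpp (D : ChevalleyDatum) (ω : List (Fin D.rank)) (σ : Fin D.rank → Fin D.rank) : Bool :=
  (List.finRange D.rank).all fun i =>
    actWord D (ω.map Fin.val) (wList D (D.simple i.val)) == wList D (D.neg (D.simple (σ i).val)) &&
      decide (σ (σ i) = i) &&
      (List.finRange D.rank).all fun j =>
        decide (D.cartan (σ i).val (D.simple (σ j).val) = D.cartan i.val (D.simple j.val))

theorem opp_of_ok {ω : List (Fin D.rank)} {σ : Fin D.rank → Fin D.rank} (hok : okOpp D ω σ = true) :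
    Opp hF σ ((hF.tsys F).nw ω) := by
  simp only [okOpp, List.all_eq_true, List.mem_finRange, true_implies, Bool.and_eq_true, beq_iff_eq,
    decide_eq_true_eq] at hok
  refine ⟨hF.monomial_le_group (by rw [← hF.tsys_N]; exact (hF.tsys F).nw_mem_N ω), fun i => ?_⟩
  obtain ⟨e, he, hconj⟩ := (hF.tsys F).nw_conj ω (hF.refSys.α i)
  have hα := hF.simple_lt (σ i).val (σ i).isLt
  have hroot : (hF.refSys.pr ω • hF.refSys.α i : Fin D.nroots).val = D.neg (D.simple (σ i).val) := by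
    refine hF.wList_inj (Fin.isLt _) (hF.neg_lt hα) ?_
    rw [hF.wList_pr]
    exact (hok i).1.1
  refine ⟨e, left_ne_zero_of_mul_eq_one he, fun t => ?_⟩
  rw [hroot] at hconj
  exact hconj t

omit hF in
theorem sigma_of_ok {ω : List (Fin D.rank)} {σ : Fin D.rank → Fin D.rank} (hok : okOpp D ω σ = true) :
    Function.Involutive σ ∧
      ∀ i j : Fin D.rank, D.cartan (σ i).val (D.simple (σ j).val) = D.cartan i.val (D.simple j.val) := by
  simp only [okOpp, List.all_eq_true, List.mem_finRange, true_implies, Bool.and_eq_true, beq_iff_eq,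
    decide_eq_true_eq] at hok
  exact ⟨fun i => (hok i).1.2, fun i j => (hok i).2 j⟩

variable {k : ℕ}

theorem center_lr {f : ℕ → ℤ} (hf : Grade D f) (e : Fin D.rank → Fˣ)
    (he : ∀ i : Fin D.rank, f (D.simple i.val) = 0 → torChar D e (D.simple i.val) = 1) {g : GL D.Idx F}
    (hg : g ∈ LR hF F f) : torus D F e * g = g * torus D F e := by
  have hle : LR hF F f ≤ Subgroup.centralizer {torus D F e} := by
    refine lr_le_range hF hf fun i hi t => ?_
    have hα := hF.simple_lt i.val i.isLt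
    simp only [Subgroup.mem_centralizer_singleton_iff]
    constructor
    · have h := hF.torus_conj e hα t
      rw [he i hi, Units.val_one, one_mul] at h
      exact (mul_inv_eq_iff_eq_mul.1 h).symm
    · have h := hF.torus_conj e (hF.neg_lt hα) t
      rw [torChar_neg hF e hα, he i hi, Units.val_one, inv_one, one_mul] at h
      exact (mul_inv_eq_iff_eq_mul.1 h).symm
  exact (Subgroup.mem_centralizer_singleton_iff.1 (hle hg)).symm

/-- The class of `z φ(K)`. -/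
theorem hasSquare_levi [Fintype F] (h9 : 9 ≤ Fintype.card F)
    (nd : Fin (k + 1) → Fin D.rank) {f : ℕ → ℤ} (hf : Grade D f)
    (hJ : ∀ i : Fin D.rank, f (D.simple i.val) = 0 ↔ ∃ m, nd m = i)
    {φ : Matrix.SpecialLinearGroup (Fin (k + 2)) F →* GL D.Idx F} (hφ : Phi hF nd f φ)
    (K : Matrix.SpecialLinearGroup (Fin (k + 2)) F) (β β' : Fin (k + 2) → F)
    (hupK : ∀ A : Matrix.SpecialLinearGroup (Fin (k + 2)) F, Upp β A.1 → ∃ P, A = P * K * P⁻¹)
    (hloK : ∀ A : Matrix.SpecialLinearGroup (Fin (k + 2)) F, Low β A.1 → ∃ P, A = P * K * P⁻¹)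
    (hinvK : ∀ A : Matrix.SpecialLinearGroup (Fin (k + 2)) F, Low β' A.1 → ∃ P, A = P * K⁻¹ * P⁻¹)
    (hfac : ∀ S : Matrix.SpecialLinearGroup (Fin (k + 2)) F, (∀ μ : F, S.1 ≠ μ • 1) →
      ∃ P R, S = (P * K * P⁻¹) * (R * K⁻¹ * R⁻¹))
    (d d' : Matrix.SpecialLinearGroup (Fin (k + 2)) F) (hd : d.1 = Matrix.diagonal β)
    (hd' : d'.1 = Matrix.diagonal β') (hβ : ∀ i, β i ≠ 0) (hβ' : ∀ i, β' i ≠ 0)
    (e δ : Fin D.rank → Fˣ) (he : ∀ m, torChar D e (D.simple (nd m).val) = 1)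
    (hdφ : φ d = torus D F δ) (σ : Fin D.rank → Fin D.rank) (τ : Fin (k + 1) → Fin (k + 1))
    (hτ : Function.Involutive τ) (hστ : ∀ m, σ (nd m) = nd (τ m)) (hde : ∀ i, e (σ i) = e i)
    (hdφ' : φ d' = torus D F fun i => (δ (σ i))⁻¹)
    {ω : List (Fin D.rank)} (hok : okOpp D ω σ = true)
    (hχ : ∀ r, r < D.nroots → f r ≠ 0 → (torChar D (e * δ) r : F) ≠ 1)
    (hpat : ∀ g ∈ D.group F, g ≠ 1 → ∃ v c u, St hF g v c u ∧
      (∀ i, f (D.simple i.val) ≠ 0 → c i = 1) ∧ ∃ m, cp hF (nd m) u ≠ 0) :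
    HasSquare ↥(D.group F) := by
  classical
  obtain ⟨γ, hγ⟩ := exists_generator (F := F)
  obtain ⟨hσ, hsym⟩ := sigma_of_ok hok
  have hf0 : ∀ m, f (D.simple (nd m).val) = 0 := fun m => (hJ _).2 ⟨m, rfl⟩
  have hLG : LR hF F f ≤ D.group F := (hF.tsys F).US_le fun r _ t => hF.xg_mem_group r t
  have hφG : ∀ g, φ g ∈ D.group F := fun g => hLG (hφ.range_eq ▸ ⟨g, rfl⟩)
  have hz : ∀ g, torus D F e * φ g = φ g * torus D F e := fun g =>
    center_lr hF hf e (fun i hi => by obtain ⟨m, rfl⟩ := (hJ i).1 hi; exact he m) (hφ.range_eq ▸ ⟨g, rfl⟩)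
  set c0 := torus D F e * φ K with hc0
  have hc0G : c0 ∈ D.group F := mul_mem (torus_mem_group hF e) (hφG K)
  have hnorm : ∀ g, φ g ∈ Subgroup.normalizer (RU hF F f : Set (GL D.Idx F)) ∧
      φ g ∈ Subgroup.normalizer (RV hF F f : Set (GL D.Idx F)) := fun g =>
    ⟨(lr_norm hF hf).1 (hφ.range_eq ▸ ⟨g, rfl⟩), (lr_norm hF hf).2 (hφ.range_eq ▸ ⟨g, rfl⟩)⟩
  -- the conjugates of c0 in the two Borel subgroups
  let Nu := ((List.finRange (k + 1)).map fun m => tv' m.castSucc m.succ (1 : F)).prod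
  let Nl := ((List.finRange (k + 1)).map fun m => tv' m.succ m.castSucc (1 : F)).prod
  have hNu : φ Nu ∈ Ug hF F := by
    rw [map_list_prod, List.map_map]
    refine Subgroup.list_prod_mem _ fun x hx => ?_
    obtain ⟨m, -, rfl⟩ := List.mem_map.1 hx
    show φ (tv' m.castSucc m.succ 1) ∈ Ug hF F
    rw [hφ.up]; exact xp_mem hF _ _
  have hNl : φ Nl ∈ Vg hF F := by
    rw [map_list_prod, List.map_map]
    refine Subgroup.list_prod_mem _ fun x hx => ?_
    obtain ⟨m, -, rfl⟩ := List.mem_map.1 hx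
    show φ (tv' m.succ m.castSucc 1) ∈ Vg hF F
    rw [hφ.lo]; exact xm_mem hF _ _
  obtain ⟨u1, u2, u3⟩ := prod_upper (fun _ => (1 : F)) (List.finRange (k + 1)) (List.nodup_finRange _)
  obtain ⟨l1, l2, l3⟩ := prod_lower (fun _ => (1 : F)) (List.finRange (k + 1)) (List.nodup_finRange _)
  obtain ⟨Pu, hPu⟩ := hupK (d * Nu) (by
    rw [Matrix.SpecialLinearGroup.coe_mul, hd]
    refine ⟨fun i => by rw [Matrix.diagonal_mul, u1, mul_one],
      fun i j hij => by rw [Matrix.diagonal_mul, u2 i j hij, mul_zero], fun i j hij => ?_⟩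
    obtain ⟨m, rfl, rfl⟩ : ∃ m : Fin (k + 1), i = m.castSucc ∧ j = m.succ :=
      ⟨⟨i.val, by omega⟩, Fin.ext rfl, Fin.ext (by simp; omega)⟩
    rw [Matrix.diagonal_mul, u3, if_pos (List.mem_finRange m), mul_one]
    exact hβ _)
  obtain ⟨Pl, hPl⟩ := hloK (d * Nl) (by
    rw [Matrix.SpecialLinearGroup.coe_mul, hd]
    refine ⟨fun i => by rw [Matrix.diagonal_mul, l1, mul_one],
      fun i j hij => by rw [Matrix.diagonal_mul, l2 i j hij, mul_zero], fun i j hij => ?_⟩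
    obtain ⟨m, rfl, rfl⟩ : ∃ m : Fin (k + 1), i = m.succ ∧ j = m.castSucc :=
      ⟨⟨j.val, by omega⟩, Fin.ext (by simp; omega), Fin.ext rfl⟩
    rw [Matrix.diagonal_mul, l3, if_pos (List.mem_finRange m), mul_one]
    exact hβ _)
  have hconj : ∀ P N, d * N = P * K * P⁻¹ → torus D F (e * δ) * φ N = φ P * c0 * (φ P)⁻¹ := by
    intro P N h
    rw [map_mul, mul_assoc, ← hdφ, ← map_mul, h, map_mul, map_mul, map_inv, hc0, ← mul_assoc, ← mul_assoc, hz P]
    simp only [mul_assoc]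
  have hfree : ∀ (R : Subgroup (GL D.Idx F)) (C P : GL D.Idx F), P ∈ Subgroup.normalizer (R : Set (GL D.Idx F)) →
      C = P * c0 * P⁻¹ → (∀ x ∈ R, C * x * C⁻¹ ∈ R ∧ (C * x * C⁻¹ = x → x = 1)) →
      ∀ x ∈ R, c0 * x * c0⁻¹ ∈ R ∧ (c0 * x * c0⁻¹ = x → x = 1) := by
    intro R C P hP hC h x hx
    have hy : P * x * P⁻¹ ∈ R := (Subgroup.mem_normalizer_iff.1 hP x).1 hx
    have e1 : C * (P * x * P⁻¹) * C⁻¹ = P * (c0 * x * c0⁻¹) * P⁻¹ := by rw [hC]; group
    obtain ⟨h1, h2⟩ := h _ hy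
    rw [e1] at h1 h2
    exact ⟨(Subgroup.mem_normalizer_iff.1 hP _).2 h1,
      fun hfix => conj_eq_one_iff.1 (h2 (by rw [hfix]))⟩
  have hU := hfree (RU hF F f) _ _ (hnorm Pu).1 (hconj Pu Nu hPu) (free_pos hF hf (e * δ) hNu fun r hr =>
    hχ r (mem_posR.1 hr).2.1 (mem_posR.1 hr).2.2)
  have hV := hfree (RV hF F f) _ _ (hnorm Pl).2 (hconj Pl Nl hPl) (free_neg hF hf (e * δ) hNl fun r hr =>
    hχ r (by have := (mem_negR.1 hr).1; omega) (mem_negR.1 hr).2)
  -- reality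
  have hreal : ∃ w ∈ D.group F, w * c0 * w⁻¹ = c0⁻¹ := by
    have hn := opp_of_ok hF (F := F) hok
    set n := (hF.tsys F).nw ω with hnd
    have hnT := opp_torus hF hn hsym hσ fun a ha => (hF.tsys F).nw_H ω ha
    choose ε hε0 hε using hn.2
    let Nl' := ((List.finRange (k + 1)).map τ |>.map fun m => tv' m.succ m.castSucc (ε (nd (τ m)))).prod
    have hnN : n * φ Nu * n⁻¹ = φ Nl' := by
      rw [← MulAut.conj_apply, map_list_prod, map_list_prod, map_list_prod, List.map_map, List.map_map, List.map_map,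
        List.map_map]
      congr 1
      refine List.map_congr_left fun m _ => ?_
      simp only [Function.comp_apply, MulAut.conj_apply, hφ.up, hφ.lo, hε, mul_one, hστ, hτ m]
    obtain ⟨m1, m2, m3⟩ := prod_lower (fun m => ε (nd (τ m))) ((List.finRange (k + 1)).map τ)
      ((List.nodup_finRange _).map hτ.injective)
    obtain ⟨P', hP'⟩ := hinvK (d' * Nl') (by
      rw [Matrix.SpecialLinearGroup.coe_mul, hd']
      refine ⟨fun i => by rw [Matrix.diagonal_mul, m1, mul_one],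
        fun i j hij => by rw [Matrix.diagonal_mul, m2 i j hij, mul_zero], fun i j hij => ?_⟩
      obtain ⟨m, rfl, rfl⟩ : ∃ m : Fin (k + 1), i = m.succ ∧ j = m.castSucc :=
        ⟨⟨j.val, by omega⟩, Fin.ext (by simp; omega), Fin.ext rfl⟩
      rw [Matrix.diagonal_mul, m3, if_pos (List.mem_map.2 ⟨τ m, List.mem_finRange _, hτ m⟩)]
      exact mul_ne_zero (hβ' _) (hε0 _))
    refine ⟨(φ P')⁻¹ * n * φ Pu, mul_mem (mul_mem (inv_mem (hφG _)) hn.1) (hφG _), ?_⟩
    have h1 : n * (torus D F (e * δ) * φ Nu) * n⁻¹ = (torus D F e)⁻¹ * φ (d' * Nl') := by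
      rw [show n * (torus D F (e * δ) * φ Nu) * n⁻¹ = (n * torus D F (e * δ) * n⁻¹) * (n * φ Nu * n⁻¹) by group,
        hnT, hnN, map_mul, hdφ', ← mul_assoc, ← map_inv, ← map_mul]
      congr 2
      funext i
      simp [hde, mul_comm]
    rw [show (φ P')⁻¹ * n * φ Pu * c0 * ((φ P')⁻¹ * n * φ Pu)⁻¹ =
      (φ P')⁻¹ * (n * (φ Pu * c0 * (φ Pu)⁻¹) * n⁻¹) * φ P' by group, ← hconj Pu Nu hPu, h1, hP', map_mul, map_mul,
      map_inv, map_inv, hc0, _root_.mul_inv_rev]
    have hcomm : (torus D F e)⁻¹ * φ P' = φ P' * (torus D F e)⁻¹ := by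
      rw [inv_mul_eq_iff_eq_mul, ← mul_assoc, hz, mul_inv_cancel_right]
    have hcomm2 : (φ K)⁻¹ * (torus D F e)⁻¹ = (torus D F e)⁻¹ * (φ K)⁻¹ := by
      rw [← _root_.mul_inv_rev, ← _root_.mul_inv_rev, hz K]
    rw [hcomm2, show (φ P')⁻¹ * ((torus D F e)⁻¹ * (φ P' * (φ K)⁻¹ * (φ P')⁻¹)) * φ P' =
      (φ P')⁻¹ * ((torus D F e)⁻¹ * φ P') * (φ K)⁻¹ by group, hcomm]
    group
  haveI : Finite (GL D.Idx F) := inferInstance
  let c : ↥(D.group F) := ⟨c0, hc0G⟩
  refine ⟨c, fun g => ?_⟩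
  obtain ⟨w, hw, hwc⟩ := hreal
  by_cases hg1 : (g : GL D.Idx F) = 1
  · refine ⟨1, ⟨w, hw⟩, Subtype.ext ?_⟩
    simp only [Subgroup.coe_mul, Subgroup.coe_inv, Subgroup.coe_one, hg1, c]
    rw [hwc]; group
  obtain ⟨v, cc, u, ⟨hv, hu, z, hzG, hzel⟩, hcc, m0, hm0⟩ := hpat g g.2 hg1
  obtain ⟨b, hb, a, ⟨haL, haV⟩, rfl⟩ := v_levi hF hf hv
  obtain ⟨a', ⟨haL', haU'⟩, b', hb', rfl⟩ := u_levi hF hf hu
  have hTr : torus D F cc ∈ φ.range := by
    suffices h : cc ∈ φ.range.comap (torus D F) from h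
    rw [← Finset.univ_prod_mulSingle cc]
    refine Subgroup.prod_mem _ fun i _ => ?_
    show torus D F (Pi.mulSingle i (cc i)) ∈ φ.range
    by_cases hi : f (D.simple i.val) = 0
    · obtain ⟨m, rfl⟩ := (hJ i).1 hi
      obtain ⟨x, hx, -⟩ := hφ.diag m (cc (nd m))
      exact ⟨x, hx⟩
    · rw [hcc i hi, Pi.mulSingle_one, map_one]; exact one_mem _
  obtain ⟨S, hS⟩ : a * torus D F cc * a' ∈ φ.range :=
    mul_mem (mul_mem (hφ.range_eq ▸ haL) hTr) (hφ.range_eq ▸ haL')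
  have hns : ∀ μ : F, S.1 ≠ μ • 1 := by
    intro μ hμ
    obtain ⟨x, hx, -⟩ := hφ.diag m0 γ
    have hSx : x * S = S * x := Subtype.ext (by
      rw [Matrix.SpecialLinearGroup.coe_mul, Matrix.SpecialLinearGroup.coe_mul, hμ]; simp)
    have hc := congrArg φ hSx
    rw [map_mul, map_mul, hS, hx] at hc
    set T' := torus D F (Pi.mulSingle (nd m0) γ)
    set T := torus D F cc
    have hTT : T' * T = T * T' := by rw [← map_mul, mul_comm, map_mul]
    have e1 : a⁻¹ * (T' * a * T'⁻¹) = T * a' * (T' * a' * T'⁻¹)⁻¹ * T⁻¹ := by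
      calc a⁻¹ * (T' * a * T'⁻¹) = a⁻¹ * (T' * (a * T * a')) * a'⁻¹ * T⁻¹ * T'⁻¹ := by group
        _ = a⁻¹ * (a * T * a' * T') * a'⁻¹ * T⁻¹ * T'⁻¹ := by rw [hc]
        _ = T * a' * T' * a'⁻¹ * (T' * T)⁻¹ := by group
        _ = _ := by rw [hTT]; group
    have hV1 : a⁻¹ * (T' * a * T'⁻¹) ∈ Vg hF F := mul_mem (inv_mem haV) (torus_conj_mem hF (fun r hr => by
      have := List.mem_range.1 hr; omega) _ haV)
    have hU1 : a' * (T' * a' * T'⁻¹)⁻¹ ∈ Ug hF F :=
      mul_mem haU' (inv_mem (torus_conj_mem hF TorusSys.posL_lt _ haU'))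
    have hU2 : T * (a' * (T' * a' * T'⁻¹)⁻¹) * T⁻¹ ∈ Ug hF F := torus_conj_mem hF TorusSys.posL_lt _ hU1
    have h1 := u_inter_v hF hU2 (by
      rw [show T * (a' * (T' * a' * T'⁻¹)⁻¹) * T⁻¹ = T * a' * (T' * a' * T'⁻¹)⁻¹ * T⁻¹ by group, ← e1]
      exact hV1)
    rw [conj_eq_one_iff, mul_inv_eq_one] at h1
    have h2 := congrArg (cp hF (nd m0)) h1
    rw [cp_torus hF _ _ haU', torChar_single, hF.cartan_simple _ (nd m0).isLt, Units.val_zpow_eq_zpow_val] at h2
    have hb0 : cp hF (nd m0) b' = 0 := cp_of_mem hF _ ((hF.tsys F).US_mono (fun r hr => by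
      obtain ⟨q1, q2, q3⟩ := mem_posR.1 hr
      exact TorusSys.mem_posNe.2 ⟨q1, q2, fun h => q3 (h ▸ hf0 m0)⟩) hb')
    have hu' : b' ∈ Ug hF F := (hF.tsys F).US_mono (fun r hr =>
      Facts.mem_posL.2 ⟨(mem_posR.1 hr).1, (mem_posR.1 hr).2.1⟩) hb'
    rw [cp_mul hF _ haU' hu', hb0, add_zero] at hm0
    refine pow_ne_one_of_lt γ hγ (i := 2) (by norm_num) (by omega) ?_
    rw [zpow_ofNat] at h2
    exact mul_right_cancel₀ hm0 (by rw [one_mul]; exact h2.symm)
  obtain ⟨P, R, hPR⟩ := hfac S hns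
  have hb1 : b ∈ D.group F := by
    refine (hF.tsys F).US_le (fun r _ t => hF.xg_mem_group r t) hb
  have hb1' : b' ∈ D.group F := (hF.tsys F).US_le (fun r _ t => hF.xg_mem_group r t) hb'
  let G := D.group F
  have hval : el (b * a) cc (a' * b') = b * ((φ P * c0 * (φ P)⁻¹) * (φ R * c0⁻¹ * (φ R)⁻¹)) * b' := by
    rw [el, show b * a * torus D F cc * (a' * b') = b * (a * torus D F cc * a') * b' by group, ← hS, hPR]
    congr 2
    simp only [map_mul, map_inv, hc0, _root_.mul_inv_rev]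
    have hR : φ R * ((φ K)⁻¹ * (torus D F e)⁻¹) = (torus D F e)⁻¹ * (φ R * (φ K)⁻¹) := by
      rw [← mul_assoc, eq_inv_mul_iff_mul_eq, ← mul_assoc, ← map_inv, ← map_mul, hz, mul_assoc,
        mul_inv_cancel, mul_one]
    have hP : φ P * (torus D F e * φ K) = torus D F e * (φ P * φ K) := by rw [← mul_assoc, ← hz P, mul_assoc]
    rw [hP, hR]
    have hz2 : torus D F e * (φ P * φ K * (φ P)⁻¹) = φ P * φ K * (φ P)⁻¹ * torus D F e := by
      rw [← map_inv, ← map_mul, ← map_mul, hz]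
    rw [show torus D F e * (φ P * φ K) * (φ P)⁻¹ = torus D F e * (φ P * φ K * (φ P)⁻¹) by group, hz2]
    group
  have hsub : ∀ (R : Subgroup (GL D.Idx F)), (∀ x ∈ R, c0 * x * c0⁻¹ ∈ R ∧ (c0 * x * c0⁻¹ = x → x = 1)) →
      (∀ x ∈ R.subgroupOf G, c * x * c⁻¹ ∈ R.subgroupOf G) ∧ (∀ x ∈ R.subgroupOf G, c * x * c⁻¹ = x → x = 1) := by
    intro R h
    refine ⟨fun x hx => ?_, fun x hx hfix => ?_⟩
    · rw [Subgroup.mem_subgroupOf] at hx ⊢
      simpa using (h _ hx).1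
    · rw [Subgroup.mem_subgroupOf] at hx
      exact Subtype.ext (by simpa using (h _ hx).2 (by simpa using congrArg Subtype.val hfix))
  have key := two_of_levi_inv ((RV hF F f).subgroupOf G) ((RU hF F f).subgroupOf G) (c := c)
    (hsub _ hV).1 (hsub _ hV).2 (hsub _ hU).1 (hsub _ hU).2
    ⟨⟨w, hw⟩, Subtype.ext (by simpa [c] using hwc)⟩
    (p := ⟨φ P, hφG P⟩) (r := ⟨φ R, hφG R⟩) (v := ⟨b, hb1⟩) (u := ⟨b', hb1'⟩)
    (by rw [Subgroup.mem_subgroupOf]; exact (Subgroup.mem_normalizer_iff''.1 (hnorm P).2 b).1 hb)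
    (by rw [Subgroup.mem_subgroupOf]; exact (Subgroup.mem_normalizer_iff''.1 (hnorm R).1 b').1 hb')
  refine Two.of_conj ⟨z, hzG⟩ ?_
  convert key using 1
  exact Subtype.ext (by simp [hzel, hval, c])

end Cfsg.Agent.Lie.ClassSq.Exc
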