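import Cfsg.Agent.Lib.Lie.ClassSquare.ExcClass

/-!
The two kinds of classes of the special linear groups used inside the exceptional groups, and the regular class.
-/

set_option autoImplicit false
set_option linter.unusedSectionVars false

namespace Cfsg.Agent.Lie.ClassSq.Exc

open Cfsg.Lie Matrix
open Cfsg.Agent.Lie.CTA (tv')
open Cfsg.Agent.Lie.SLComm
open scoped MatrixGroups

variable {F : Type*} [Field F] [Fintype F] {k : ℕ}

/-- Conjugation in SL of two determinant one matrices similar to one block form. -/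
theorem conj_of_blk {x : F} {T' : Matrix (Fin (k + 1)) (Fin (k + 1)) F}
    {A B : Matrix.SpecialLinearGroup (Fin (k + 2)) F} (hA : Sim A.1 (blk x 0 0 T')) (hB : Sim B.1 (blk x 0 0 T')) :
    ∃ P, A = P * B * P⁻¹ := by
  obtain ⟨P, Q, hPQ, hQP, eA⟩ := hA
  obtain ⟨R, S, hRS, hSR, eB⟩ := hB
  have hd : P.det * S.det * (Q.det * R.det) = 1 := by
    have h1 : P.det * Q.det = 1 := by rw [← Matrix.det_mul, hPQ, Matrix.det_one]
    have h2 : R.det * S.det = 1 := by rw [← Matrix.det_mul, hRS, Matrix.det_one]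
    linear_combination (R.det * S.det) * h1 + h2
  have hne : P.det * S.det ≠ 0 := left_ne_zero_of_mul_eq_one hd
  obtain ⟨d, hdd⟩ : ∃ d, d * (P.det * S.det) = 1 := ⟨_, inv_mul_cancel₀ hne⟩
  let E : Matrix (Fin (k + 2)) (Fin (k + 2)) F := blk d 0 0 1
  let E' : Matrix (Fin (k + 2)) (Fin (k + 2)) F := blk (P.det * S.det) 0 0 1
  have hEE : E * E' = 1 := by simp [E, E', blk_mul, hdd, blk_one]
  have hdet : (P * E * S).det = 1 := by
    rw [Matrix.det_mul, Matrix.det_mul, blk_det_lower, Matrix.det_one, mul_one]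
    linear_combination hdd
  refine ⟨⟨P * E * S, hdet⟩, Subtype.ext ?_⟩
  have hi : (⟨P * E * S, hdet⟩⁻¹ : Matrix.SpecialLinearGroup (Fin (k + 2)) F).1 = R * E' * Q := by
    have h : P * E * S * (R * E' * Q) = 1 := by
      rw [show P * E * S * (R * E' * Q) = P * E * (S * R) * E' * Q by simp only [Matrix.mul_assoc], hSR,
        Matrix.mul_one, Matrix.mul_assoc P E, hEE, Matrix.mul_one, hPQ]
    rw [← Matrix.inv_eq_right_inv h, Matrix.inv_def, hdet, Ring.inverse_one, one_smul]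
    exact Matrix.SpecialLinearGroup.coe_inv (⟨P * E * S, hdet⟩ : Matrix.SpecialLinearGroup (Fin (k + 2)) F)
  show A.1 = P * E * S * B.1 * ((⟨P * E * S, hdet⟩⁻¹ : Matrix.SpecialLinearGroup (Fin (k + 2)) F)).1
  rw [hi]
  show A.1 = P * E * S * B.1 * (R * E' * Q)
  have hcomm : E * blk x 0 0 T' = blk x 0 0 T' * E := by simp [E, blk_mul, mul_comm]
  symm
  calc P * E * S * B.1 * (R * E' * Q) = P * E * S * (R * blk x 0 0 T' * S) * (R * E' * Q) := by rw [eB]
    _ = P * E * (S * R) * blk x 0 0 T' * (S * R) * E' * Q := by simp only [Matrix.mul_assoc]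
    _ = P * (E * blk x 0 0 T') * E' * Q := by
        rw [hSR]; simp only [Matrix.mul_one, Matrix.one_mul, Matrix.mul_assoc]
    _ = P * blk x 0 0 T' * (E * E') * Q := by rw [hcomm]; simp only [Matrix.mul_assoc]
    _ = A.1 := by rw [hEE, Matrix.mul_one, eA]

theorem low_rev {n : ℕ} {β : Fin n → F} {A : Matrix (Fin n) (Fin n) F} (h : Low β A) :
    Upp (fun i => β (Fin.rev i)) (Matrix.reindex Fin.revPerm Fin.revPerm A) := by
  obtain ⟨h1, h2, h3⟩ := h
  refine ⟨fun i => by simp [h1], fun i j hij => ?_, fun i j hij => ?_⟩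
  · simpa using h2 _ _ (Fin.rev_lt_rev.2 hij)
  · simpa using h3 (Fin.rev i) (Fin.rev j) (by simp [Fin.val_rev]; omega)

/-! ### The canonical class -/

/-- The canonical element. -/
noncomputable def canK (k : ℕ) (a : Fˣ) : Matrix.SpecialLinearGroup (Fin (k + 2)) F := canS k (a : F) a.ne_zero

theorem canK_conj {a : Fˣ} {A : Matrix.SpecialLinearGroup (Fin (k + 2)) F} (h : Sim A.1 (canM k (a : F))) :
    (∃ P, A = P * canK k a * P⁻¹) ∧ ∃ P, A = P * (canK k a)⁻¹ * P⁻¹ := by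
  obtain ⟨P, hP⟩ := exists_conj_of_ssim (A := A) (B := canK k a) (ssim_of_sim h)
  have hi : ((canK k a)⁻¹).1 = canI k (a : F) := by
    have h : (canK k a).1 * canI k (a : F) = 1 := canM_canI a.ne_zero
    rw [← Matrix.inv_eq_right_inv h, Matrix.inv_def, (canK k a).2, Ring.inverse_one, one_smul]
    exact Matrix.SpecialLinearGroup.coe_inv (canK k a)
  obtain ⟨Q, hQ⟩ := exists_conj_of_ssim (A := (canK k a)⁻¹) (B := canK k a) (by
    rw [hi]; exact ssim_of_sim canI_sim)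
  refine ⟨⟨P, hP⟩, P * Q⁻¹, ?_⟩
  rw [hP, hQ]; group

theorem canK_fac (h9 : 9 ≤ Fintype.card F) {a : Fˣ} (ha2 : (a : F) * a ≠ 1)
    (S : Matrix.SpecialLinearGroup (Fin (k + 2)) F) (hS : ∀ μ : F, S.1 ≠ μ • 1) :
    ∃ P R, S = (P * canK k a * P⁻¹) * (R * (canK k a)⁻¹ * R⁻¹) := by
  obtain ⟨A, B, hA, hB, e⟩ := exists_two (by omega) a.ne_zero ha2 S.1 S.2 (fun μ h => absurd h (hS μ))
  obtain ⟨P, hP⟩ := hA
  obtain ⟨R, hR⟩ := hB
  let B' : Matrix.SpecialLinearGroup (Fin (k + 2)) F := R * canK k a * R⁻¹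
  obtain ⟨R', hR'⟩ := (canK_conj (A := B') (a := a) (by
    show Sim ((R * canK k a * R⁻¹).1) (canM k (a : F))
    refine ⟨R.1, (R⁻¹).1, ?_, ?_, rfl⟩
    · rw [← Matrix.SpecialLinearGroup.coe_mul, mul_inv_cancel, Matrix.SpecialLinearGroup.coe_one]
    · rw [← Matrix.SpecialLinearGroup.coe_mul, inv_mul_cancel, Matrix.SpecialLinearGroup.coe_one])).2
  refine ⟨P, R', ?_⟩
  rw [← hR']
  exact Subtype.ext (e.trans (by rw [hP, hR]; rfl))

theorem canK_upp {a : Fˣ} (ha2 : (a : F) * a ≠ 1) (A : Matrix.SpecialLinearGroup (Fin (k + 2)) F)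
    (h : Upp (canβ k (a : F)) A.1) : ∃ P, A = P * canK k a * P⁻¹ :=
  (canK_conj (upp_sim a.ne_zero ha2 h)).1

theorem canK_low {a : Fˣ} (ha2 : (a : F) * a ≠ 1) (A : Matrix.SpecialLinearGroup (Fin (k + 2)) F)
    (h : Low (canβ k (a : F)) A.1) : ∃ P, A = P * canK k a * P⁻¹ :=
  (canK_conj (low_sim a.ne_zero ha2 h)).1

theorem canK_low_inv {a : Fˣ} (ha2 : (a : F) * a ≠ 1) (A : Matrix.SpecialLinearGroup (Fin (k + 2)) F)
    (h : Low (canβ k ((a : F)⁻¹)) A.1) : ∃ P, A = P * (canK k a)⁻¹ * P⁻¹ := by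
  refine (canK_conj ((low_sim (inv_ne_zero a.ne_zero) ?_ h).trans ?_)).2
  · rw [← mul_inv]; exact fun h1 => ha2 (inv_eq_one.1 h1)
  · rw [canM, canM, inv_inv]; exact sim_swap _ _ _

theorem canK_low_rev {a : Fˣ} (ha2 : (a : F) * a ≠ 1) (A : Matrix.SpecialLinearGroup (Fin (k + 2)) F)
    (h : Low (fun i => canβ k (a : F) (Fin.rev i)) A.1) : ∃ P, A = P * (canK k a)⁻¹ * P⁻¹ := by
  refine (canK_conj ((sim_reindex Fin.revPerm A.1).trans (upp_sim a.ne_zero ha2 ?_))).2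
  have := low_rev h
  simpa [Fin.rev_rev] using this

/-! ### The class of the rank two special linear group -/

/-- The diagonal of the second class. -/
def tβ (b : F) : Fin 3 → F := Fin.cons (b * b)⁻¹ fun _ => b

/-- The tail of the second class. -/
noncomputable def tT (b : F) : Matrix (Fin 2) (Fin 2) F := b • 1 + cmp 2 (Polynomial.X ^ 2)

theorem tlow_sim {b : F} (hb : b ≠ 0) (hb3 : b * b * b ≠ 1) {A : Matrix (Fin 3) (Fin 3) F}
    (h : Low (tβ b) A) : Sim A (blk (b * b)⁻¹ 0 0 (tT b)) := by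
  have hne : ∀ _i : Fin 2, b ≠ (b * b)⁻¹ := fun _ e => hb3 (by
    have := congrArg (fun x => x * (b * b)) e
    simp only [inv_mul_cancel₀ (mul_ne_zero hb hb)] at this
    linear_combination this)
  obtain ⟨L', hL', hs⟩ := low_peel h hne
  exact hs.trans ((sim_tail_lower hL'.1 hL'.2.1 hL'.2.2).blk _)

theorem tupp_sim {b : F} (hb : b ≠ 0) (hb3 : b * b * b ≠ 1) {A : Matrix (Fin 3) (Fin 3) F}
    (h : Upp (tβ b) A) : Sim A (blk (b * b)⁻¹ 0 0 (tT b)) := by
  have hne : ∀ _i : Fin 2, b ≠ (b * b)⁻¹ := fun _ e => hb3 (by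
    have := congrArg (fun x => x * (b * b)) e
    simp only [inv_mul_cancel₀ (mul_ne_zero hb hb)] at this
    linear_combination this)
  obtain ⟨X', hX', hs⟩ := upp_peel h hne
  exact hs.trans ((sim_tail_upper hX'.1 hX'.2.1 hX'.2.2).blk _)

/-- A representative with Jordan tail. -/
def tM (b : F) : Matrix (Fin 3) (Fin 3) F := blk (b * b)⁻¹ 0 0 !![b, 0; 1, b]

/-- Its inverse. -/
def tI (b : F) : Matrix (Fin 3) (Fin 3) F := blk (b * b) 0 0 !![b⁻¹, 0; -(b⁻¹ * b⁻¹), b⁻¹]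

theorem tM_tI {b : F} (hb : b ≠ 0) : tM b * tI b = 1 := by
  have h2 : (!![b, 0; 1, b] : Matrix (Fin 2) (Fin 2) F) * !![b⁻¹, 0; -(b⁻¹ * b⁻¹), b⁻¹] = 1 := by
    ext i j
    fin_cases i <;> fin_cases j <;> simp [Matrix.mul_apply, Fin.sum_univ_two, hb]
  simp only [tM, tI, blk_mul, h2]
  simp [hb]
  rw [show b⁻¹ * b⁻¹ * (b * b) = 1 by field_simp, blk_one]

theorem tM_sim (b : F) : Sim (tM b) (blk (b * b)⁻¹ 0 0 (tT b)) := by
  refine (sim_tail_lower (fun i => ?_) (fun i j h => ?_) (fun i j h => ?_)).blk _ <;>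
    fin_cases i <;> try fin_cases j
  all_goals simp_all

theorem tI_sim {b : F} (hb : b ≠ 0) : Sim (tI b) (blk (b * b) 0 0 (tT b⁻¹)) := by
  refine (sim_tail_lower (fun i => ?_) (fun i j h => ?_) (fun i j h => ?_)).blk _ <;>
    fin_cases i <;> try fin_cases j
  all_goals simp_all

theorem tI_ne_det {b : F} (hb : b ≠ 0) (hb3 : b * b * b ≠ 1) :
    IsUnit ((!![b⁻¹, 0; -(b⁻¹ * b⁻¹), b⁻¹] : Matrix (Fin 2) (Fin 2) F) - (b * b) • 1).det := by
  refine isUnit_iff_ne_zero.2 ?_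
  have h : b⁻¹ - b * b ≠ 0 := fun h0 => hb3 (by
    have := mul_inv_cancel₀ hb
    linear_combination this - b * h0)
  simp [Matrix.det_fin_two, Matrix.one_apply, h]

theorem t_det {b : F} (hb : b ≠ 0) : (tM b).det = 1 := by
  rw [tM, blk_det_lower, Matrix.det_fin_two_of]
  field_simp
  ring

/-- The element of the second class. -/
noncomputable def tK (b : Fˣ) : Matrix.SpecialLinearGroup (Fin 3) F := ⟨tM (b : F), t_det b.ne_zero⟩

theorem tK_inv (b : Fˣ) : ((tK b)⁻¹).1 = tI (b : F) := by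
  have h : (tK b).1 * tI (b : F) = 1 := tM_tI b.ne_zero
  rw [← Matrix.inv_eq_right_inv h, Matrix.inv_def, (tK b).2, Ring.inverse_one, one_smul]
  exact Matrix.SpecialLinearGroup.coe_inv (tK b)

theorem tK_conj {b : Fˣ} {A : Matrix.SpecialLinearGroup (Fin 3) F}
    (h : Sim A.1 (blk ((b : F) * b)⁻¹ 0 0 (tT (b : F)))) : ∃ P, A = P * tK b * P⁻¹ :=
  conj_of_blk h (tM_sim _)

theorem tK_conj_inv {b : Fˣ} {A : Matrix.SpecialLinearGroup (Fin 3) F}
    (h : Sim A.1 (blk ((b : F) * b) 0 0 (tT (b : F)⁻¹))) : ∃ P, A = P * (tK b)⁻¹ * P⁻¹ :=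
  conj_of_blk h (by rw [tK_inv]; exact tI_sim b.ne_zero)

theorem tK_low_inv {b : Fˣ} (hb3 : (b : F) * b * b ≠ 1) (A : Matrix.SpecialLinearGroup (Fin 3) F)
    (h : Low (tβ (b : F)⁻¹) A.1) : ∃ P, A = P * (tK b)⁻¹ * P⁻¹ := by
  refine tK_conj_inv ?_
  have := tlow_sim (inv_ne_zero b.ne_zero) (by rw [← mul_inv, ← mul_inv]; exact fun e => hb3 (inv_eq_one.1 e)) h
  rwa [← mul_inv, inv_inv] at this

theorem tK_fac (h9 : 9 ≤ Fintype.card F) {b : Fˣ} (hb3 : (b : F) * b * b ≠ 1)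
    (S : Matrix.SpecialLinearGroup (Fin 3) F) (hS : ∀ μ : F, S.1 ≠ μ • 1) :
    ∃ P R, S = (P * tK b * P⁻¹) * (R * (tK b)⁻¹ * R⁻¹) := by
  have hb : (b : F) ≠ 0 := b.ne_zero
  suffices h : ∃ A B : Matrix (Fin 3) (Fin 3) F, Sim A (tM (b : F)) ∧ Sim B (tI (b : F)) ∧ S.1 = A * B by
    obtain ⟨A, B, hA, hB, e⟩ := h
    obtain ⟨P, hP⟩ := tK_conj (A := ⟨A, by rw [hA.det_eq, t_det hb]⟩) (hA.trans (tM_sim _))
    obtain ⟨R, hR⟩ := tK_conj_inv (A := ⟨B, by
      have h1 := congrArg Matrix.det (tM_tI hb)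
      rw [Matrix.det_mul, t_det hb, one_mul, Matrix.det_one] at h1
      rw [hB.det_eq, h1]⟩)
      (hB.trans (tI_sim hb))
    exact ⟨P, R, Subtype.ext (e.trans (by rw [← hP, ← hR]; rfl))⟩
  by_cases hr : (S.1 - 1).rank ≤ 1
  · obtain ⟨x, f, hx, hf, hfx, he⟩ : ∃ x f : Fin 3 → F, x ≠ 0 ∧ f ≠ 0 ∧ f ⬝ᵥ x = 0 ∧
        S.1 = 1 + Matrix.vecMulVec x f := by
      obtain ⟨j, hj⟩ : ∃ j, (S.1 - 1).col j ≠ 0 := by
        by_contra hno
        push Not at hno
        exact hS 1 (by rw [one_smul]; exact sub_eq_zero.1 (Matrix.ext fun i j => congrFun (hno j) i))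
      have hrange : Submodule.span F {(S.1 - 1).col j} = LinearMap.range (S.1 - 1).mulVecLin := by
        refine Submodule.eq_of_le_of_finrank_le ?_ ?_
        · rw [Submodule.span_singleton_le_iff_mem]
          exact ⟨Pi.single j 1, by rw [Matrix.mulVecLin_apply, Matrix.mulVec_single_one]⟩
        · rw [finrank_span_singleton hj]
          exact hr
      have hcol : ∀ l, ∃ s : F, s • (S.1 - 1).col j = (S.1 - 1).col l := fun l =>
        Submodule.mem_span_singleton.1 (by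
          rw [hrange]
          exact ⟨Pi.single l 1, by rw [Matrix.mulVecLin_apply, Matrix.mulVec_single_one]⟩)
      choose f hf using hcol
      have he : S.1 = 1 + Matrix.vecMulVec ((S.1 - 1).col j) f := by
        ext i l
        have h := congrFun (hf l) i
        rw [Matrix.add_apply, Matrix.vecMulVec_apply]
        simp [Matrix.col_apply, mul_comm] at h ⊢
        linear_combination -h
      refine ⟨(S.1 - 1).col j, f, hj, fun h => hS 1 (by rw [one_smul, he, h]; simp), ?_, he⟩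
      have h2 := S.2
      rw [he, Matrix.vecMulVec_eq Unit, Matrix.det_one_add_replicateCol_mul_replicateRow] at h2
      linear_combination h2
    obtain ⟨e, P, Q, hPQ, hQP, he'⟩ := sim_transvection hx hf hfx
    refine ⟨P * tM (b : F) * Q, P * (tI (b : F) * blk 1 0 e 1) * Q, ⟨P, Q, hPQ, hQP, rfl⟩,
      Sim.trans ⟨P, Q, hPQ, hQP, rfl⟩ ?_, ?_⟩
    · have h : tI (b : F) * blk 1 0 e 1 = blk ((b : F) * b) 0
          ((!![(b : F)⁻¹, 0; -((b : F)⁻¹ * (b : F)⁻¹), (b : F)⁻¹] : Matrix (Fin 2) (Fin 2) F) *ᵥ e)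
          !![(b : F)⁻¹, 0; -((b : F)⁻¹ * (b : F)⁻¹), (b : F)⁻¹] := by simp [tI, blk_mul]
      rw [h]
      exact sim_peel_lower _ _ _ (tI_ne_det hb hb3)
    · rw [he, he']
      calc P * blk 1 0 e 1 * Q = P * (tM (b : F) * tI (b : F)) * blk 1 0 e 1 * Q := by
            rw [tM_tI hb, Matrix.mul_one]
        _ = P * tM (b : F) * (Q * P) * (tI (b : F) * blk 1 0 e 1) * Q := by
            rw [hQP, Matrix.mul_one]; simp only [Matrix.mul_assoc]
        _ = _ := by simp only [Matrix.mul_assoc]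
  have hone : (fun _ => 1 : Fin 3 → F) ≠ 0 := fun e => one_ne_zero (congrFun e 0)
  obtain ⟨P, Q, L, X, hPQ, hQP, hLX, hL, hX, -, -⟩ := exists_fac (show 4 ≤ Fintype.card F by omega) 2 S.1 S.2
    (fun _ => ⟨S.2, by omega, hS⟩) _ _ hone hone (tβ (b : F))
    (Fin.cases (by simp [tβ, hb]) (fun i => by simp [tβ, hb]))
  obtain ⟨R, T, hRT, hTR, hXe⟩ := (tupp_sim hb hb3 hX).trans (tM_sim _).symm
  have hXi : X * (R * tI (b : F) * T) = 1 := by
    rw [hXe, show R * tM (b : F) * T * (R * tI (b : F) * T) = R * (tM (b : F) * (T * R) * tI (b : F)) * T by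
      simp only [Matrix.mul_assoc], hTR, Matrix.mul_one, tM_tI hb, Matrix.mul_one, hRT]
  refine ⟨P * L * Q, P * (R * tI (b : F) * T) * Q,
    Sim.trans ⟨P, Q, hPQ, hQP, rfl⟩ ((tlow_sim hb hb3 hL).trans (tM_sim _).symm),
    Sim.trans ⟨P, Q, hPQ, hQP, rfl⟩ ⟨R, T, hRT, hTR, rfl⟩, ?_⟩
  rw [← hLX, show P * (Q * S.1 * P * X) * Q * (P * (R * tI (b : F) * T) * Q) =
    P * Q * S.1 * P * (X * (Q * P) * (R * tI (b : F) * T)) * Q by simp only [Matrix.mul_assoc], hQP, Matrix.mul_one,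
    hXi, hPQ, Matrix.one_mul, Matrix.mul_one, Matrix.mul_assoc, hPQ, Matrix.mul_one]

/-! ### The regular class -/

variable {D : ChevalleyDatum} (hF : Facts D)

theorem grade_psi : Grade D hF.psi :=
  ⟨addv_psiOf hF.wt, fun _ hr hr' => (hF.psi_pos hr hr').le⟩

/-- A regular torus element. -/
theorem hasSquare_regular (C : Fin D.rank → Fˣ) {ω : List (Fin D.rank)} {σ : Fin D.rank → Fin D.rank}
    (hok : okOpp D ω σ = true) (hC : ∀ i, C (σ i) = C i)
    (hχ : ∀ r, r < D.nroots → (torChar D C r : F) ≠ 1)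
    (hpat : ∀ g ∈ D.group F, g ≠ 1 → ∃ v c u, St hF g v c u ∧ ∀ i, c i = 1) :
    HasSquare ↥(D.group F) := by
  obtain ⟨hσ, hsym⟩ := sigma_of_ok hok
  have hn := opp_of_ok hF (F := F) hok
  have hnT := opp_torus hF hn hsym hσ (fun a ha => (hF.tsys F).nw_H ω ha) C
  set n := (hF.tsys F).nw ω
  have hfun : (fun j => (C (σ j))⁻¹) = C⁻¹ := funext fun j => by simp [hC]
  rw [hfun, map_inv] at hnT
  let G := D.group F
  let c : ↥G := ⟨torus D F C, torus_mem_group hF C⟩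
  refine ⟨c, fun g => ?_⟩
  by_cases hg1 : (g : GL D.Idx F) = 1
  · refine ⟨1, ⟨n, hn.1⟩, Subtype.ext ?_⟩
    simp only [Subgroup.coe_mul, Subgroup.coe_inv, Subgroup.coe_one, hg1, c, hnT]
    group
  obtain ⟨v, cc, u, ⟨hv, hu, z, hzG, hzel⟩, hcc⟩ := hpat g g.2 hg1
  have hT1 : torus D F cc = 1 := by rw [show cc = 1 from funext hcc, map_one]
  have hU : Ug hF F ≤ RU hF F hF.psi := (hF.tsys F).US_mono fun r hr => by
    obtain ⟨h1, h2⟩ := Facts.mem_posL.1 hr
    exact mem_posR.2 ⟨h1, h2, (hF.psi_pos h2 h1).ne'⟩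
  have hV : Vg hF F ≤ RV hF F hF.psi := (hF.tsys F).US_mono fun r hr => by
    have h1 := List.mem_range.1 hr
    refine mem_negR.2 ⟨h1, fun h0 => ?_⟩
    have h2 := hF.psi_pos (hF.neg_lt (show r < D.nroots by omega)) ((hF.neg_ge_iff (by omega)).2 h1)
    rw [hF.psi_neg (show r < D.nroots by omega), show hF.psi r = 0 from h0] at h2
    omega
  have fu := free_pos hF (grade_psi hF) C (one_mem (Ug hF F)) fun r hr => hχ r (mem_posR.1 hr).2.1
  have fv := free_neg hF (grade_psi hF) C (one_mem (Vg hF F)) fun r hr =>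
    hχ r (by have := (mem_negR.1 hr).1; omega)
  rw [mul_one] at fu fv
  have hsub : ∀ (R : Subgroup (GL D.Idx F)),
      (∀ x ∈ R, torus D F C * x * (torus D F C)⁻¹ ∈ R ∧ (torus D F C * x * (torus D F C)⁻¹ = x → x = 1)) →
      (∀ x ∈ R.subgroupOf G, c * x * c⁻¹ ∈ R.subgroupOf G) ∧ (∀ x ∈ R.subgroupOf G, c * x * c⁻¹ = x → x = 1) := by
    intro R h
    refine ⟨fun x hx => ?_, fun x hx hfix => ?_⟩
    · rw [Subgroup.mem_subgroupOf] at hx ⊢
      simpa using (h _ hx).1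
    · rw [Subgroup.mem_subgroupOf] at hx
      exact Subtype.ext (by simpa using (h _ hx).2 (by simpa using congrArg Subtype.val hfix))
  have key := two_of_levi_inv ((RV hF F hF.psi).subgroupOf G) ((RU hF F hF.psi).subgroupOf G) (c := c)
    (hsub _ fv).1 (hsub _ fv).2 (hsub _ fu).1 (hsub _ fu).2
    ⟨⟨n, hn.1⟩, Subtype.ext (by simpa [c] using hnT)⟩
    (p := 1) (r := 1) (v := ⟨v, vg_le_group hF hv⟩) (u := ⟨u, ug_le_group hF hu⟩)
    (by simpa [Subgroup.mem_subgroupOf] using hV hv) (by simpa [Subgroup.mem_subgroupOf] using hU hu)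
  refine Two.of_conj ⟨z, hzG⟩ ?_
  convert key using 1
  exact Subtype.ext (by simp [hzel, el, hT1, c])

end Cfsg.Agent.Lie.ClassSq.Exc
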