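import Cfsg.Agent.Lib.Lie.ClassSquare.ExcMoves
import Cfsg.Agent.Lib.Lie.CTA.Model
import Cfsg.Agent.Lib.Lie.CTA.DN.Mono

/-!
Radicals of a Levi subgroup, free actions on them, and a Levi subgroup of type A as an image of SL.
-/

set_option autoImplicit false
set_option linter.unusedSectionVars false

namespace Cfsg.Agent.Lie.ClassSq.Exc

open Cfsg.Lie Matrix
open Cfsg.Agent.Lie.CTA (tv' emb2 ue le' okTri)
open scoped MatrixGroups

variable {D : ChevalleyDatum} (hF : Facts D) {F : Type*} [Field F]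

/-- An additive function on the roots. -/
def Addv (D : ChevalleyDatum) (f : ℕ → ℤ) : Prop :=
  ∀ r s k, r < D.nroots → s < D.nroots → k < D.nroots → ∀ a b : ℤ,
    (∀ j, j < D.rank → D.cartan j k = a * D.cartan j r + b * D.cartan j s) → f k = a * f r + b * f s

/-- A grading: additive, nonnegative on positive roots. -/
structure Grade (D : ChevalleyDatum) (f : ℕ → ℤ) : Prop where
  add : Addv D f
  pos : ∀ r, r < D.nroots → D.nroots / 2 ≤ r → 0 ≤ f r

theorem addv_psiOf (w : ℕ → ℤ) : Addv D (psiOf D w) := by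
  intro r s k _ _ _ a b h
  simp only [psiOf, Finset.mul_sum, ← Finset.sum_add_distrib]
  refine Finset.sum_congr rfl fun j hj => ?_
  rw [h j (Finset.mem_range.1 hj)]
  ring

include hF

theorem addv_neg {f : ℕ → ℤ} (hf : Addv D f) {r : ℕ} (hr : r < D.nroots) : f (D.neg r) = -f r := by
  rw [hf r r (D.neg r) hr hr (hF.neg_lt hr) (-1) 0 fun j hj => by rw [hF.cartan_neg j hj r hr]; ring]
  ring

theorem addv_terms {f : ℕ → ℤ} (hf : Addv D f) {r s : ℕ} (hr : r < D.nroots) (hs : s < D.nroots)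
    {c : ℕ × ℤ × ℕ × ℕ} (hc : c ∈ D.commTerms r s) :
    c.1 < D.nroots ∧ ∃ a b : ℤ, 1 ≤ a ∧ 1 ≤ b ∧ f c.1 = a * f r + b * f s := by
  obtain ⟨a1, b1, hw⟩ := hF.commTerms_psi hr hs hc
  exact ⟨hF.commTerms_lt hr hs c hc, c.2.2.1, c.2.2.2, by exact_mod_cast a1, by exact_mod_cast b1,
    hf r s c.1 hr hs (hF.commTerms_lt hr hs c hc) _ _ hw⟩

theorem grade_neg {f : ℕ → ℤ} (hf : Grade D f) {r : ℕ} (hr : r < D.nroots / 2) : f r ≤ 0 := by
  have hr' : r < D.nroots := by omega
  have := hf.pos _ (hF.neg_lt hr') ((hF.neg_ge_iff hr').2 hr)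
  rw [addv_neg hF hf.add hr'] at this
  omega

omit hF in
/-- The positive roots outside the Levi. -/
def posR (D : ChevalleyDatum) (f : ℕ → ℤ) : List ℕ := (Facts.posL D).filter fun r => decide (f r ≠ 0)

omit hF in
/-- The negative roots outside the Levi. -/
def negR (D : ChevalleyDatum) (f : ℕ → ℤ) : List ℕ :=
  (List.range (D.nroots / 2)).filter fun r => decide (f r ≠ 0)

omit hF in
theorem mem_posR {f : ℕ → ℤ} {r : ℕ} : r ∈ posR D f ↔ D.nroots / 2 ≤ r ∧ r < D.nroots ∧ f r ≠ 0 := by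
  simp [posR, Facts.mem_posL, and_assoc]

omit hF in
theorem mem_negR {f : ℕ → ℤ} {r : ℕ} : r ∈ negR D f ↔ r < D.nroots / 2 ∧ f r ≠ 0 := by simp [negR]

/-- The positive radical. -/
noncomputable abbrev RU (F : Type*) [Field F] (f : ℕ → ℤ) : Subgroup (GL D.Idx F) := (hF.tsys F).US (posR D f)

/-- The negative radical. -/
noncomputable abbrev RV (F : Type*) [Field F] (f : ℕ → ℤ) : Subgroup (GL D.Idx F) := (hF.tsys F).US (negR D f)

/-- The Levi root elements. -/
noncomputable abbrev LR (F : Type*) [Field F] (f : ℕ → ℤ) : Subgroup (GL D.Idx F) :=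
  (hF.tsys F).US ((List.range D.nroots).filter fun r => decide (f r = 0))

theorem closed_posR {f : ℕ → ℤ} (hf : Grade D f) : ClosedList D (posR D f) := by
  refine ⟨hF.closedList_posL.sorted.filter _, fun r hr => ⟨(mem_posR.1 hr).1, (mem_posR.1 hr).2.1⟩,
    fun r hr s hs _ c hc => ?_⟩
  obtain ⟨h1, h2, h3⟩ := mem_posR.1 hr
  obtain ⟨q1, q2, q3⟩ := mem_posR.1 hs
  obtain ⟨hlt, hgt, -⟩ := hF.commTerms_gt h2 q2 h1 q1 hc
  obtain ⟨-, a, b, ha, hb, he⟩ := addv_terms hF hf.add h2 q2 hc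
  have := hf.pos r h2 h1
  have := hf.pos s q2 q1
  refine mem_posR.2 ⟨by omega, hlt, ?_⟩
  rw [he]
  nlinarith [lt_of_le_of_ne (hf.pos r h2 h1) (Ne.symm h3), lt_of_le_of_ne (hf.pos s q2 q1) (Ne.symm q3)]

theorem lr_norm {f : ℕ → ℤ} (hf : Grade D f) :
    LR hF F f ≤ Subgroup.normalizer (RU hF F f : Set (GL D.Idx F)) ∧
      LR hF F f ≤ Subgroup.normalizer (RV hF F f : Set (GL D.Idx F)) := by
  have hp : ∀ p ∈ (List.range D.nroots).filter (fun r => decide (f r = 0)), p < D.nroots ∧ f p = 0 :=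
    fun p hp => by simpa using hp
  refine ⟨(hF.tsys F).US_le fun p hpm t => (hF.tsys F).x_normalizes (hp p hpm).1 (fun s hs => ?_) t,
    (hF.tsys F).US_le fun p hpm t => (hF.tsys F).x_normalizes (hp p hpm).1 (fun s hs => ?_) t⟩
  all_goals obtain ⟨hpl, hp0⟩ := hp p hpm
  · obtain ⟨h1, h2, h3⟩ := mem_posR.1 hs
    refine ⟨h2, fun he => h3 (by rw [he, addv_neg hF hf.add hpl, hp0, neg_zero]), fun _ c hc => ?_⟩
    obtain ⟨hlt, a, b, -, hb, he⟩ := addv_terms hF hf.add hpl h2 hc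
    have hfs := lt_of_le_of_ne (hf.pos s h2 h1) (Ne.symm h3)
    have hc0 : 0 < f c.1 := by rw [he, hp0]; nlinarith
    exact mem_posR.2 ⟨not_lt.1 fun h => absurd (grade_neg hF hf h) (by omega), hlt, by omega⟩
  · obtain ⟨h1, h3⟩ := mem_negR.1 hs
    refine ⟨by omega, fun he => h3 (by rw [he, addv_neg hF hf.add hpl, hp0, neg_zero]), fun _ c hc => ?_⟩
    obtain ⟨hlt, a, b, -, hb, he⟩ := addv_terms hF hf.add hpl (by omega) hc
    have hfs := lt_of_le_of_ne (grade_neg hF hf h1) h3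
    have hc0 : f c.1 < 0 := by rw [he, hp0]; nlinarith
    exact mem_negR.2 ⟨not_le.1 fun h => absurd (hf.pos _ hlt h) (by omega), by omega⟩

theorem xg_inj {r : ℕ} (hr : r < D.nroots) {a b : F} (h : hF.xg r a = hF.xg r b) : a = b := by
  have h1 : hF.xg r (a + -b) = 1 := by rw [hF.xg_add, hF.xg_neg, h, mul_inv_cancel]
  have h2 := congrArg Units.val h1
  rw [Facts.coe_xg, Units.val_one, hF.x_eq_one r hr] at h2
  linear_combination h2

/-- A torus element times a positive unipotent one fixes no element of a stable positive closed set. -/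
theorem free_list (c : Fin D.rank → Fˣ) {n : GL D.Idx F} (hn : n ∈ Ug hF F) :
    ∀ {L : List ℕ}, ClosedList D L →
      (∀ p, D.nroots / 2 ≤ p → p < D.nroots → ∀ s ∈ L, s ≠ p → ∀ t ∈ D.commTerms p s, t.1 ∈ L) →
      (∀ r ∈ L, (torChar D c r : F) ≠ 1) →
      ∀ x ∈ (hF.tsys F).US L, (torus D F c * n) * x * (torus D F c * n)⁻¹ ∈ (hF.tsys F).US L ∧
        ((torus D F c * n) * x * (torus D F c * n)⁻¹ = x → x = 1) := by
  intro L
  induction L with
  | nil =>
    intro _ _ _ x hx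
    have : x = 1 := by
      have h : (hF.tsys F).US [] = ⊥ := by simp [CommSys.US]
      rwa [h, Subgroup.mem_bot] at hx
    subst this
    simp
  | cons m L ih =>
    intro hL hst hχ x hx
    have hT : ClosedList D L := hL.tail (hF := hF)
    obtain ⟨hm1, hm2⟩ := hL.mem_pos m (by simp)
    have hlt := (List.pairwise_cons.1 hL.sorted).1
    have hst' : ∀ p, D.nroots / 2 ≤ p → p < D.nroots → ∀ s ∈ L, s ≠ p → ∀ t ∈ D.commTerms p s, t.1 ∈ L := by
      intro p hp1 hp2 s hs hne t ht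
      obtain ⟨q1, q2⟩ := hT.mem_pos s hs
      have hgt := (hF.commTerms_gt hp2 q2 hp1 q1 ht).2.2
      have := hlt s hs
      rcases List.mem_cons.1 (hst p hp1 hp2 s (List.mem_cons_of_mem _ hs) hne t ht) with h | h
      · omega
      · exact h
    have hnorm : ∀ p, D.nroots / 2 ≤ p → p < D.nroots → ∀ b : F,
        hF.xg p b ∈ Subgroup.normalizer ((hF.tsys F).US L : Set (GL D.Idx F)) := by
      intro p hp1 hp2 b
      refine (hF.tsys F).x_normalizes hp2 (fun s hs => ?_) b
      obtain ⟨q1, q2⟩ := hT.mem_pos s hs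
      refine ⟨q2, fun he => ?_, fun hne => hst' p hp1 hp2 s hs hne⟩
      have := (hF.neg_ge_iff hp2).1 (he ▸ q1)
      omega
    have hconjU : ∀ z ∈ Ug hF F, z ∈ Subgroup.normalizer ((hF.tsys F).US L : Set (GL D.Idx F)) := fun z hz =>
      (hF.tsys F).US_le (fun p hp b => hnorm p (Facts.mem_posL.1 hp).1 (Facts.mem_posL.1 hp).2 b) hz
    have hmove : ∀ z ∈ Ug hF F, ∀ a : F, z * hF.xg m a * z⁻¹ * (hF.xg m a)⁻¹ ∈ (hF.tsys F).US L := by
      intro z hz
      induction hz using Subgroup.closure_induction with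
      | mem g hg =>
        obtain ⟨p, hp, b, rfl⟩ := hg
        obtain ⟨hp1, hp2⟩ := Facts.mem_posL.1 hp
        intro a
        show hF.xg p b * hF.xg m a * (hF.xg p b)⁻¹ * (hF.xg m a)⁻¹ ∈ _
        by_cases hpm : m = p
        · subst hpm
          rw [show hF.xg m b * hF.xg m a * (hF.xg m b)⁻¹ * (hF.xg m a)⁻¹ = 1 by
            simp [← hF.xg_add, ← hF.xg_neg, hF.xg_zero]]
          exact one_mem _
        have hne : m ≠ D.neg p := fun he => by
          have := (hF.neg_ge_iff hp2).1 (he ▸ hm1)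
          omega
        have hcj := (hF.tsys F).x_conj p m hp2 hm2 hpm hne (-b) a
        simp only [Facts.tsys_x] at hcj
        rw [← hF.xg_neg, neg_neg] at hcj
        rw [← hF.xg_neg p, hcj]
        refine (Subgroup.mem_normalizer_iff.1 (hnorm m hm1 hm2 a) _).1 ?_
        have hw := (hF.tsys F).word_mem (H := (hF.tsys F).US L) (w := D.commWord F p m (-b) a) fun q hq => by
          obtain ⟨t, ht, rfl⟩ := List.mem_map.1 hq
          refine (hF.tsys F).x_mem_US ?_ _
          have hgt := (hF.commTerms_gt hp2 hm2 hp1 hm1 ht).2.2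
          rcases List.mem_cons.1 (hst p hp1 hp2 m (by simp) hpm t ht) with h | h
          · omega
          · exact h
        simpa only [Facts.tsys_x] using hw
      | one => intro a; simp
      | mul p q hp _ ihp ihq =>
        intro a
        rw [show p * q * hF.xg m a * (p * q)⁻¹ * (hF.xg m a)⁻¹ =
          (p * (q * hF.xg m a * q⁻¹ * (hF.xg m a)⁻¹) * p⁻¹) * (p * hF.xg m a * p⁻¹ * (hF.xg m a)⁻¹) by group]
        exact mul_mem ((Subgroup.mem_normalizer_iff.1 (hconjU p hp) _).1 (ihq a)) (ihp a)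
      | inv p hp ihp =>
        intro a
        rw [show p⁻¹ * hF.xg m a * p⁻¹⁻¹ * (hF.xg m a)⁻¹ =
          (p⁻¹ * (p * hF.xg m a * p⁻¹ * (hF.xg m a)⁻¹) * p)⁻¹ by group]
        exact inv_mem ((Subgroup.mem_normalizer_iff''.1 (hconjU p hp) _).1 (ihp a))
    obtain ⟨t, ht⟩ := (hF.tsys F).exists_prodOver hL hx
    simp only [CommSys.prodOver, List.map_cons, List.prod_cons] at ht
    set a := t m
    set y := (List.map (fun r => (hF.tsys F).x r (t r)) L).prod with hy
    have hyL : y ∈ (hF.tsys F).US L := CommSys.prodOver_mem _ L t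
    change x = hF.xg m a * y at ht
    obtain ⟨hy1, hy2⟩ := ih hT hst' (fun r hr => hχ r (List.mem_cons_of_mem _ hr)) y hyL
    set T := torus D F c with hTd
    set k := n * hF.xg m a * n⁻¹ * (hF.xg m a)⁻¹ with hk
    have hk' : T * k * T⁻¹ ∈ (hF.tsys F).US L :=
      torus_conj_mem hF (fun r hr => (hT.mem_pos r hr).2) c (hmove n hn a)
    have hexp : (T * n) * x * (T * n)⁻¹ =
        (T * k * T⁻¹) * hF.xg m ((torChar D c m : F) * a) * ((T * n) * y * (T * n)⁻¹) := by
      rw [ht, ← hF.torus_conj c hm2 a, hk, hTd]; group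
    have hsub : ∀ z ∈ (hF.tsys F).US L, z ∈ (hF.tsys F).US (m :: L) := fun z hz =>
      CommSys.US_mono _ (fun r hr => List.mem_cons_of_mem _ hr) hz
    refine ⟨?_, fun hfix => ?_⟩
    · rw [hexp]
      exact mul_mem (mul_mem (hsub _ hk') ((hF.tsys F).x_mem_US (by simp) _)) (hsub _ hy1)
    · rw [hexp, ht] at hfix
      set y' := (T * n) * y * (T * n)⁻¹
      set k' := T * k * T⁻¹
      have hd : hF.xg m ((torChar D c m : F) * a + -a) ∈ (hF.tsys F).US L := by
        have e : hF.xg m ((torChar D c m : F) * a + -a) =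
            k'⁻¹ * (hF.xg m a * (y * y'⁻¹) * (hF.xg m a)⁻¹) := by
          rw [hF.xg_add, hF.xg_neg, show hF.xg m a * (y * y'⁻¹) = hF.xg m a * y * y'⁻¹ by group, ← hfix]
          group
        rw [e]
        exact mul_mem (inv_mem hk')
          ((Subgroup.mem_normalizer_iff.1 (hnorm m hm1 hm2 a) _).1 (mul_mem hyL (inv_mem hy1)))
      have hle : (hF.tsys F).US L ≤ hF.raiseSubgroup ((hF.psi m).toNat + 1) :=
        CommSys.US_le _ fun s hs u => hF.xg_mem_raise_succ hm2 hm1 (hlt s hs) (hT.mem_pos s hs).2 u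
      have h0 := hF.xg_eq_zero_of_mem_raise hm2 hm1 (hle hd)
      have ha : a = 0 := (mul_eq_zero.1 (show ((torChar D c m : F) - 1) * a = 0 by linear_combination h0)
        ).resolve_left (sub_ne_zero.2 (hχ m (by simp)))
      have hxy : x = y := by rw [ht, ha, hF.xg_zero, one_mul]
      rw [hxy]
      refine hy2 ?_
      have hk1 : k = 1 := by rw [hk, ha, hF.xg_zero]; group
      have : k' = 1 := by rw [show k' = T * k * T⁻¹ from rfl, hk1]; group
      rw [this, ha, mul_zero, hF.xg_zero, one_mul, one_mul, one_mul] at hfix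
      exact hfix

theorem free_pos {f : ℕ → ℤ} (hf : Grade D f) (c : Fin D.rank → Fˣ) {n : GL D.Idx F} (hn : n ∈ Ug hF F)
    (hχ : ∀ r ∈ posR D f, (torChar D c r : F) ≠ 1) :
    ∀ x ∈ RU hF F f, (torus D F c * n) * x * (torus D F c * n)⁻¹ ∈ RU hF F f ∧
      ((torus D F c * n) * x * (torus D F c * n)⁻¹ = x → x = 1) := by
  refine free_list hF c hn (closed_posR hF hf) (fun p hp1 hp2 s hs _ t ht => ?_) hχ
  obtain ⟨q1, q2, q3⟩ := mem_posR.1 hs
  obtain ⟨hlt, hgt, -⟩ := hF.commTerms_gt hp2 q2 hp1 q1 ht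
  obtain ⟨-, a, b, ha, hb, he⟩ := addv_terms hF hf.add hp2 q2 ht
  refine mem_posR.2 ⟨by omega, hlt, ?_⟩
  rw [he]
  nlinarith [hf.pos p hp2 hp1, lt_of_le_of_ne (hf.pos s q2 q1) (Ne.symm q3)]

theorem free_neg {f : ℕ → ℤ} (hf : Grade D f) (c : Fin D.rank → Fˣ) {n : GL D.Idx F} (hn : n ∈ Vg hF F)
    (hχ : ∀ r ∈ negR D f, (torChar D c r : F) ≠ 1) :
    ∀ x ∈ RV hF F f, (torus D F c * n) * x * (torus D F c * n)⁻¹ ∈ RV hF F f ∧
      ((torus D F c * n) * x * (torus D F c * n)⁻¹ = x → x = 1) := by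
  classical
  obtain ⟨w, hw⟩ := hF.exists_longest
  set N := (hF.tsys F).nW w with hN
  have hwneg : ∀ r : Fin D.nroots, r.val < D.nroots / 2 → D.nroots / 2 ≤ (w • r : Fin D.nroots).val := by
    intro r hr
    have h1 := hw (hF.refSys.neg r) ((hF.refSys.neg_mem r).2 (by simp [Facts.refSys]; omega))
    rw [RefSystem.smul_neg, hF.refSys.neg_mem, not_not] at h1
    simpa [Facts.refSys] using h1
  have hwpos : ∀ r : Fin D.nroots, D.nroots / 2 ≤ r.val → (w • r : Fin D.nroots).val < D.nroots / 2 := by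
    intro r hr
    have h1 := hw r (by simp [Facts.refSys, hr])
    simpa [Facts.refSys] using h1
  let f' : ℕ → ℤ := fun r => if h : r < D.nroots then -f (w⁻¹ • (⟨r, h⟩ : Fin D.nroots)).val else 0
  have hf' : ∀ r : Fin D.nroots, f' r.val = -f (w⁻¹ • r : Fin D.nroots).val := fun r => dif_pos r.isLt
  have hg : Grade D f' := by
    refine ⟨fun r s k hr hs hk a b h => ?_, fun r hr hr' => ?_⟩
    · rw [hf' ⟨r, hr⟩, hf' ⟨s, hs⟩, hf' ⟨k, hk⟩,
        hf.add _ _ _ (Fin.isLt _) (Fin.isLt _) (Fin.isLt _) a b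
          (TorusSys.weyl_comb w⁻¹ ⟨k, hk⟩ ⟨r, hr⟩ ⟨s, hs⟩ a b h)]
      ring
    · rw [hf' ⟨r, hr⟩]
      have hneg : (w⁻¹ • (⟨r, hr⟩ : Fin D.nroots) : Fin D.nroots).val < D.nroots / 2 := by
        by_contra h
        have := hwpos _ (not_lt.1 h)
        rw [smul_inv_smul] at this
        exact absurd hr' (not_le.2 this)
      have := grade_neg hF hf hneg
      omega
  obtain ⟨c', hc'⟩ : ∃ c', torus D F c' = N * torus D F c * N⁻¹ := by
    have h := (hF.tsys F).nW_H (w := w) (torus_mem_H hF c)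
    rw [hF.tsys_H, hF.diagonalSubgroup_eq F] at h
    exact h
  have hchar : ∀ s : Fin D.nroots, (torChar D c' (w • s : Fin D.nroots).val : F) = (torChar D c s.val : F) := by
    intro s
    obtain ⟨e, he, hconj⟩ := hF.nW_conj (F := F) w s
    have h1 := hF.torus_conj c' (Fin.isLt (w • s : Fin D.nroots)) e
    have h2 : torus D F c' * hF.xg (w • s : Fin D.nroots).val e * (torus D F c')⁻¹ =
        hF.xg (w • s : Fin D.nroots).val (e * (torChar D c s.val : F)) := by
      rw [hc', ← hconj, ← mul_one ((torChar D c s.val : F)), ← hF.torus_conj c s.isLt 1,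
        show hF.xg (w • s : Fin D.nroots).val e = N * hF.xg s.val 1 * N⁻¹ by rw [hN, hconj, mul_one], hN]
      group
    have h3 := xg_inj hF (Fin.isLt _) (h1.symm.trans h2)
    exact mul_right_cancel₀ (left_ne_zero_of_mul_eq_one he) (by linear_combination h3)
  have hVU : ∀ z ∈ Vg hF F, N * z * N⁻¹ ∈ Ug hF F := by
    intro z hz
    have hle : Vg hF F ≤ (Ug hF F).comap (MulAut.conj N).toMonoidHom := by
      refine (hF.tsys F).US_le fun r hr t => ?_
      have hr' := List.mem_range.1 hr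
      obtain ⟨e, -, hconj⟩ := hF.nW_conj (F := F) w ⟨r, by omega⟩
      show N * hF.xg r t * N⁻¹ ∈ Ug hF F
      rw [show N * hF.xg r t * N⁻¹ = _ from hconj t]
      exact (hF.tsys F).x_mem_U (hwneg ⟨r, by omega⟩ hr') (Fin.isLt _) _
    exact hle hz
  have hRV : ∀ z ∈ RV hF F f, N * z * N⁻¹ ∈ RU hF F f' := by
    intro z hz
    have hle : RV hF F f ≤ (RU hF F f').comap (MulAut.conj N).toMonoidHom := by
      refine (hF.tsys F).US_le fun r hr t => ?_
      obtain ⟨hr', hr0⟩ := mem_negR.1 hr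
      obtain ⟨e, -, hconj⟩ := hF.nW_conj (F := F) w ⟨r, by omega⟩
      show N * hF.xg r t * N⁻¹ ∈ RU hF F f'
      rw [show N * hF.xg r t * N⁻¹ = _ from hconj t]
      exact (hF.tsys F).x_mem_US (mem_posR.2 ⟨hwneg ⟨r, by omega⟩ hr', Fin.isLt _,
        by rw [hf', inv_smul_smul]; simpa using hr0⟩) _
    exact hle hz
  intro x hx
  have hfree := free_pos hF hg c' (hVU n hn) (fun r hr => by
    obtain ⟨h1, h2, h3⟩ := mem_posR.1 hr
    have hs := hchar (w⁻¹ • ⟨r, h2⟩)
    rw [smul_inv_smul] at hs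
    rw [hs]
    refine hχ _ (mem_negR.2 ⟨?_, fun h0 => h3 (by rw [hf' ⟨r, h2⟩, h0, neg_zero])⟩)
    by_contra h
    have := hwpos _ (not_lt.1 h)
    rw [smul_inv_smul] at this
    exact absurd h1 (not_le.2 this)) (N * x * N⁻¹) (hRV x hx)
  refine ⟨?_, fun hfix => ?_⟩
  · have hT : torus D F c * n ∈ Subgroup.normalizer (RV hF F f : Set (GL D.Idx F)) := by
      refine mul_mem ?_ ?_
      · rw [Subgroup.mem_normalizer_iff'']
        have hL : ∀ r ∈ negR D f, r < D.nroots := fun r hr => by have := (mem_negR.1 hr).1; omega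
        refine fun z => ⟨fun hz => ?_, fun hz => ?_⟩
        · have := torus_conj_mem hF hL c⁻¹ hz
          rwa [map_inv, inv_inv] at this
        · have := torus_conj_mem hF hL c hz
          rwa [show torus D F c * ((torus D F c)⁻¹ * z * torus D F c) * (torus D F c)⁻¹ = z by group] at this
      · refine (hF.tsys F).US_le (fun p hp b => ?_) hn
        have hp' := List.mem_range.1 hp
        refine (hF.tsys F).x_normalizes (by omega) (fun s hs => ?_) b
        obtain ⟨h1, h3⟩ := mem_negR.1 hs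
        refine ⟨by omega, fun he => ?_, fun _ t ht => ?_⟩
        · have := (hF.neg_ge_iff (show p < D.nroots by omega)).2 hp'
          omega
        · obtain ⟨hlt, a, b, ha, hb, he⟩ := addv_terms hF hf.add (show p < D.nroots by omega)
            (show s < D.nroots by omega) ht
          have hc0 : f t.1 < 0 := by
            rw [he]
            nlinarith [grade_neg hF hf hp', lt_of_le_of_ne (grade_neg hF hf h1) h3]
          exact mem_negR.2 ⟨not_le.1 fun h => absurd (hf.pos _ hlt h) (by omega), by omega⟩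
    exact (Subgroup.mem_normalizer_iff.1 hT x).1 hx
  · have h1 := hfree.2 (by
      rw [hc', show N * torus D F c * N⁻¹ * (N * n * N⁻¹) * (N * x * N⁻¹) *
          (N * torus D F c * N⁻¹ * (N * n * N⁻¹))⁻¹ =
        N * ((torus D F c * n) * x * (torus D F c * n)⁻¹) * N⁻¹ by group, hfix])
    exact conj_eq_one_iff.1 h1

/-- Splitting of the positive unipotent subgroup. -/
theorem u_levi {f : ℕ → ℤ} (hf : Grade D f) {u : GL D.Idx F} (hu : u ∈ Ug hF F) :
    ∃ a ∈ LR hF F f ⊓ Ug hF F, ∃ b ∈ RU hF F f, u = a * b := by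
  induction hu using Subgroup.closure_induction with
  | mem g hg =>
    obtain ⟨r, hr, t, rfl⟩ := hg
    obtain ⟨h1, h2⟩ := Facts.mem_posL.1 hr
    by_cases h : f r = 0
    · exact ⟨_, ⟨(hF.tsys F).x_mem_US (by simp [h, h2]) t, (hF.tsys F).x_mem_U h1 h2 t⟩, 1, one_mem _,
        (mul_one _).symm⟩
    · exact ⟨1, one_mem _, _, (hF.tsys F).x_mem_US (mem_posR.2 ⟨h1, h2, h⟩) t, (one_mul _).symm⟩
  | one => exact ⟨1, one_mem _, 1, one_mem _, (one_mul _).symm⟩
  | mul p q _ _ hp hq =>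
    obtain ⟨a, ha, b, hb, rfl⟩ := hp
    obtain ⟨a', ha', b', hb', rfl⟩ := hq
    refine ⟨a * a', mul_mem ha ha', a'⁻¹ * b * a' * b',
      mul_mem ((Subgroup.mem_normalizer_iff''.1 ((lr_norm hF hf).1 ha'.1) b).1 hb) hb', by group⟩
  | inv p _ hp =>
    obtain ⟨a, ha, b, hb, rfl⟩ := hp
    refine ⟨a⁻¹, inv_mem ha, a * b⁻¹ * a⁻¹,
      (Subgroup.mem_normalizer_iff.1 ((lr_norm hF hf).1 ha.1) b⁻¹).1 (inv_mem hb), by group⟩

/-- Splitting of the negative unipotent subgroup. -/
theorem v_levi {f : ℕ → ℤ} (hf : Grade D f) {v : GL D.Idx F} (hv : v ∈ Vg hF F) :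
    ∃ b ∈ RV hF F f, ∃ a ∈ LR hF F f ⊓ Vg hF F, v = b * a := by
  induction hv using Subgroup.closure_induction with
  | mem g hg =>
    obtain ⟨r, hr, t, rfl⟩ := hg
    have h1 := List.mem_range.1 hr
    by_cases h : f r = 0
    · exact ⟨1, one_mem _, _,
        ⟨(hF.tsys F).x_mem_US (by simp [h]; omega) t, (hF.tsys F).x_mem_US hr t⟩, (one_mul _).symm⟩
    · exact ⟨_, (hF.tsys F).x_mem_US (mem_negR.2 ⟨h1, h⟩) t, 1, one_mem _, (mul_one _).symm⟩
  | one => exact ⟨1, one_mem _, 1, one_mem _, (one_mul _).symm⟩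
  | mul p q _ _ hp hq =>
    obtain ⟨b, hb, a, ha, rfl⟩ := hp
    obtain ⟨b', hb', a', ha', rfl⟩ := hq
    refine ⟨b * (a * b' * a⁻¹),
      mul_mem hb ((Subgroup.mem_normalizer_iff.1 ((lr_norm hF hf).2 ha.1) b').1 hb'), a * a', mul_mem ha ha',
      by group⟩
  | inv p _ hp =>
    obtain ⟨b, hb, a, ha, rfl⟩ := hp
    refine ⟨a⁻¹ * b⁻¹ * a, (Subgroup.mem_normalizer_iff''.1 ((lr_norm hF hf).2 ha.1) b⁻¹).1 (inv_mem hb),
      a⁻¹, inv_mem ha, by group⟩

omit hF in
/-- Two roots with commuting root groups, in all signs. -/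
def apart (D : ChevalleyDatum) (a b : ℕ) : Bool :=
  [(a, b), (a, D.neg b), (D.neg a, b), (D.neg a, D.neg b)].all fun p =>
    decide (p.2 ≠ p.1 ∧ p.2 ≠ D.neg p.1 ∧ D.commTerms p.1 p.2 = [])

omit hF in
/-- A chain of nodes of type A. -/
def okChain (D : ChevalleyDatum) {k : ℕ} (nd : Fin (k + 1) → Fin D.rank) : Bool :=
  (List.finRange (k + 1)).all fun i => (List.finRange (k + 1)).all fun j =>
    (if i.val + 1 = j.val then okTri D (D.simple (nd i).val) (D.simple (nd j).val) else true) &&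
      (if i.val + 1 < j.val then apart D (D.simple (nd i).val) (D.simple (nd j).val) else true)

omit hF in
/-- Neighbouring transvections generate. -/
theorem tv_gen [Fintype F] {n : ℕ} (hn : 2 ≤ n) {K : Subgroup (Matrix.SpecialLinearGroup (Fin n) F)}
    (h : ∀ p q : Fin n, (p.val = q.val + 1 ∨ q.val = p.val + 1) → ∀ t, tv' p q t ∈ K) : K = ⊤ := by
  have key : ∀ (d : ℕ) (p q : Fin n), (p.val = q.val + d + 1 ∨ q.val = p.val + d + 1) → ∀ t, tv' p q t ∈ K := by
    intro d
    induction d with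
    | zero => exact fun p q hpq => h p q hpq
    | succ d ih =>
      intro p q hpq t
      obtain ⟨r, h1, h2, e1, e2, e3⟩ : ∃ r : Fin n, (∀ t, tv' p r t ∈ K) ∧ (∀ t, tv' r q t ∈ K) ∧ p ≠ r ∧ r ≠ q ∧
          p ≠ q := by
        have := p.isLt
        have := q.isLt
        rcases hpq with hpq | hpq
        · refine ⟨⟨q.val + 1, by omega⟩, ih p _ (Or.inl (by simp only; omega)),
            h _ q (Or.inl (by simp only)), ?_, ?_, ?_⟩ <;> intro e <;> simp [Fin.ext_iff] at e <;> omega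
        · refine ⟨⟨p.val + 1, by omega⟩, h p _ (Or.inr (by simp only)),
            ih _ q (Or.inr (by simp only; omega)), ?_, ?_, ?_⟩ <;> intro e <;> simp [Fin.ext_iff] at e <;> omega
      have e := CTA.tv'_comm3 e1 e2 e3 t (1 : F)
      rw [mul_one] at e
      have : tv' p q t = tv' p r t * tv' r q 1 * (tv' p r t)⁻¹ * (tv' r q 1)⁻¹ := by rw [e]; group
      rw [this]
      exact mul_mem (mul_mem (mul_mem (h1 t) (h2 1)) (inv_mem (h1 t))) (inv_mem (h2 1))
  haveI : Nontrivial (Fin n) := Fin.nontrivial_iff_two_le.mpr hn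
  rw [eq_top_iff, ← Cfsg.Agent.Classical.sl_closure_transvections, Subgroup.closure_le]
  rintro g ⟨i, j, hij, c, rfl⟩
  have hij' : i.val ≠ j.val := fun h => hij (Fin.ext h)
  have := key (if i.val < j.val then j.val - i.val - 1 else i.val - j.val - 1) i j (by split_ifs <;> omega) c
  rwa [tv', dif_pos hij] at this

/-- A Levi subgroup of type A: the homomorphism, its range, and the diagonal. -/
structure Phi {k : ℕ} (nd : Fin (k + 1) → Fin D.rank) (f : ℕ → ℤ)
    (φ : Matrix.SpecialLinearGroup (Fin (k + 2)) F →* GL D.Idx F) : Prop where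
  up : ∀ m t, φ (tv' m.castSucc m.succ t) = Xp hF (nd m) t
  lo : ∀ m t, φ (tv' m.succ m.castSucc t) = Xm hF (nd m) t
  range_eq : φ.range = LR hF F f
  diag : ∀ m (s : Fˣ), ∃ d : Matrix.SpecialLinearGroup (Fin (k + 2)) F,
    φ d = torus D F (Pi.mulSingle (nd m) s) ∧
      d.1 = Matrix.diagonal fun x => if x = m.castSucc then (s : F) else if x = m.succ then (s : F)⁻¹ else 1

theorem lr_le_range {f : ℕ → ℤ} (hf : Grade D f) {K : Subgroup (GL D.Idx F)}
    (hK : ∀ i : Fin D.rank, f (D.simple i.val) = 0 → ∀ t, Xp hF i t ∈ K ∧ Xm hF i t ∈ K) : LR hF F f ≤ K := by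
  have key : ∀ r, r < D.nroots → D.nroots / 2 ≤ r → f r = 0 → ∀ t, hF.xg r t ∈ K ∧ hF.xg (D.neg r) t ∈ K := by
    intro r
    induction r using Nat.strong_induction_on with
    | _ r ih =>
      intro hr hr' h0 t
      obtain ⟨i, hi, hlt⟩ := hF.exists_refl_lt hr hr'
      by_cases hs : r = D.simple i
      · subst hs; exact hK ⟨i, hi⟩ h0 t
      have hl := hF.refl_lt i hi r hr
      have hp := hF.refl_pos i hi r hr hr' hs
      have hA : 0 < D.cartan i r := by
        have h1 := hF.psi_refl hi hr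
        have h2 := hF.psi_pos (hF.simple_lt i hi) (hF.simple_ge i hi)
        have h3 := hF.psi_lt hlt hr
        by_contra hc
        nlinarith [not_lt.1 hc]
      have he := hf.add r (D.simple i) (D.reflectRoot i r) hr (hF.simple_lt i hi) hl 1 (-D.cartan i r)
        fun j hj => by rw [hF.cartan_refl i hi r hr j hj]; ring
      have hf1 := hf.pos _ hl hp
      have hfa := hf.pos _ (hF.simple_lt i hi) (hF.simple_ge i hi)
      have hfα : f (D.simple i) = 0 := by rw [he, h0] at hf1; nlinarith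
      have hfr : f (D.reflectRoot i r) = 0 := by rw [he, h0, hfα]; ring
      have hn : (hF.tsys F).nS ⟨i, hi⟩ ∈ K := by
        rw [hF.tsys_nS, hF.ng_eq]
        exact mul_mem (mul_mem (hK ⟨i, hi⟩ hfα _).1 (hK ⟨i, hi⟩ hfα _).2) (hK ⟨i, hi⟩ hfα _).1
      constructor
      · have h := (hF.tsys F).nS_conj ⟨i, hi⟩ hl (hF.sgn F i (D.reflectRoot i r) * t)
        rw [← mul_assoc, hF.sgn_mul_self hi hl, one_mul, hF.refl_refl i hi r hr, hF.tsys_x, hF.tsys_x] at h
        rw [← h]
        exact mul_mem (mul_mem hn (ih _ hlt hl hp hfr _).1) (inv_mem hn)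
      · have hnl := hF.neg_lt hl
        have h := (hF.tsys F).nS_conj ⟨i, hi⟩ hnl (hF.sgn F i (D.neg (D.reflectRoot i r)) * t)
        rw [← mul_assoc, hF.sgn_mul_self hi hnl, one_mul, hF.refl_neg i hi _ hl, hF.refl_refl i hi r hr,
          hF.tsys_x, hF.tsys_x] at h
        rw [← h]
        exact mul_mem (mul_mem hn (ih _ hlt hl hp hfr _).2) (inv_mem hn)
  refine (hF.tsys F).US_le fun r hr t => ?_
  obtain ⟨h1, h2⟩ : r < D.nroots ∧ f r = 0 := by simpa using hr
  by_cases hp : D.nroots / 2 ≤ r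
  · exact (key r h1 hp h2 t).1
  · have := (key (D.neg r) (hF.neg_lt h1) ((hF.neg_ge_iff h1).2 (not_le.1 hp))
      (by rw [addv_neg hF hf.add h1, h2, neg_zero]) t).2
    rwa [hF.neg_neg h1] at this

theorem exists_phi [Fintype F] {k : ℕ} (hk : 1 ≤ k) (nd : Fin (k + 1) → Fin D.rank) (hok : okChain D nd = true)
    {f : ℕ → ℤ} (hf : Grade D f) (hJ : ∀ i : Fin D.rank, f (D.simple i.val) = 0 ↔ ∃ m, nd m = i) :
    ∃ φ : Matrix.SpecialLinearGroup (Fin (k + 2)) F →* GL D.Idx F, Phi hF nd f φ := by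
  have R := fun i : Fin (k + 1) => hF.rankOneRel_simple (F := F) (nd i).val (nd i).isLt
  let ψ := fun i => (R i).hom
  have hu : ∀ i t, ψ i (ue t) = Xp hF (nd i) t := fun i t => (R i).hom_up t
  have hl : ∀ i t, ψ i (le' t) = Xm hF (nd i) t := fun i t => (R i).hom_lo t
  simp only [okChain, List.all_eq_true, List.mem_finRange, true_implies, Bool.and_eq_true] at hok
  have hedge : ∀ i j : Fin (k + 1), i.val + 1 = j.val →
      ∃ π : Matrix.SpecialLinearGroup (Fin 3) F →* GL D.Idx F, π.comp CTA.b12 = ψ i ∧ π.comp CTA.b23 = ψ j := by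
    intro i j hij
    have h := (hok i j).1
    rw [if_pos hij] at h
    obtain ⟨π, -, hπ⟩ := CTA.exists_tri (F := F) hF h
    exact ⟨π, CTA.sl2_hom_ext (fun t => (hπ t).1.trans (hu i t).symm) (fun t => (hπ t).2.1.trans (hl i t).symm),
      CTA.sl2_hom_ext (fun t => (hπ t).2.2.1.trans (hu j t).symm) (fun t => (hπ t).2.2.2.trans (hl j t).symm)⟩
  have hcomm : ∀ i j : Fin (k + 1), i.val + 1 < j.val → ∀ g h, Commute (ψ i g) (ψ j h) := by
    intro i j hij g h
    have hap := (hok i j).2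
    rw [if_pos hij] at hap
    simp only [apart, List.all_cons, List.all_nil, Bool.and_true, Bool.and_eq_true, decide_eq_true_eq] at hap
    have hα : ∀ i : Fin (k + 1), D.simple (nd i).val < D.nroots := fun i => hF.simple_lt _ (nd i).isLt
    have hgen : ∀ p q, p < D.nroots → q < D.nroots → (q ≠ p ∧ q ≠ D.neg p ∧ D.commTerms p q = []) →
        ∀ t u : F, Commute (hF.xg p t) (hF.xg q u) := by
      rintro p q hp hq ⟨e1, e2, e3⟩ t u
      have h := (hF.tsys F).x_comm p q hp hq e1 e2 t u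
      simp only [ChevalleyDatum.commWord, e3, List.map_nil, List.prod_nil, mul_one] at h
      exact h.symm
    have hX : ∀ (x : Matrix.SpecialLinearGroup (Fin 2) F) (p : ℕ),
        (p = D.simple (nd i).val ∨ p = D.neg (D.simple (nd i).val)) →
        ∀ u : F, Commute (hF.xg p u) (ψ j x) := by
      intro x p hp u
      refine CTA.sl2_induction (P := fun x => Commute (hF.xg p u) (ψ j x)) (fun t => ?_) (fun t => ?_)
        (by rw [map_one]; exact Commute.one_right _) (fun a b ha hb => by rw [map_mul]; exact ha.mul_right hb)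
        (fun a ha => by rw [map_inv]; exact ha.inv_right) x
      · rw [hu]
        rcases hp with rfl | rfl
        · exact hgen _ _ (hα i) (hα j) hap.1 u t
        · exact hgen _ _ (hF.neg_lt (hα i)) (hα j) hap.2.2.1 u t
      · rw [hl]
        rcases hp with rfl | rfl
        · exact hgen _ _ (hα i) (hF.neg_lt (hα j)) hap.2.1 u t
        · exact hgen _ _ (hF.neg_lt (hα i)) (hF.neg_lt (hα j)) hap.2.2.2 u t
    refine CTA.sl2_induction (P := fun g => Commute (ψ i g) (ψ j h)) (fun t => ?_) (fun t => ?_)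
      (by rw [map_one]; exact Commute.one_left _) (fun a b ha hb => by rw [map_mul]; exact ha.mul_left hb)
      (fun a ha => by rw [map_inv]; exact ha.inv_left) g
    · rw [hu]; exact hX h _ (Or.inl rfl) t
    · rw [hl]; exact hX h _ (Or.inr rfl) t
  obtain ⟨φ, hφ⟩ := CTA.an_hom ψ hedge hcomm (k + 1) (by omega) le_rfl
  have hne : ∀ m : Fin (k + 1), m.castSucc ≠ m.succ := fun m => Fin.castSucc_lt_succ.ne
  have hup : ∀ m t, φ (tv' m.castSucc m.succ t) = Xp hF (nd m) t := fun m t => by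
    rw [← CTA.emb2_ue (hne m), ← MonoidHom.comp_apply, hφ m m.isLt, hu]
  have hlo : ∀ m t, φ (tv' m.succ m.castSucc t) = Xm hF (nd m) t := fun m t => by
    rw [← CTA.emb2_le' (hne m), ← MonoidHom.comp_apply, hφ m m.isLt, hl]
  refine ⟨φ, hup, hlo, le_antisymm ?_ ?_, fun m s => ?_⟩
  · have hf0 : ∀ m, f (D.simple (nd m).val) = 0 := fun m => (hJ _).2 ⟨m, rfl⟩
    have : (LR hF F f).comap φ = ⊤ := by
      refine tv_gen (by omega) fun p q hpq t => ?_
      show φ (tv' p q t) ∈ LR hF F f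
      rcases hpq with h | h
      · obtain ⟨m, rfl, rfl⟩ : ∃ m : Fin (k + 1), p = m.succ ∧ q = m.castSucc :=
          ⟨⟨q.val, by omega⟩, Fin.ext (by simp; omega), Fin.ext rfl⟩
        rw [hlo]
        refine (hF.tsys F).x_mem_US ?_ t
        simp [hF.neg_lt (hF.simple_lt _ (nd m).isLt), addv_neg hF hf.add (hF.simple_lt _ (nd m).isLt), hf0]
      · obtain ⟨m, rfl, rfl⟩ : ∃ m : Fin (k + 1), p = m.castSucc ∧ q = m.succ :=
          ⟨⟨p.val, by omega⟩, Fin.ext rfl, Fin.ext (by simp; omega)⟩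
        rw [hup]
        refine (hF.tsys F).x_mem_US ?_ t
        simp [hF.simple_lt _ (nd m).isLt, hf0]
    rintro _ ⟨g, rfl⟩
    have hg : g ∈ (LR hF F f).comap φ := by rw [this]; trivial
    exact hg
  · refine lr_le_range hF hf fun i hi t => ?_
    obtain ⟨m, rfl⟩ := (hJ i).1 hi
    exact ⟨⟨_, hup m t⟩, ⟨_, hlo m t⟩⟩
  · refine ⟨emb2 (hne m) (ue (s : F) * le' (-(s : F)⁻¹) * ue (s : F) * (ue (-1) * le' 1 * ue (-1))), ?_, ?_⟩
    · rw [← MonoidHom.comp_apply, hφ m m.isLt, hF.torus_single, hF.hg_eq, hF.ng_eq, hF.ng_eq]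
      simp only [map_mul, hu, hl, Xp, Xm, inv_neg, inv_one, neg_neg, mul_assoc]
    · have hd : (ue (s : F) * le' (-(s : F)⁻¹) * ue (s : F) * (ue (-1) * le' 1 * ue (-1))).1 =
          !![(s : F), 0; 0, (s : F)⁻¹] := by
        simp only [Matrix.SpecialLinearGroup.coe_mul, CTA.ue_val, CTA.le'_val, Matrix.mul_fin_two]
        ext a b
        fin_cases a <;> fin_cases b <;> simp [s.ne_zero]
      ext a b
      rw [(CTA.emb2_diag (hne m) hd).apply a b, Matrix.diagonal_apply, Equiv.Perm.one_apply]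
      split_ifs with h1 h2 <;> first | rfl | simp_all

end Cfsg.Agent.Lie.ClassSq.Exc
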