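import Mathlib
import Cfsg.Agent.Lib.Lie.ClassSquare.Canon

/-!
The projective special linear groups are squares of a conjugacy class.
-/

set_option autoImplicit false

namespace Cfsg.Agent.Lie.ClassSq

open Matrix

/-- `g` is a product of two conjugates of `c`. -/
def Two {G : Type*} [Group G] (c g : G) : Prop := ∃ x y : G, g = (x * c * x⁻¹) * (y * c * y⁻¹)

/-- Some class squares to the whole group. -/
def HasSquare (G : Type*) [Group G] : Prop := ∃ c : G, ∀ g : G, Two c g

theorem HasSquare.of_equiv {G H : Type*} [Group G] [Group H] (e : G ≃* H) (h : HasSquare H) : HasSquare G := by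
  obtain ⟨c, hc⟩ := h
  refine ⟨e.symm c, fun g => ?_⟩
  obtain ⟨x, y, hxy⟩ := hc (e g)
  refine ⟨e.symm x, e.symm y, ?_⟩
  rw [← map_inv, ← map_inv, ← map_mul, ← map_mul, ← map_mul, ← map_mul, ← map_mul, ← hxy, e.symm_apply_apply]

theorem Two.map {G H : Type*} [Group G] [Group H] (f : G →* H) {c g : G} (h : Two c g) : Two (f c) (f g) := by
  obtain ⟨x, y, rfl⟩ := h
  exact ⟨f x, f y, by simp⟩

theorem Two.conj {G : Type*} [Group G] {c g : G} (z : G) (h : Two c g) : Two c (z * g * z⁻¹) := by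
  obtain ⟨x, y, rfl⟩ := h
  exact ⟨z * x, z * y, by group⟩

theorem Two.of_conj {G : Type*} [Group G] {c g : G} (z : G) (h : Two c (z * g * z⁻¹)) : Two c g := by
  have := h.conj z⁻¹
  rwa [show z⁻¹ * (z * g * z⁻¹) * z⁻¹⁻¹ = g by group] at this

/-- Pass to the quotient by the centre. -/
theorem hasSquare_quotient {G : Type*} [Group G] (N : Subgroup G) [N.Normal] (c : G)
    (h : ∀ g : G, g ∈ N ∨ Two c g) (h1 : Two c 1) : HasSquare (G ⧸ N) := by
  refine ⟨QuotientGroup.mk' N c, fun x => ?_⟩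
  induction x using QuotientGroup.induction_on with
  | _ g =>
    rcases h g with hg | hg
    · rw [(QuotientGroup.eq_one_iff g).2 hg, ← map_one (QuotientGroup.mk' N)]
      exact h1.map _
    · exact hg.map (QuotientGroup.mk' N)

variable {F : Type*} [Field F] [Fintype F]

theorem exists_sq_ne_one (h4 : 4 ≤ Fintype.card F) : ∃ a : F, a ≠ 0 ∧ a * a ≠ 1 := by
  classical
  obtain ⟨a, ha⟩ : ∃ a : F, a ∉ ({0, 1, -1} : Finset F) := by
    by_contra hno
    push Not at hno
    have h1 : Fintype.card F ≤ ({0, 1, -1} : Finset F).card := Finset.card_le_card (fun x _ => hno x)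
    have h2 : ({0, 1, -1} : Finset F).card ≤ 3 := Finset.card_le_three
    omega
  simp only [Finset.mem_insert, Finset.mem_singleton, not_or] at ha
  exact ⟨a, ha.1, fun e => (mul_self_eq_one_iff.1 e).elim ha.2.1 ha.2.2⟩

/-- The canonical element of the special linear group. -/
def canS (k : ℕ) (a : F) (ha : a ≠ 0) : Matrix.SpecialLinearGroup (Fin (k + 2)) F := ⟨canM k a, det_canM a ha⟩

theorem two_canS (h4 : 4 ≤ Fintype.card F) {k : ℕ} {a : F} (ha : a ≠ 0) (ha2 : a * a ≠ 1)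
    (g : Matrix.SpecialLinearGroup (Fin (k + 2)) F) (hg : ∀ μ : F, (g : Matrix (Fin (k + 2)) (Fin (k + 2)) F) = μ • 1 → μ = 1) :
    Two (canS k a ha) g := by
  obtain ⟨A, B, ⟨P, hA⟩, ⟨R, hB⟩, e⟩ := exists_two h4 ha ha2 (g : Matrix (Fin (k + 2)) (Fin (k + 2)) F) g.det_coe hg
  refine ⟨P, R, Subtype.ext ?_⟩
  rw [Matrix.SpecialLinearGroup.coe_mul, Matrix.SpecialLinearGroup.coe_mul, Matrix.SpecialLinearGroup.coe_mul,
    Matrix.SpecialLinearGroup.coe_mul, Matrix.SpecialLinearGroup.coe_mul]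
  exact e.trans (by rw [hA, hB]; rfl)

theorem hasSquare_psl (h4 : 4 ≤ Fintype.card F) (n : ℕ) (hn : 2 ≤ n) :
    HasSquare (Matrix.ProjectiveSpecialLinearGroup (Fin n) F) := by
  obtain ⟨k, rfl⟩ : ∃ k, n = k + 2 := ⟨n - 2, by omega⟩
  obtain ⟨a, ha, ha2⟩ := exists_sq_ne_one h4
  refine hasSquare_quotient (Subgroup.center (Matrix.SpecialLinearGroup (Fin (k + 2)) F)) (canS k a ha)
    (fun g => ?_) (two_canS h4 ha ha2 1 fun μ e => ?_)
  · by_cases hg : ∀ μ : F, (g : Matrix (Fin (k + 2)) (Fin (k + 2)) F) = μ • 1 → μ = 1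
    · exact Or.inr (two_canS h4 ha ha2 g hg)
    · push Not at hg
      obtain ⟨μ, hμ, -⟩ := hg
      refine Or.inl (Subgroup.mem_center_iff.2 fun x => Subtype.ext ?_)
      rw [Matrix.SpecialLinearGroup.coe_mul, Matrix.SpecialLinearGroup.coe_mul, hμ]
      simp
  · have h := congrFun (congrFun e 0) 0
    simpa using h.symm

end Cfsg.Agent.Lie.ClassSq
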