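import Mathlib
import Cfsg.Agent.Lib.Lie.ClassSquare.Linear

/-!
Tools for the Siegel parabolic subgroups: conjugates along a parabolic, fixed points of triangular actions,
and determinant moves by symmetric updates.
-/

set_option autoImplicit false
set_option linter.unusedSectionVars false

namespace Cfsg.Agent.Lie.ClassSq

open Matrix

/-- A fixed point free action on a finite subgroup makes the translates conjugate. -/
theorem exists_conj_translate {G : Type*} [Group G] [Finite G] (U : Subgroup G) {c : G}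
    (hn : ∀ x ∈ U, c * x * c⁻¹ ∈ U) (hfree : ∀ x ∈ U, c * x * c⁻¹ = x → x = 1) {u : G} (hu : u ∈ U) :
    (∃ x, u * c = x * c * x⁻¹) ∧ ∃ x, c * u = x * c * x⁻¹ := by
  let f : U → U := fun x => ⟨x.1 * (c * x.1⁻¹ * c⁻¹), mul_mem x.2 (hn _ (inv_mem x.2))⟩
  have hinj : Function.Injective f := fun x y h => by
    have h' : x.1 * (c * x.1⁻¹ * c⁻¹) = y.1 * (c * y.1⁻¹ * c⁻¹) := congrArg Subtype.val h
    have h2 : c * (y.1⁻¹ * x.1) * c⁻¹ = y.1⁻¹ * x.1 := by
      calc c * (y.1⁻¹ * x.1) * c⁻¹ = y.1⁻¹ * (y.1 * (c * y.1⁻¹ * c⁻¹)) * (c * x.1 * c⁻¹) := by group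
        _ = y.1⁻¹ * (x.1 * (c * x.1⁻¹ * c⁻¹)) * (c * x.1 * c⁻¹) := by rw [h']
        _ = _ := by group
    have h3 := hfree _ (mul_mem (inv_mem y.2) x.2) h2
    exact Subtype.ext (inv_mul_eq_one.1 h3).symm
  have key : ∀ u ∈ U, ∃ x, u * c = x * c * x⁻¹ := fun u hu => by
    obtain ⟨x, hx⟩ := (Finite.injective_iff_surjective.1 hinj) ⟨u, hu⟩
    refine ⟨x.1, ?_⟩
    have hx' : x.1 * (c * x.1⁻¹ * c⁻¹) = u := congrArg Subtype.val hx
    rw [← hx']
    group
  refine ⟨key u hu, ?_⟩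
  obtain ⟨x, hx⟩ := key _ (hn u hu)
  refine ⟨x, ?_⟩
  rw [← hx]
  group

/-- A Levi product extends over both radicals. -/
theorem two_of_levi {G : Type*} [Group G] [Finite G] (V U : Subgroup G) {c : G}
    (hV : ∀ x ∈ V, c * x * c⁻¹ ∈ V) (hVf : ∀ x ∈ V, c * x * c⁻¹ = x → x = 1)
    (hU : ∀ x ∈ U, c * x * c⁻¹ ∈ U) (hUf : ∀ x ∈ U, c * x * c⁻¹ = x → x = 1)
    {p r v u : G} (hp : p⁻¹ * v * p ∈ V) (hr : r⁻¹ * u * r ∈ U) :
    Two c (v * ((p * c * p⁻¹) * (r * c * r⁻¹)) * u) := by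
  obtain ⟨x, hx⟩ := (exists_conj_translate V hV hVf hp).1
  obtain ⟨y, hy⟩ := (exists_conj_translate U hU hUf hr).2
  refine ⟨p * x, r * y, ?_⟩
  calc v * ((p * c * p⁻¹) * (r * c * r⁻¹)) * u
      = (p * (p⁻¹ * v * p * c) * p⁻¹) * (r * (c * (r⁻¹ * u * r)) * r⁻¹) := by group
    _ = (p * (x * c * x⁻¹) * p⁻¹) * (r * (y * c * y⁻¹) * r⁻¹) := by rw [hx, hy]
    _ = _ := by group

variable {F : Type*} [Field F] {m : ℕ}

/-- Fixed points of a lower triangular congruence. -/
theorem lower_fixed {T X : Matrix (Fin m) (Fin m) F} (hT : ∀ i j, i < j → T i j = 0) (e : F)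
    (hne : ∀ i j, e * T i i * T j j ≠ 1 ∨ X i j = 0) (h : e • (T * X * Tᵀ) = X) : X = 0 := by
  suffices H : ∀ (N : ℕ) (i j : Fin m), (i : ℕ) + j ≤ N → X i j = 0 from
    Matrix.ext fun i j => H _ i j le_rfl
  intro N
  induction N using Nat.strong_induction_on with
  | _ N ih =>
    intro i j hij
    rcases hne i j with hne | h0
    · have h1 := congrFun (congrFun h i) j
      rw [Matrix.smul_apply, smul_eq_mul, Matrix.mul_apply, Finset.sum_eq_single j, Matrix.mul_apply,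
        Finset.sum_eq_single i] at h1
      · rw [Matrix.transpose_apply] at h1
        have h2 : (e * T i i * T j j - 1) * X i j = 0 := by linear_combination h1
        exact (mul_eq_zero.1 h2).resolve_left (sub_ne_zero.2 hne)
      · intro k _ hk
        rcases lt_or_gt_of_ne hk with h' | h'
        · have hlt : (k : ℕ) < i := h'
          rw [ih ((k : ℕ) + j) (by omega) k j le_rfl, mul_zero]
        · rw [hT i k h', zero_mul]
      · simp
      · intro l _ hl
        rcases lt_or_gt_of_ne hl with h' | h'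
        · rw [Matrix.mul_apply, Finset.sum_eq_zero, zero_mul]
          intro k _
          rcases le_or_gt k i with h'' | h''
          · have hle : (k : ℕ) ≤ i := h''
            have hlt : (l : ℕ) < j := h'
            rw [ih ((k : ℕ) + l) (by omega) k l le_rfl, mul_zero]
          · rw [hT i k h'', zero_mul]
        · rw [Matrix.transpose_apply, hT j l h', mul_zero]
      · simp
    · exact h0

/-- Fixed points of an upper triangular congruence. -/
theorem upper_fixed {T X : Matrix (Fin m) (Fin m) F} (hT : ∀ i j, i < j → T i j = 0) (e : F)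
    (hne : ∀ i j, e * T i i * T j j ≠ 1 ∨ X i j = 0) (h : e • (Tᵀ * X * T) = X) : X = 0 := by
  have := lower_fixed (T := (Tᵀ).submatrix Fin.rev Fin.rev) (X := X.submatrix Fin.rev Fin.rev)
    (fun i j hij => hT _ _ (Fin.rev_lt_rev.2 hij)) e (fun i j => hne i.rev j.rev) (by
      rw [show ((Tᵀ).submatrix Fin.rev Fin.rev)ᵀ = T.submatrix Fin.rev Fin.rev by ext; rfl,
        ← Matrix.submatrix_mul _ _ _ _ _ Fin.rev_bijective, ← Matrix.submatrix_mul _ _ _ _ _ Fin.rev_bijective]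
      exact congrArg (fun M : Matrix (Fin m) (Fin m) F => M.submatrix Fin.rev Fin.rev) h)
  ext i j
  simpa using congrFun (congrFun this i.rev) j.rev

theorem det_update_one (v p : Fin m → F) : (1 + Matrix.vecMulVec v p).det = 1 + p ⬝ᵥ v := by
  rw [Matrix.vecMulVec_eq Unit, Matrix.det_one_add_replicateCol_mul_replicateRow]

theorem det_update_two (u p w r : Fin m → F) :
    (1 + (Matrix.vecMulVec u p + Matrix.vecMulVec w r)).det =
      (1 + p ⬝ᵥ u) * (1 + r ⬝ᵥ w) - (p ⬝ᵥ w) * (r ⬝ᵥ u) := by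
  let U : Matrix (Fin m) (Fin 2) F := Matrix.of fun j => ![u j, w j]
  let V : Matrix (Fin 2) (Fin m) F := Matrix.of ![p, r]
  have hUV : Matrix.vecMulVec u p + Matrix.vecMulVec w r = U * V := by
    ext a c
    simp [U, V, Matrix.mul_apply, Fin.sum_univ_two, Matrix.vecMulVec_apply]
  rw [hUV, Matrix.det_one_add_mul_comm, Matrix.det_fin_two]
  simp [U, V, Matrix.vecMul, dotProduct]

/-- A rank one update of a scalar matrix is not scalar. -/
theorem update_not_scalar (hm : 2 ≤ m) {v p : Fin m → F} (hv : v ≠ 0) (hp : p ≠ 0) (ν μ : F) :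
    ν • 1 + Matrix.vecMulVec v p ≠ μ • (1 : Matrix (Fin m) (Fin m) F) := by
  intro h
  obtain ⟨i, hi⟩ := Function.ne_iff.1 hv
  obtain ⟨j, hj⟩ := Function.ne_iff.1 hp
  rw [Pi.zero_apply] at hi hj
  by_cases hij : i = j
  · subst hij
    haveI : Nontrivial (Fin m) := Fin.nontrivial_iff_two_le.2 hm
    obtain ⟨l, hl⟩ := exists_ne i
    have h1 := congrFun (congrFun h i) i
    have h2 := congrFun (congrFun h l) l
    have h3 := congrFun (congrFun h i) l
    have h4 := congrFun (congrFun h l) i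
    simp [Matrix.vecMulVec_apply, hl, Ne.symm hl] at h1 h2 h3 h4
    have h5 : v l = 0 := h4.resolve_right hj
    rw [h5, zero_mul, add_zero] at h2
    rw [h2] at h1
    exact mul_ne_zero hi hj (by linear_combination h1)
  · have h1 := congrFun (congrFun h i) j
    simp [Matrix.vecMulVec_apply, hij, hi, hj] at h1

/-- Three rank one updates in different directions cannot all be scalar. -/
theorem three_updates (hm : 2 ≤ m) (A : Matrix (Fin m) (Fin m) F) (v p : Fin 3 → Fin m → F)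
    (hp : ∀ i, p i ≠ 0) (hv : ∀ i j, i ≠ j → ∀ a : F, v i ≠ a • v j) :
    ∃ i, ∀ μ : F, A + Matrix.vecMulVec (v i) (p i) ≠ μ • 1 := by
  by_contra hno
  push Not at hno
  choose μ hμ using hno
  have hne : ∀ i j, i ≠ j → μ i ≠ μ j := by
    intro i j hij he
    have h1 : Matrix.vecMulVec (v i) (p i) = Matrix.vecMulVec (v j) (p j) :=
      add_left_cancel ((hμ i).trans ((hμ j).trans (by rw [he])).symm)
    obtain ⟨l, hl⟩ := Function.ne_iff.1 (hp i)
    rw [Pi.zero_apply] at hl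
    refine hv i j hij (p j l / p i l) (funext fun a => ?_)
    have h2 := congrFun (congrFun h1 a) l
    simp [Matrix.vecMulVec_apply] at h2
    rw [Pi.smul_apply, smul_eq_mul, div_mul_eq_mul_div, eq_div_iff hl]
    linear_combination h2
  have key : ∀ j, j ≠ 0 → (μ 0 - μ j) = p 0 ⬝ᵥ v 0 := by
    intro j hj
    have hd : (A - μ j • 1).det = 0 := by
      rw [show A - μ j • 1 = Matrix.vecMulVec (-v j) (p j) by
        rw [Matrix.neg_vecMulVec, ← hμ j]; abel]
      haveI : Nontrivial (Fin m) := Fin.nontrivial_iff_two_le.2 hm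
      exact Matrix.det_vecMulVec _ _
    have hA : A - μ j • 1 = (μ 0 - μ j) • (1 + Matrix.vecMulVec (-(μ 0 - μ j)⁻¹ • v 0) (p 0)) := by
      have h0 : A = μ 0 • 1 - Matrix.vecMulVec (v 0) (p 0) := eq_sub_of_add_eq (hμ 0)
      have hd0 := sub_ne_zero.2 (hne 0 j (Ne.symm hj))
      rw [h0, Matrix.smul_vecMulVec, smul_add, smul_smul, mul_neg, mul_inv_cancel₀ hd0]
      module
    rw [hA, Matrix.det_smul, det_update_one, dotProduct_smul, smul_eq_mul] at hd
    have hd0 := sub_ne_zero.2 (hne 0 j (Ne.symm hj))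
    rcases mul_eq_zero.1 hd with h | h
    · exact absurd (pow_eq_zero_iff'.1 h).1 hd0
    · field_simp at h
      linear_combination h
  exact hne 1 2 (by decide) (by linear_combination key 2 (by decide) - key 1 (by decide))

variable [Fintype F]

theorem exists_avoid (L : Finset F) (h : L.card < Fintype.card F) : ∃ s : F, s ∉ L := by
  by_contra hno
  push Not at hno
  exact absurd (Finset.card_le_card (fun x _ => hno x : (Finset.univ : Finset F) ⊆ L)) (by simp; omega)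

/-- The determinant and non-scalarity are reached by a symmetric update. -/
theorem exists_sym_move (h5 : 5 ≤ Fintype.card F) (hm : 2 ≤ m) (A C : Matrix (Fin m) (Fin m) F)
    (hA : A.det ≠ 0) (hs : (Aᵀ * C)ᵀ = Aᵀ * C) (hC : C ≠ 0) (δ : F) (hδ : δ ≠ 0) :
    ∃ X : Matrix (Fin m) (Fin m) F, Xᵀ = X ∧ (A + X * C).det = δ ∧ ∀ μ : F, A + X * C ≠ μ • 1 := by
  classical
  have hAinj : ∀ u, A *ᵥ u = 0 → u = 0 := fun u hu => by
    by_contra h
    exact hA (Matrix.exists_mulVec_eq_zero_iff.1 ⟨u, h, hu⟩)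
  -- a rank one update along `A u`
  have hsym : ∀ u, (Matrix.vecMulVec (A *ᵥ u) (A *ᵥ u))ᵀ = Matrix.vecMulVec (A *ᵥ u) (A *ᵥ u) := fun u =>
    Matrix.transpose_vecMulVec _ _
  have hupd : ∀ (B : Matrix (Fin m) (Fin m) F) (v : Fin m → F) (s : F),
      (s • Matrix.vecMulVec v v) * B = Matrix.vecMulVec v (s • (v ᵥ* B)) := fun B v s => by
    rw [Matrix.smul_mul, Matrix.vecMulVec_mul, Matrix.vecMulVec_smul]
  have hQ : ∀ (B : Matrix (Fin m) (Fin m) F) u, (B *ᵥ u) ᵥ* C ⬝ᵥ u = u ⬝ᵥ ((Bᵀ * C) *ᵥ u) := fun B u => by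
    rw [← Matrix.dotProduct_mulVec, ← Matrix.vecMul_transpose, ← Matrix.mulVec_mulVec, Matrix.dotProduct_mulVec u]
  have hdet1 : ∀ (B : Matrix (Fin m) (Fin m) F) u (s : F), (B + s • Matrix.vecMulVec (B *ᵥ u) (B *ᵥ u) * C).det =
      B.det * (1 + s * (u ⬝ᵥ ((Bᵀ * C) *ᵥ u))) := fun B u s => by
    rw [show B + s • Matrix.vecMulVec (B *ᵥ u) (B *ᵥ u) * C =
      B * (1 + Matrix.vecMulVec u (s • ((B *ᵥ u) ᵥ* C))) by
        rw [hupd, Matrix.mul_add, Matrix.mul_one, Matrix.mul_vecMulVec], Matrix.det_mul, det_update_one,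
      smul_dotProduct, smul_eq_mul, hQ]
  by_cases halt : ∀ u, u ⬝ᵥ ((Aᵀ * C) *ᵥ u) = 0
  · -- the form is alternating: the characteristic is two
    set W := Aᵀ * C with hW
    have hWd : ∀ i, W i i = 0 := fun i => by simpa using halt (Pi.single i 1)
    have hW0 : W ≠ 0 := fun h => hC (by
      have := congrArg ((Aᵀ)⁻¹ * ·) h
      rwa [hW, ← Matrix.mul_assoc, Matrix.nonsing_inv_mul _ (by rw [Matrix.det_transpose]; exact hA.isUnit),
        Matrix.one_mul, Matrix.mul_zero] at this)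
    obtain ⟨i, j, hij⟩ : ∃ i j, W i j ≠ 0 := by
      by_contra hno; push Not at hno; exact hW0 (Matrix.ext hno)
    have hji : W j i = W i j := congrFun (congrFun hs i) j
    have h2 : (2 : F) = 0 := by
      have h := halt (Pi.single i 1 + Pi.single j 1)
      simp [Matrix.mulVec_add, dotProduct_add, add_dotProduct, hWd, hji] at h
      exact (mul_eq_zero.1 (show (2 : F) * W i j = 0 by linear_combination h)).resolve_right hij
    have hne : ((A.det)⁻¹ * δ) ≠ 0 := mul_ne_zero (inv_ne_zero hA) hδ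
    haveI : CharP F 2 := CharTwo.of_one_ne_zero_of_two_eq_zero one_ne_zero h2
    obtain ⟨r, hr⟩ := FiniteField.isSquare_of_char_two (ringChar.eq F 2) ((A.det)⁻¹ * δ)
    set a : Fin m → F := Pi.single i 1 with ha
    set b : Fin m → F := Pi.single j 1 with hb
    set s : F := (r - 1) * (W i j)⁻¹ with hsdef
    set X₁ : Matrix (Fin m) (Fin m) F := s • (Matrix.vecMulVec (A *ᵥ a) (A *ᵥ b) + Matrix.vecMulVec (A *ᵥ b) (A *ᵥ a)) with hX₁
    have hX₁s : X₁ᵀ = X₁ := by
      rw [hX₁, Matrix.transpose_smul, Matrix.transpose_add, Matrix.transpose_vecMulVec, Matrix.transpose_vecMulVec, add_comm]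
    have hX₁C : A + X₁ * C = A * (1 + (Matrix.vecMulVec a (s • (W *ᵥ b)) + Matrix.vecMulVec b (s • (W *ᵥ a)))) := by
      have hw : ∀ u, (A *ᵥ u) ᵥ* C = W *ᵥ u := fun u => by
        rw [← Matrix.vecMul_transpose, Matrix.vecMul_vecMul, ← hW, ← hs, Matrix.vecMul_transpose, hs]
      rw [hX₁, Matrix.smul_mul, Matrix.add_mul, Matrix.vecMulVec_mul, Matrix.vecMulVec_mul, hw, hw, Matrix.mul_add,
        Matrix.mul_one, Matrix.mul_add, Matrix.mul_vecMulVec, Matrix.mul_vecMulVec, smul_add, Matrix.vecMulVec_smul,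
        Matrix.vecMulVec_smul]
    have hd : (A + X₁ * C).det = δ := by
      rw [hX₁C, Matrix.det_mul, det_update_two]
      simp only [ha, hb, Pi.smul_apply, smul_dotProduct, smul_eq_mul, Matrix.mulVec_single_one, dotProduct_single, mul_one,
        Matrix.col_apply, Pi.smul_apply, hWd, hji, mul_zero]
      have e1 : s * W i j = r - 1 := by rw [hsdef, mul_assoc, inv_mul_cancel₀ hij, mul_one]
      rw [e1, show (1 + (r - 1)) * (1 + (r - 1)) - 0 = r * r by ring, ← hr, ← mul_assoc, mul_inv_cancel₀ hA,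
        one_mul]
    by_cases hsc : ∀ μ : F, A + X₁ * C ≠ μ • 1
    · exact ⟨X₁, hX₁s, hd, hsc⟩
    push Not at hsc
    obtain ⟨μ, hμ⟩ := hsc
    set A₁ := A + X₁ * C with hA₁
    have : Nonempty (Fin m) := ⟨i⟩
    have hμ0 : μ ≠ 0 := fun h => hδ (by rw [← hd, hμ, h, zero_smul, Matrix.det_zero])
    have halt₁ : ∀ u, u ⬝ᵥ ((A₁ᵀ * C) *ᵥ u) = 0 := fun u => by
      rw [hA₁, Matrix.transpose_add, Matrix.transpose_mul, hX₁s, Matrix.add_mul, Matrix.add_mulVec, dotProduct_add,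
        halt u, zero_add, hX₁, Matrix.mul_smul, Matrix.smul_mul, Matrix.smul_mulVec, dotProduct_smul,
        Matrix.mul_add, Matrix.add_mul, Matrix.add_mulVec, dotProduct_add]
      have e : ∀ x y : Fin m → F, u ⬝ᵥ ((Cᵀ * Matrix.vecMulVec x y * C) *ᵥ u) = (u ⬝ᵥ Cᵀ *ᵥ x) * (y ᵥ* C ⬝ᵥ u) := by
        intro x y
        rw [Matrix.mul_vecMulVec, Matrix.vecMulVec_mul, Matrix.vecMulVec_mulVec]
        simp [dotProduct_smul, mul_comm]
      rw [e, e, ← Matrix.dotProduct_mulVec, ← Matrix.dotProduct_mulVec]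
      simp only [Matrix.mulVec_transpose, dotProduct_comm u]
      simp only [← Matrix.dotProduct_mulVec, dotProduct_comm (A *ᵥ _) (C *ᵥ u)]
      rw [show ∀ z w : F, z * w + w * z = 2 * (z * w) from fun z w => by ring, h2, zero_mul, smul_zero]
    obtain ⟨l, hl⟩ : ∃ l, C *ᵥ Pi.single l (1 : F) ≠ 0 := by
      by_contra hno; push Not at hno
      exact hC (Matrix.ext_of_mulVec_single fun l => by rw [hno l, Matrix.zero_mulVec])
    obtain ⟨x, hx⟩ := Function.ne_iff.1 hl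
    set v : Fin m → F := Pi.single x 1 with hv
    have hvC : v ᵥ* C ≠ 0 := fun h => hx (by
      have := congrFun h l
      simpa [hv, Matrix.mulVec_single_one] using this)
    refine ⟨X₁ + Matrix.vecMulVec v v, by rw [Matrix.transpose_add, hX₁s, Matrix.transpose_vecMulVec], ?_, fun ν => ?_⟩
    · rw [Matrix.add_mul, ← add_assoc, ← hA₁]
      have e : A₁ *ᵥ (μ⁻¹ • v) = v := by
        rw [hμ, Matrix.smul_mulVec, Matrix.one_mulVec, smul_smul, mul_inv_cancel₀ hμ0, one_smul]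
      have h := hdet1 A₁ (μ⁻¹ • v) 1
      rw [one_smul, e, halt₁, mul_zero, add_zero, mul_one, hd] at h
      exact h
    · rw [Matrix.add_mul, ← add_assoc, ← hA₁, hμ, Matrix.vecMulVec_mul]
      refine update_not_scalar hm ?_ hvC μ ν
      simp [hv]
  push Not at halt
  obtain ⟨u₀, hu₀⟩ := halt
  -- first leave the scalar matrices
  obtain ⟨X₀, hX₀, hA₀, hns₀, hu₁⟩ : ∃ X₀ : Matrix (Fin m) (Fin m) F, X₀ᵀ = X₀ ∧ (A + X₀ * C).det ≠ 0 ∧
      (∀ μ : F, A + X₀ * C ≠ μ • 1) ∧ u₀ ⬝ᵥ (((A + X₀ * C)ᵀ * C) *ᵥ u₀) ≠ 0 := by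
    by_cases hsc : ∀ μ : F, A ≠ μ • 1
    · exact ⟨0, Matrix.transpose_zero, by simpa using hA, by simpa using hsc, by simpa using hu₀⟩
    push Not at hsc
    obtain ⟨μ, hμ⟩ := hsc
    set k := u₀ ⬝ᵥ ((Aᵀ * C) *ᵥ u₀) with hk
    obtain ⟨s, hs'⟩ := exists_avoid ({0, -k⁻¹} : Finset F)
      (lt_of_le_of_lt Finset.card_le_two (by omega))
    simp only [Finset.mem_insert, Finset.mem_singleton, not_or] at hs'
    have h1 : 1 + s * k ≠ 0 := fun h => hs'.2 (by field_simp; linear_combination h)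
    have hCu : (A *ᵥ u₀) ᵥ* C ⬝ᵥ u₀ = k := hQ A u₀
    refine ⟨s • Matrix.vecMulVec (A *ᵥ u₀) (A *ᵥ u₀), by rw [Matrix.transpose_smul, hsym], ?_, fun ν => ?_, ?_⟩
    · rw [hdet1]
      exact mul_ne_zero hA h1
    · rw [hupd, hμ]
      refine update_not_scalar hm (fun h => hu₀ ?_) (smul_ne_zero hs'.1 fun h => hu₀ ?_) μ ν
      · rw [hk, hAinj u₀ (by rw [hμ]; exact h), zero_dotProduct]
      · rw [← hCu, hμ, h, zero_dotProduct]
    · rw [hupd, Matrix.transpose_add, Matrix.add_mul, Matrix.add_mulVec, dotProduct_add, ← hk, Matrix.transpose_vecMulVec,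
        Matrix.vecMulVec_mul, Matrix.vecMulVec_mulVec, dotProduct_smul, dotProduct_smul, hCu]
      simp only [MulOpposite.smul_eq_mul_unop, MulOpposite.unop_op, smul_eq_mul]
      rw [dotProduct_comm u₀, hCu, show k + s * k * k = k * (1 + s * k) by ring]
      exact mul_ne_zero hu₀ h1
  set A₀ := A + X₀ * C with hA₀def
  have hs₀ : (A₀ᵀ * C)ᵀ = A₀ᵀ * C := by
    have e : A₀ᵀ * C = Aᵀ * C + Cᵀ * (X₀ * C) := by
      rw [hA₀def, Matrix.transpose_add, Matrix.transpose_mul, hX₀, Matrix.add_mul, Matrix.mul_assoc]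
    rw [e, Matrix.transpose_add, hs]
    congr 1
    rw [Matrix.transpose_mul, Matrix.transpose_transpose, Matrix.transpose_mul, hX₀, Matrix.mul_assoc]
  by_cases hd : A₀.det = δ
  · exact ⟨X₀, hX₀, hd, hns₀⟩
  -- three directions
  have hu00 : u₀ ≠ 0 := fun h => hu₀ (by rw [h, zero_dotProduct])
  obtain ⟨w, hw⟩ : ∃ w : Fin m → F, ∀ a : F, w ≠ a • u₀ := by
    obtain ⟨i, hi⟩ := Function.ne_iff.1 hu00
    haveI : Nontrivial (Fin m) := Fin.nontrivial_iff_two_le.2 hm
    obtain ⟨l, hl⟩ := exists_ne i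
    refine ⟨Pi.single l 1, fun a h => ?_⟩
    have h1 := congrFun h i
    simp [Ne.symm hl] at h1
    rcases h1 with h1 | h1
    · simpa [h1] using congrFun h l
    · exact hi h1
  let Q : F → F := fun t => (u₀ + t • w) ⬝ᵥ ((A₀ᵀ * C) *ᵥ (u₀ + t • w))
  obtain ⟨T, hT, hTc⟩ : ∃ T : Finset F, (∀ t ∈ T, Q t ≠ 0) ∧ 3 ≤ T.card := by
    refine ⟨Finset.univ.filter fun t => Q t ≠ 0, fun t ht => (Finset.mem_filter.1 ht).2, ?_⟩
    let f : Polynomial F := Polynomial.C (u₀ ⬝ᵥ ((A₀ᵀ * C) *ᵥ u₀)) +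
      Polynomial.C (u₀ ⬝ᵥ ((A₀ᵀ * C) *ᵥ w) + w ⬝ᵥ ((A₀ᵀ * C) *ᵥ u₀)) * Polynomial.X +
      Polynomial.C (w ⬝ᵥ ((A₀ᵀ * C) *ᵥ w)) * Polynomial.X ^ 2
    have hf0 : f ≠ 0 := fun h => hu₁ (by simpa [f] using congrArg (Polynomial.eval 0) h)
    have hfd : f.natDegree ≤ 2 := by simp only [f]; compute_degree!
    have hsub : (Finset.univ.filter fun t => ¬ Q t ≠ 0) ⊆ f.roots.toFinset := fun t ht => by
      rw [Multiset.mem_toFinset, Polynomial.mem_roots hf0, Polynomial.IsRoot.def]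
      have h := (Finset.mem_filter.1 ht).2
      push Not at h
      simp only [Q, Matrix.mulVec_add, Matrix.mulVec_smul, add_dotProduct, dotProduct_add, smul_dotProduct,
        dotProduct_smul, smul_eq_mul] at h
      simp [f]
      linear_combination h
    have h1 := (Finset.card_le_card hsub).trans
      ((Multiset.toFinset_card_le _).trans ((Polynomial.card_roots' f).trans hfd))
    have h2 := Finset.card_filter_add_card_filter_not (s := (Finset.univ : Finset F)) (fun t => Q t ≠ 0)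
    rw [Finset.card_univ] at h2
    omega
  obtain ⟨T', hT', hTc'⟩ := Finset.exists_subset_card_eq hTc
  obtain ⟨t, htinj, htmem⟩ : ∃ t : Fin 3 → F, Function.Injective t ∧ ∀ i, t i ∈ T' :=
    ⟨fun i => ((T'.equivFinOfCardEq hTc').symm i).1,
      fun a b h => (T'.equivFinOfCardEq hTc').symm.injective (Subtype.ext h), fun i => Subtype.prop _⟩
  let u : Fin 3 → Fin m → F := fun i => u₀ + t i • w
  let s : Fin 3 → F := fun i => (A₀.det⁻¹ * δ - 1) * (Q (t i))⁻¹
  have hs0 : ∀ i, s i ≠ 0 := fun i => mul_ne_zero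
    (sub_ne_zero.2 fun e => hd (by
      have := congrArg (A₀.det * ·) e
      simpa [← mul_assoc, mul_inv_cancel₀ hA₀] using this.symm)) (inv_ne_zero (hT _ (hT' (htmem i))))
  have hA₀inj : ∀ u, A₀ *ᵥ u = 0 → u = 0 := fun u hu => by
    by_contra h
    exact hA₀ (Matrix.exists_mulVec_eq_zero_iff.1 ⟨u, h, hu⟩)
  obtain ⟨i, hi⟩ := three_updates hm A₀ (fun i => A₀ *ᵥ u i) (fun i => s i • ((A₀ *ᵥ u i) ᵥ* C))
    (fun i => smul_ne_zero (hs0 i) fun h => hT _ (hT' (htmem i)) (by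
      show (u i) ⬝ᵥ ((A₀ᵀ * C) *ᵥ (u i)) = 0
      rw [← hQ, h, zero_dotProduct]))
    (fun i j hij a h => by
      have h1 : u i - a • u j = 0 := hA₀inj _ (by rw [Matrix.mulVec_sub, Matrix.mulVec_smul]; exact sub_eq_zero.2 h)
      have h2 : (1 - a) • u₀ = (a * t j - t i) • w := by
        simp only [u] at h1
        linear_combination (norm := module) h1
      by_cases hb : a * t j - t i = 0
      · rw [hb, zero_smul, smul_eq_zero, or_iff_left hu00, sub_eq_zero] at h2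
        exact hij (htinj (by rw [← h2, one_mul, sub_eq_zero] at hb; exact hb.symm))
      · exact hw ((a * t j - t i)⁻¹ * (1 - a))
          (by rw [← smul_smul, h2, smul_smul, inv_mul_cancel₀ hb, one_smul]))
  refine ⟨X₀ + s i • Matrix.vecMulVec (A₀ *ᵥ u i) (A₀ *ᵥ u i), ?_, ?_, fun μ => ?_⟩
  · rw [Matrix.transpose_add, hX₀, Matrix.transpose_smul, Matrix.transpose_vecMulVec]
  · rw [Matrix.add_mul, ← add_assoc, ← hA₀def, hdet1]
    show A₀.det * (1 + (A₀.det⁻¹ * δ - 1) * (Q (t i))⁻¹ * Q (t i)) = δ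
    rw [inv_mul_cancel_right₀ (hT _ (hT' (htmem i))), add_sub_cancel, ← mul_assoc, mul_inv_cancel₀ hA₀, one_mul]
  · rw [Matrix.add_mul, ← add_assoc, ← hA₀def, hupd]
    exact hi μ

end Cfsg.Agent.Lie.ClassSq
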