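import Mathlib
import Cfsg.Agent.Lib.Lie.ClassSquare.Moves

/-!
The scalars of the canonical classes of the Siegel Levi subgroups.
-/

set_option autoImplicit false

namespace Cfsg.Agent.Lie.ClassSq

open Matrix

variable {F : Type*} [Field F] [Fintype F]

theorem exists_generator : ∃ g : Fˣ, orderOf g = Fintype.card F - 1 := by
  obtain ⟨g, hg⟩ := IsCyclic.exists_generator (α := Fˣ)
  exact ⟨g, by rw [orderOf_eq_card_of_forall_mem_zpowers hg, Nat.card_units, Nat.card_eq_fintype_card]⟩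

/-- Small powers of a generator are not one. -/
theorem pow_ne_one_of_lt (g : Fˣ) (hg : orderOf g = Fintype.card F - 1) {i : ℕ} (h0 : 0 < i)
    (hi : i < Fintype.card F - 1) : (g : F) ^ i ≠ 1 := by
  intro h
  have h1 : g ^ i = 1 := Units.ext (by rw [Units.val_pow_eq_pow_val, h, Units.val_one])
  exact pow_ne_one_of_lt_orderOf h0.ne' (by rw [hg]; exact hi) h1

/-- A scalar `b` and a parameter `a` with `b² βᵢ βⱼ ≠ 1` on the diagonal `β` of the canonical form. -/
theorem exists_scalars (h9 : 9 ≤ Fintype.card F) : ∃ a b r : F, a ≠ 0 ∧ a * a ≠ 1 ∧ b = r * r ∧ r ≠ 0 ∧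
    ∀ (k : ℕ) (i j : Fin (k + 2)), b * b * canβ k a i * canβ k a j ≠ 1 ∧ b * canβ k a i ≠ 1 := by
  obtain ⟨g, hg⟩ := exists_generator (F := F)
  have hp : ∀ i, 0 < i → i ≤ 7 → (g : F) ^ i ≠ 1 := fun i h0 h7 => pow_ne_one_of_lt g hg h0 (by omega)
  have hg0 : (g : F) ≠ 0 := g.ne_zero
  refine ⟨g, (g : F) ^ 2, g, hg0, by simpa [_root_.sq] using hp 2 (by norm_num) (by norm_num), _root_.sq _, hg0, fun k => ?_⟩
  have hβ : ∀ i : Fin (k + 2), ∃ d, d ≤ 2 ∧ canβ k (g : F) i * g = (g : F) ^ d := by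
    refine Fin.cases ⟨2, le_rfl, ?_⟩ (Fin.cases ⟨0, by norm_num, ?_⟩ fun i => ⟨1, by norm_num, ?_⟩)
    · simp [canβ, _root_.sq]
    · simp [canβ, hg0]
    · simp [canβ]
  intro i j
  obtain ⟨d, hd, ed⟩ := hβ i
  obtain ⟨d', hd', ed'⟩ := hβ j
  refine ⟨fun h => hp (2 + d + d') (by omega) (by omega) ?_, fun h => hp (1 + d) (by omega) (by omega) ?_⟩
  · rw [pow_add, pow_add, ← ed, ← ed']
    linear_combination h
  · rw [pow_add, ← ed]
    linear_combination h

theorem canM_diag (k : ℕ) (a : F) (i : Fin (k + 2)) : canM k a i i = canβ k a i := by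
  revert i
  refine Fin.cases ?_ (Fin.cases ?_ fun i => ?_) <;>
    simp only [canM, canβ, Cfsg.Agent.Lie.SLComm.blk_zz, Cfsg.Agent.Lie.SLComm.blk_ss, Fin.cons_zero, Fin.cons_succ]
  simp [Cfsg.Agent.Lie.SLComm.Jb]

theorem canM_upper (k : ℕ) (a : F) : ∀ i j : Fin (k + 2), i < j → canM k a i j = 0 := by
  intro i j
  refine Fin.cases ?_ (fun i' => ?_) i <;> refine Fin.cases ?_ (fun j' => ?_) j <;> intro hij
  · exact absurd hij (lt_irrefl _)
  · simp [canM]
  · exact absurd hij (by simp)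
  · rw [Fin.succ_lt_succ_iff] at hij
    simp only [canM, Cfsg.Agent.Lie.SLComm.blk_ss]
    revert hij
    refine Fin.cases ?_ (fun i'' => ?_) i' <;> refine Fin.cases ?_ (fun j'' => ?_) j' <;> intro hij
    · exact absurd hij (lt_irrefl _)
    · simp
    · exact absurd hij (by simp)
    · rw [Fin.succ_lt_succ_iff] at hij
      have h' : (i'' : ℕ) < j'' := hij
      simp [Cfsg.Agent.Lie.SLComm.Jb, ne_of_lt hij, show ¬ (i'' : ℕ) = (j'' : ℕ) + 1 by omega]

open Cfsg.Agent.Lie.SLComm in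
theorem canM_transpose_sim (k : ℕ) (a : F) : SSim (canM k a)ᵀ (canM k a) := by
  refine ssim_of_sim ?_
  have h : (canM k a)ᵀ = blk a 0 0 (blk a⁻¹ 0 0 (Jb k (1 : F))ᵀ) := by
    ext i j
    refine Fin.cases ?_ (Fin.cases ?_ fun i => ?_) i <;> refine Fin.cases ?_ (Fin.cases ?_ fun j => ?_) j <;>
      simp only [canM, Matrix.transpose_apply, blk_zz, blk_ss, blk_zs, blk_sz, Pi.zero_apply, Matrix.zero_apply]
  rw [h, canM]
  refine ((Sim.trans (B := (1 : F) • (1 : Matrix (Fin k) (Fin k) F) + cmp k (Polynomial.X ^ k)) ?_ ?_).blk a⁻¹).blk a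
  · refine sim_tail_upper (fun i => by simp [Jb]) (fun i j h => ?_) (fun i j h => ?_)
    · have h' : (j : ℕ) < i := h
      simp [Jb, ne_of_lt h, show ¬ (j : ℕ) = (i : ℕ) + 1 by omega]
    · have : j ≠ i := fun e => by subst e; omega
      simp [Jb, this, h]
  · refine (sim_tail_lower (fun i => by simp [Jb]) (fun i j h => ?_) (fun i j h => ?_)).symm
    · have h' : (i : ℕ) < j := h
      simp [Jb, ne_of_lt h, show ¬ (i : ℕ) = (j : ℕ) + 1 by omega]
    · have : i ≠ j := fun e => by subst e; omega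
      simp [Jb, this, h]

/-- A matrix with the determinant of a scalar, not another scalar, is a product of two conjugates. -/
theorem exists_two_scaled {k : ℕ} {a b : F} (h4 : 4 ≤ Fintype.card F) (ha : a ≠ 0) (ha2 : a * a ≠ 1) (hb : b ≠ 0)
    (A : Matrix (Fin (k + 2)) (Fin (k + 2)) F) (hA : A.det = (b * b) ^ (k + 2))
    (hns : ∀ μ : F, A = μ • 1 → μ = b * b) :
    ∃ P R : Matrix.SpecialLinearGroup (Fin (k + 2)) F,
      A = ((P : Matrix (Fin (k + 2)) (Fin (k + 2)) F) * (b • canM k a) * (P⁻¹ : Matrix.SpecialLinearGroup (Fin (k + 2)) F)) *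
        ((R : Matrix (Fin (k + 2)) (Fin (k + 2)) F) * (b • canM k a) * (R⁻¹ : Matrix.SpecialLinearGroup (Fin (k + 2)) F)) := by
  have hbb : b * b ≠ 0 := mul_ne_zero hb hb
  obtain ⟨S, T, ⟨P, hP⟩, ⟨R, hR⟩, e⟩ := exists_two h4 ha ha2 ((b * b)⁻¹ • A) (by
    rw [Matrix.det_smul, Fintype.card_fin, hA, inv_pow, inv_mul_cancel₀ (pow_ne_zero _ hbb)]) (fun μ h => by
    have h1 : A = (b * b * μ) • 1 := by rw [← smul_smul, ← h, smul_smul, mul_inv_cancel₀ hbb, one_smul]
    have h2 := hns _ h1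
    exact mul_left_cancel₀ hbb (by rw [h2, mul_one]))
  refine ⟨P, R, ?_⟩
  simp only [Matrix.mul_smul, Matrix.smul_mul, smul_smul]
  rw [← hP, ← hR, ← e, smul_smul, mul_inv_cancel₀ hbb, one_smul]

end Cfsg.Agent.Lie.ClassSq
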