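import Cfsg.Agent.Lib.Lie.ClassSquare.ExcCell
import Cfsg.Agent.Lib.Lie.ClassSquare.Field
import Cfsg.Agent.Lib.Lie.TorusCard

/-!
Conjugation moves on big cell elements, and the elements with prescribed nonzero simple coordinates.
-/

set_option autoImplicit false
set_option linter.unusedSectionVars false

namespace Cfsg.Agent.Lie.ClassSq.Exc

open Cfsg.Lie
open scoped MatrixGroups

variable {D : ChevalleyDatum} (hF : Facts D) {F : Type*} [Field F]

/-- No commutator term of -α_b with the positive side of b is α_j. -/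
def NoTerm (D : ChevalleyDatum) (b j : Fin D.rank) : Prop :=
  ∀ s ∈ TorusSys.posNe D b, ∀ c ∈ D.commTerms (D.neg (D.simple b.val)) s, c.1 ≠ D.simple j.val

instance (D : ChevalleyDatum) (b j : Fin D.rank) : Decidable (NoTerm D b j) := by
  unfold NoTerm; infer_instance

theorem commTerms_deg {r s : ℕ} {c : ℕ × ℤ × ℕ × ℕ} (hc : c ∈ D.commTerms r s) :
    c.2.2.1 = 1 ∨ c.2.2.1 = 2 ∨ c.2.2.1 = 3 := by
  simp only [ChevalleyDatum.commTerms, List.mem_filterMap, List.mem_cons, List.not_mem_nil, or_false] at hc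
  obtain ⟨x, hx, hxc⟩ := hc
  obtain ⟨k, -, rfl⟩ := Option.map_eq_some_iff.1 hxc
  rcases hx with rfl | rfl | rfl | rfl | rfl | rfl | rfl <;> simp

theorem torChar_mul (c c' : Fin D.rank → Fˣ) (s : ℕ) :
    torChar D (c * c') s = torChar D c s * torChar D c' s := by
  simp only [torChar, Pi.mul_apply, mul_zpow, Finset.prod_mul_distrib]

theorem torChar_single (i : Fin D.rank) (x : Fˣ) (s : ℕ) :
    torChar D (Pi.mulSingle i x) s = x ^ D.cartan i.val s := by
  rw [torChar, Finset.prod_eq_single i]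
  · rw [Pi.mulSingle_eq_same]
  · intro j _ hj
    rw [Pi.mulSingle_eq_of_ne hj, one_zpow]
  · simp

include hF

/-- A conjugate inside the group. -/
def Cj (D : ChevalleyDatum) (a b : GL D.Idx F) : Prop := ∃ z ∈ D.group F, z * a * z⁻¹ = b

theorem cj_trans {a b c : GL D.Idx F} (h1 : Cj D a b) (h2 : Cj D b c) : Cj D a c := by
  obtain ⟨z, hz, rfl⟩ := h1
  obtain ⟨w, hw, rfl⟩ := h2
  exact ⟨w * z, mul_mem hw hz, by group⟩

/-- An element of the big cell. -/
noncomputable def el (v : GL D.Idx F) (c : Fin D.rank → Fˣ) (u : GL D.Idx F) : GL D.Idx F := v * torus D F c * u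

/-- A big cell element conjugate to g. -/
def St (g v : GL D.Idx F) (c : Fin D.rank → Fˣ) (u : GL D.Idx F) : Prop :=
  v ∈ Vg hF F ∧ u ∈ Ug hF F ∧ Cj D g (el v c u)

/-- The character of a fundamental root. -/
noncomputable abbrev χ (c : Fin D.rank → Fˣ) (i : Fin D.rank) : F := (torChar D c (D.simple i.val) : F)

theorem chi_ne (c : Fin D.rank → Fˣ) (i : Fin D.rank) : χ c i ≠ 0 := Units.ne_zero _

theorem torus_xp (c : Fin D.rank → Fˣ) (i : Fin D.rank) (t : F) :
    Xp hF i t * torus D F c = torus D F c * Xp hF i ((χ c i)⁻¹ * t) := by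
  have h := hF.torus_conj c (hF.simple_lt i.val i.isLt) ((χ c i)⁻¹ * t)
  rw [← mul_assoc (torChar D c (D.simple i.val) : F), mul_inv_cancel₀ (chi_ne hF c i), one_mul] at h
  show hF.xg (D.simple i.val) t * _ = _
  rw [← h, inv_mul_cancel_right]

theorem torus_xm (c : Fin D.rank → Fˣ) (i : Fin D.rank) (t : F) :
    torus D F c * Xm hF i t = Xm hF i ((χ c i)⁻¹ * t) * torus D F c := by
  have h := hF.torus_conj c (hF.neg_lt (hF.simple_lt i.val i.isLt)) t
  rw [torChar_neg hF c (hF.simple_lt i.val i.isLt)] at h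
  exact mul_inv_eq_iff_eq_mul.1 h

/-- Conjugation by x_b(e), when it stays in the cell. -/
theorem cell_up (b : Fin D.rank) {v u : GL D.Idx F} (hv : v ∈ Vg hF F) (hu : u ∈ Ug hF F) (c : Fin D.rank → Fˣ)
    (e : F) (s : Fˣ) (hs : (s : F) = 1 + cm hF b v * e) :
    ∃ v' ∈ Vg hF F, ∃ u' ∈ Ug hF F, Xp hF b e * el v c u = el v' (Pi.mulSingle b s * c) u' ∧
      cm hF b v' = cm hF b v / s ∧
      (∀ j, j ≠ b → cm hF j v' = cm hF j (Xp hF b e * (v * (Xm hF b (cm hF b v))⁻¹) * (Xp hF b e)⁻¹)) ∧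
      (∀ j, cp hF j u' = (if j = b then (χ c b)⁻¹ * (e / s) else 0) + cp hF j u) := by
  set a := cm hF b v with ha
  have hv' := xp_conj_um hF b e (cm_spec hF b hv)
  refine ⟨_, mul_mem (um_le hF b hv') (xm_mem hF b (a / s)), _, mul_mem (xp_mem hF b ((χ c b)⁻¹ * (e / s))) hu,
    ?_, ?_, fun j hj => ?_, fun j => ?_⟩
  · rw [el, el, map_mul]
    calc Xp hF b e * (v * torus D F c * u)
        = (Xp hF b e * (v * (Xm hF b a)⁻¹) * (Xp hF b e)⁻¹) * (Xp hF b e * Xm hF b a) * torus D F c * u := by group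
      _ = (Xp hF b e * (v * (Xm hF b a)⁻¹) * (Xp hF b e)⁻¹) * Xm hF b (a / s) * torus D F (Pi.mulSingle b s) *
            (Xp hF b (e / s) * torus D F c) * u := by rw [swap_id hF b a e s hs]; group
      _ = _ := by rw [torus_xp, ha]; group
  · rw [cm_mul hF b (um_le hF b hv') (xm_mem hF b _), cm_of_mem hF b hv', cm_xm, if_pos rfl, zero_add]
  · rw [cm_mul hF j (um_le hF b hv') (xm_mem hF b _), cm_xm, if_neg hj, add_zero]
  · rw [cp_mul hF j (xp_mem hF b _) hu, cp_xp]

theorem one_xp (b : Fin D.rank) (e : F) : (Xp hF b e)⁻¹ = Xp hF b (-e) := (hF.xg_neg _ e).symm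

theorem one_xm (b : Fin D.rank) (e : F) : (Xm hF b e)⁻¹ = Xm hF b (-e) := (hF.xg_neg _ e).symm

/-- The move by x_b(e). -/
theorem move_up {g v u : GL D.Idx F} {c : Fin D.rank → Fˣ} (h : St hF g v c u) (b : Fin D.rank) (e : F)
    (s : Fˣ) (hs : (s : F) = 1 + cm hF b v * e) :
    ∃ v' u', St hF g v' (Pi.mulSingle b s * c) u' ∧ cm hF b v' = cm hF b v / s ∧
      (∀ j, j ≠ b → cm hF j v' = cm hF j (Xp hF b e * (v * (Xm hF b (cm hF b v))⁻¹) * (Xp hF b e)⁻¹)) ∧
      cp hF b u' = (χ c b)⁻¹ * (e / s) + cp hF b u - e ∧ ∀ j, j ≠ b → cp hF j u' = cp hF j u := by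
  obtain ⟨hv, hu, hc⟩ := h
  obtain ⟨v', hv', u', hu', he, h1, h2, h3⟩ := cell_up hF b hv hu c e s hs
  refine ⟨v', u' * Xp hF b (-e), ⟨hv', mul_mem hu' (xp_mem hF b _), cj_trans hF hc
    ⟨Xp hF b e, hF.xg_mem_group _ _, ?_⟩⟩, h1, h2, ?_, fun j hj => ?_⟩
  · rw [he, el, el, one_xp hF]; group
  · rw [cp_mul hF b hu' (xp_mem hF b _), h3, cp_xp, if_pos rfl, if_pos rfl]; ring
  · rw [cp_mul hF j hu' (xp_mem hF b _), h3, cp_xp, if_neg hj, if_neg hj, zero_add, add_zero]

theorem cp_conj_keep {b j : Fin D.rank} (hj : j ≠ b) (hno : NoTerm D b j) (e : F) {u : GL D.Idx F}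
    (hu : u ∈ Up hF F b) : cp hF j (Xm hF b e * u * (Xm hF b e)⁻¹) = cp hF j u := by
  induction hu using Subgroup.closure_induction with
  | mem g hg =>
    obtain ⟨s, hs, a, rfl⟩ := hg
    obtain ⟨h1, h2, h3⟩ := TorusSys.mem_posNe.1 hs
    have hα := hF.simple_lt b.val b.isLt
    have hcj := (hF.tsys F).x_conj (D.neg (D.simple b.val)) s (hF.neg_lt hα) h2
      (fun he => by have := neg_simple_lt hF b; omega) (by rwa [hF.neg_neg hα]) (-e) a
    simp only [Facts.tsys_x] at hcj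
    rw [← hF.xg_neg, neg_neg] at hcj
    show cp hF j (hF.xg (D.neg (D.simple b.val)) e * hF.xg s a * (hF.xg (D.neg (D.simple b.val)) e)⁻¹) =
      cp hF j (hF.xg s a)
    rw [← hF.xg_neg, hcj]
    have hmem : ∀ p ∈ D.commWord F (D.neg (D.simple b.val)) s (-e) a,
        hF.xg p.1 p.2 ∈ Up hF F j := by
      intro p hp
      obtain ⟨t, ht, rfl⟩ := List.mem_map.1 hp
      obtain ⟨q1, q2, -⟩ := TorusSys.mem_posNe.1 ((terms_side hF b).2.2.1 s hs t ht)
      exact (hF.tsys F).x_mem_US (TorusSys.mem_posNe.2 ⟨q1, q2, hno s hs t ht⟩) _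
    have hw := (hF.tsys F).word_mem (H := Up hF F j) (w := D.commWord F (D.neg (D.simple b.val)) s (-e) a) hmem
    simp only [Facts.tsys_x] at hw
    have hxa : hF.xg s a ∈ Ug hF F := (hF.tsys F).x_mem_U h1 h2 a
    rw [cp_mul hF j hxa (up_le hF j hw), cp_of_mem hF j hw, add_zero]
  | one => simp
  | mul p q hp hq ihp ihq =>
    rw [show Xm hF b e * (p * q) * (Xm hF b e)⁻¹ =
      (Xm hF b e * p * (Xm hF b e)⁻¹) * (Xm hF b e * q * (Xm hF b e)⁻¹) by group,
      cp_mul hF j (up_le hF b (xm_conj_up hF b e hp)) (up_le hF b (xm_conj_up hF b e hq)), ihp, ihq,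
      cp_mul hF j (up_le hF b hp) (up_le hF b hq)]
  | inv p hp ihp =>
    rw [show Xm hF b e * p⁻¹ * (Xm hF b e)⁻¹ = (Xm hF b e * p * (Xm hF b e)⁻¹)⁻¹ by group,
      cp_inv hF j (up_le hF b (xm_conj_up hF b e hp)), ihp, cp_inv hF j (up_le hF b hp)]

/-- Right multiplication by x_{-b}(e), pushed to the left. -/
theorem cell_down (b : Fin D.rank) {v u : GL D.Idx F} (hv : v ∈ Vg hF F) (hu : u ∈ Ug hF F) (c : Fin D.rank → Fˣ)
    (e : F) (s : Fˣ) (hs : (s : F) = 1 + cp hF b u * e) :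
    ∃ v' ∈ Vg hF F, ∃ u' ∈ Ug hF F, el v c u * Xm hF b e = el v' (c * Pi.mulSingle b s) u' ∧
      (∀ j, cm hF j v' = cm hF j v + if j = b then (χ c b)⁻¹ * (e / s) else 0) ∧
      (∀ j, j ≠ b → NoTerm D b j → cp hF j u ≠ 0 → cp hF j u' ≠ 0) := by
  set β := cp hF b u with hβ
  have h1 := cp_spec hF b hu
  have h2 := xm_conj_up hF b (-(e / s)) h1
  set u1 := Xm hF b (-(e / s)) * (u * (Xp hF b β)⁻¹) * (Xm hF b (-(e / s)))⁻¹ with hu1
  have h3 := torus_conj_mem hF (posNe_lt b) (Pi.mulSingle b s)⁻¹ h2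
  rw [map_inv] at h3
  refine ⟨v * Xm hF b ((χ c b)⁻¹ * (e / s)), mul_mem hv (xm_mem hF b _), _,
    mul_mem (up_le hF b h3) (xp_mem hF b (β / s)), ?_, fun j => ?_, fun j hj hno hne => ?_⟩
  · rw [el, el, map_mul, inv_inv]
    have e1 : Xp hF b β * Xm hF b e = Xm hF b (e / s) * torus D F (Pi.mulSingle b s) * Xp hF b (β / s) :=
      swap_id hF b e β s (by rw [hs]; ring)
    have e2 : Xm hF b (-(e / s)) = (Xm hF b (e / s))⁻¹ := hF.xg_neg _ _
    calc v * torus D F c * u * Xm hF b e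
        = v * torus D F c * ((u * (Xp hF b β)⁻¹) * (Xp hF b β * Xm hF b e)) := by group
      _ = v * (torus D F c * Xm hF b (e / s)) * (u1 * torus D F (Pi.mulSingle b s) * Xp hF b (β / s)) := by
          rw [e1, hu1, e2]; group
      _ = _ := by rw [torus_xm hF c b (e / s)]; group
  · rw [cm_mul hF j hv (xm_mem hF b _), cm_xm]
  · rw [cp_mul hF j (up_le hF b h3) (xp_mem hF b _), cp_xp, if_neg hj, add_zero, ← map_inv,
      cp_torus hF j _ (up_le hF b h2), hu1, cp_conj_keep hF hj hno _ h1, cp_mul hF j hu (inv_mem (xp_mem hF b _)),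
      cp_inv hF j (xp_mem hF b _), cp_xp, if_neg hj, neg_zero, add_zero]
    exact mul_ne_zero (chi_ne hF _ j) hne

/-- The move by x_{-b}(e). -/
theorem move_down {g v u : GL D.Idx F} {c : Fin D.rank → Fˣ} (h : St hF g v c u) (b : Fin D.rank) (e : F)
    (s : Fˣ) (hs : (s : F) = 1 - cp hF b u * e) :
    ∃ v' u', St hF g v' (c * Pi.mulSingle b s) u' ∧ cm hF b v' = e + cm hF b v - (χ c b)⁻¹ * (e / s) ∧
      (∀ j, j ≠ b → cm hF j v' = cm hF j v) ∧
      (∀ j, j ≠ b → NoTerm D b j → cp hF j u ≠ 0 → cp hF j u' ≠ 0) := by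
  obtain ⟨hv, hu, hc⟩ := h
  obtain ⟨v', hv', u', hu', he, h1, h2⟩ := cell_down hF b hv hu c (-e) s (by rw [hs]; ring)
  refine ⟨Xm hF b e * v', u', ⟨mul_mem (xm_mem hF b e) hv', hu', cj_trans hF hc
    ⟨Xm hF b e, hF.xg_mem_group _ _, ?_⟩⟩, ?_, fun j hj => ?_, h2⟩
  · rw [one_xm hF, mul_assoc, he, el, el]; group
  · rw [cm_mul hF b (xm_mem hF b e) hv', h1, cm_xm, if_pos rfl, if_pos rfl]; ring
  · rw [cm_mul hF j (xm_mem hF b e) hv', h1, cm_xm, if_neg hj, if_neg hj, zero_add, add_zero]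

/-- The dependence of a negative coordinate on the parameter. -/
theorem cm_conj_poly (b j : Fin D.rank) {v : GL D.Idx F} (hv : v ∈ Um hF F b) :
    ∃ A B C : F, ∀ e : F, cm hF j (Xp hF b e * v * (Xp hF b e)⁻¹) = cm hF j v + A * e + B * e ^ 2 + C * e ^ 3 := by
  induction hv using Subgroup.closure_induction with
  | mem g hg =>
    obtain ⟨s, hs, a, rfl⟩ := hg
    obtain ⟨h1, h2⟩ := mem_negNe.1 hs
    have hα := hF.simple_lt b.val b.isLt
    have hge := hF.simple_ge b.val b.isLt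
    have key : ∀ (L : List (ℕ × ℤ × ℕ × ℕ)), (∀ t ∈ L, t ∈ D.commTerms (D.simple b.val) s) →
        ∃ A B C : F, ∀ e : F, (L.map fun t => hF.xg t.1 ((t.2.1 : F) * (- -e) ^ t.2.2.1 * a ^ t.2.2.2)).prod ∈
            Vg hF F ∧
          cm hF j (L.map fun t => hF.xg t.1 ((t.2.1 : F) * (- -e) ^ t.2.2.1 * a ^ t.2.2.2)).prod =
            A * e + B * e ^ 2 + C * e ^ 3 := by
      intro L hL
      induction L with
      | nil => exact ⟨0, 0, 0, fun e => ⟨by simp, by simp [cm_one hF]⟩⟩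
      | cons t L ih =>
        obtain ⟨A, B, C, hABC⟩ := ih fun x hx => hL x (List.mem_cons_of_mem _ hx)
        have ht := hL t (by simp)
        have htn := (mem_negNe.1 ((terms_side hF b).2.2.2 s hs t ht)).1
        set k : F := if t.1 = D.neg (D.simple j.val) then (t.2.1 : F) * a ^ t.2.2.2 else 0 with hk
        have hmem : ∀ e : F, hF.xg t.1 ((t.2.1 : F) * (- -e) ^ t.2.2.1 * a ^ t.2.2.2) ∈ Vg hF F := fun e =>
          (hF.tsys F).x_mem_US (List.mem_range.2 htn) _
        have hval : ∀ e : F, cm hF j (hF.xg t.1 ((t.2.1 : F) * (- -e) ^ t.2.2.1 * a ^ t.2.2.2)) =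
            k * e ^ t.2.2.1 := fun e => by
          rw [cm_x hF j htn, hk, neg_neg]
          split_ifs <;> ring
        rcases commTerms_deg ht with hd | hd | hd
        · exact ⟨A + k, B, C, fun e => ⟨by simpa using mul_mem (hmem e) (hABC e).1, by
            rw [List.map_cons, List.prod_cons, cm_mul hF j (hmem e) (hABC e).1, hval, (hABC e).2, hd]; ring⟩⟩
        · exact ⟨A, B + k, C, fun e => ⟨by simpa using mul_mem (hmem e) (hABC e).1, by
            rw [List.map_cons, List.prod_cons, cm_mul hF j (hmem e) (hABC e).1, hval, (hABC e).2, hd]; ring⟩⟩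
        · exact ⟨A, B, C + k, fun e => ⟨by simpa using mul_mem (hmem e) (hABC e).1, by
            rw [List.map_cons, List.prod_cons, cm_mul hF j (hmem e) (hABC e).1, hval, (hABC e).2, hd]; ring⟩⟩
    obtain ⟨A, B, C, h⟩ := key _ fun _ ht => ht
    refine ⟨A, B, C, fun e => ?_⟩
    have hcj := (hF.tsys F).x_conj (D.simple b.val) s hα (by omega) (by omega) h2 (-e) a
    simp only [Facts.tsys_x] at hcj
    rw [← hF.xg_neg, neg_neg] at hcj
    show cm hF j (hF.xg (D.simple b.val) e * hF.xg s a * (hF.xg (D.simple b.val) e)⁻¹) = _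
    rw [← hF.xg_neg, hcj, ChevalleyDatum.commWord, List.map_map]
    obtain ⟨hm, hv2⟩ := h e
    show cm hF j (hF.xg s a * (List.map (fun t => hF.xg t.1 ((t.2.1 : F) * (- -e) ^ t.2.2.1 * a ^ t.2.2.2))
      (D.commTerms (D.simple b.val) s)).prod) = cm hF j (hF.xg s a) + A * e + B * e ^ 2 + C * e ^ 3
    have hxa : hF.xg s a ∈ Vg hF F := (hF.tsys F).x_mem_US (List.mem_range.2 h1) a
    rw [cm_mul hF j hxa hm, hv2]
    ring
  | one => exact ⟨0, 0, 0, fun e => by simp⟩
  | mul p q hp hq ihp ihq =>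
    obtain ⟨A, B, C, h⟩ := ihp
    obtain ⟨A', B', C', h'⟩ := ihq
    refine ⟨A + A', B + B', C + C', fun e => ?_⟩
    rw [show Xp hF b e * (p * q) * (Xp hF b e)⁻¹ =
      (Xp hF b e * p * (Xp hF b e)⁻¹) * (Xp hF b e * q * (Xp hF b e)⁻¹) by group,
      cm_mul hF j (um_le hF b (xp_conj_um hF b e hp)) (um_le hF b (xp_conj_um hF b e hq)), h, h',
      cm_mul hF j (um_le hF b hp) (um_le hF b hq)]
    ring
  | inv p hp ihp =>
    obtain ⟨A, B, C, h⟩ := ihp
    refine ⟨-A, -B, -C, fun e => ?_⟩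
    rw [show Xp hF b e * p⁻¹ * (Xp hF b e)⁻¹ = (Xp hF b e * p * (Xp hF b e)⁻¹)⁻¹ by group,
      cm_inv hF j (um_le hF b (xp_conj_um hF b e hp)), h, cm_inv hF j (um_le hF b hp)]
    ring

/-! ### The big cell meets every class -/

theorem exists_st [Fintype F] (h9 : 9 ≤ Fintype.card F) {g : GL D.Idx F} (hg : g ∈ D.group F) :
    ∃ v c u, St hF g v c u := by
  classical
  let P : GL D.Idx F → Prop := fun g =>
    ∃ v ∈ Vg hF F, ∃ c, ∃ u ∈ Ug hF F, ∃ w ∈ Vg hF F, g = el v c u * w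
  suffices h : P g by
    obtain ⟨v, hv, c, u, hu, w, hw, rfl⟩ := h
    exact ⟨w * v, c, u, mul_mem hw hv, hu, w, vg_le_group hF hw, by rw [el, el]; group⟩
  have hup : ∀ (b : Fin D.rank) (e : F) (y : GL D.Idx F), P y → P (Xp hF b e * y) := by
    rintro b e y ⟨v, hv, c, u, hu, w, hw, rfl⟩
    have ok : ∀ (v : GL D.Idx F) (c : Fin D.rank → Fˣ) (u w : GL D.Idx F), v ∈ Vg hF F → u ∈ Ug hF F →
        w ∈ Vg hF F → 1 + cm hF b v * e ≠ 0 → P (Xp hF b e * (el v c u * w)) := by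
      intro v c u w hv hu hw hne
      obtain ⟨v', hv', u', hu', he, -⟩ := cell_up hF b hv hu c e (Units.mk0 _ hne) rfl
      exact ⟨v', hv', _, u', hu', w, hw, by rw [← mul_assoc, he]⟩
    by_cases hne : 1 + cm hF b v * e = 0
    · obtain ⟨f, hf⟩ := exists_avoid ({0, -(cp hF b u)⁻¹} : Finset F)
        (lt_of_le_of_lt Finset.card_le_two (by omega))
      simp only [Finset.mem_insert, Finset.mem_singleton, not_or] at hf
      have hs : 1 + cp hF b u * f ≠ 0 := fun h => hf.2 (by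
        have hβ : cp hF b u ≠ 0 := fun h0 => by simp [h0] at h
        field_simp
        linear_combination h)
      obtain ⟨v', hv', u', hu', he, hcm, -⟩ := cell_down hF b hv hu c f (Units.mk0 _ hs) rfl
      have e1 : el v c u * w = el v' (c * Pi.mulSingle b (Units.mk0 _ hs)) u' * (Xm hF b (-f) * w) := by
        rw [← he, ← one_xm hF]; group
      rw [e1]
      refine ok _ _ _ _ hv' hu' (mul_mem (xm_mem hF b _) hw) ?_
      rw [hcm, if_pos rfl, add_mul, ← add_assoc, hne, zero_add, Units.val_mk0]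
      refine mul_ne_zero (mul_ne_zero (inv_ne_zero (chi_ne hF c b)) (div_ne_zero hf.1 hs)) fun he0 => ?_
      simp [he0] at hne
    · exact ok v c u w hv hu hw hne
  have hdn : ∀ (b : Fin D.rank) (e : F) (y : GL D.Idx F), P y → P (Xm hF b e * y) := by
    rintro b e y ⟨v, hv, c, u, hu, w, hw, rfl⟩
    exact ⟨Xm hF b e * v, mul_mem (xm_mem hF b e) hv, c, u, hu, w, hw, by rw [el, el]; group⟩
  let S : Set (GL D.Idx F) := {x | ∃ b t, x = Xp hF b t ∨ x = Xm hF b t}
  have hgen : g ∈ Subgroup.closure S :=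
    group_le_simple hF (fun i t => Subgroup.subset_closure (show Xp hF i t ∈ S from ⟨i, t, Or.inl rfl⟩))
      (fun i t => Subgroup.subset_closure (show Xm hF i t ∈ S from ⟨i, t, Or.inr rfl⟩)) hg
  have hstep : ∀ x ∈ Subgroup.closure S, ∀ y, P y → P (x * y) := by
    intro x hx
    induction hx using Subgroup.closure_induction'' with
    | mem x hx =>
      obtain ⟨b, t, rfl | rfl⟩ := hx
      exacts [hup b t, hdn b t]
    | inv_mem x hx =>
      obtain ⟨b, t, rfl | rfl⟩ := hx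
      · rw [one_xp hF]; exact hup b _
      · rw [one_xm hF]; exact hdn b _
    | one => intro y hy; simpa using hy
    | mul x y _ _ hx hy => intro z hz; rw [mul_assoc]; exact hx _ (hy z hz)
  simpa using hstep g hgen 1 ⟨1, one_mem _, 1, 1, one_mem _, 1, one_mem _, by simp [el]⟩

theorem exists_nonzero [Fintype F] (h9 : 9 ≤ Fintype.card F) {g : GL D.Idx F} (hg : g ∈ D.group F) (h1 : g ≠ 1) :
    ∃ v c u, St hF g v c u ∧ ∃ i, cm hF i v ≠ 0 ∨ cp hF i u ≠ 0 := by
  by_contra hno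
  push Not at hno
  obtain ⟨v, c, u, hst⟩ := exists_st hF h9 hg
  have hword : ∀ ω : List (Fin D.rank), ∃ c', St hF g ((hF.tsys F).nw ω * v * ((hF.tsys F).nw ω)⁻¹) c'
      ((hF.tsys F).nw ω * u * ((hF.tsys F).nw ω)⁻¹) := by
    intro ω
    induction ω with
    | nil => exact ⟨c, by simpa [TorusSys.nw_nil] using hst⟩
    | cons i ω ih =>
      obtain ⟨c', hs⟩ := ih
      obtain ⟨hv', hu', hc'⟩ := hs
      obtain ⟨z1, z2⟩ := hno _ _ _ ⟨hv', hu', hc'⟩ i
      have hH := (hF.tsys F).nS_H i (torus_mem_H hF c')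
      rw [hF.tsys_H, hF.diagonalSubgroup_eq F] at hH
      obtain ⟨c'', hc''⟩ := hH
      refine ⟨c'', ?_, ?_, cj_trans hF hc' ⟨(hF.tsys F).nS i, hF.nS_mem_group i, ?_⟩⟩
      · rw [TorusSys.nw_cons]
        have := um_le hF i (nS_conj_um hF i (mem_um_of_cm hF i hv' z1))
        simpa [mul_assoc] using this
      · rw [TorusSys.nw_cons]
        have := up_le hF i ((hF.tsys F).nS_conj_posNe i (mem_up_of_cp hF i hu' z2)).1
        simpa [mul_assoc] using this
      · rw [el, el, hc'', TorusSys.nw_cons]; group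
  obtain ⟨w, hw⟩ := hF.exists_longest
  obtain ⟨c', hv', hu', -⟩ := hword (TorusSys.word w)
  obtain ⟨hv, hu, hc⟩ := hst
  set n := (hF.tsys F).nW w with hn
  change n * v * n⁻¹ ∈ Vg hF F at hv'
  change n * u * n⁻¹ ∈ Ug hF F at hu'
  have hmap := hF.conj_longest (F := F) hw
  rw [← hF.tsys_U, ← vg_eq hF] at hmap
  have hu1 : u = 1 := by
    have h : n * u * n⁻¹ ∈ Vg hF F := hmap ▸ ⟨u, hu, rfl⟩
    exact conj_eq_one_iff.1 (u_inter_v hF hu' h)
  have hv1 : v = 1 := by
    obtain ⟨y, hy, e⟩ : n * v * n⁻¹ ∈ (Ug hF F).map (MulAut.conj n).toMonoidHom := by rw [hmap]; exact hv'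
    have e' : n * y * n⁻¹ = n * v * n⁻¹ := e
    obtain rfl : y = v := by simpa using e'
    exact u_inter_v hF hy hv
  subst hu1 hv1
  obtain ⟨z, hz, he⟩ := hc
  by_cases hall : ∀ i : Fin D.rank, torChar D c (D.simple i.val) = 1
  · have : torus D F c = 1 := (coe_torus_eq_one c).2 ((hF.torChar_eq_one_iff c).2 hall)
    rw [el, this, one_mul, one_mul] at he
    exact h1 (conj_eq_one_iff.1 he)
  · push Not at hall
    obtain ⟨i, hi⟩ := hall
    obtain ⟨v', u', hst', -, -, hcp, -⟩ := move_up hF (⟨one_mem _, one_mem _, z, hz, he⟩ : St hF g 1 c 1) i 1 1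
      (by simp [cm_one hF])
    refine hi (Units.ext ?_)
    have := (hno _ _ _ hst' i).2
    rw [hcp, cp_one hF] at this
    simp only [Units.val_one, div_one, mul_one, add_zero, sub_eq_zero, inv_eq_one] at this
    exact this

/-- A field element avoiding a cubic and a few values. -/
theorem exists_good [Fintype F] (h9 : 9 ≤ Fintype.card F) {a A B C : F} (ha : a ≠ 0) (bad : Finset F)
    (hb : bad.card ≤ 5) : ∃ e ∉ bad, a + A * e + B * e ^ 2 + C * e ^ 3 ≠ 0 := by
  classical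
  let P : Polynomial F := Polynomial.C a + Polynomial.C A * Polynomial.X + Polynomial.C B * Polynomial.X ^ 2 +
    Polynomial.C C * Polynomial.X ^ 3
  have hP : P ≠ 0 := fun h => ha (by simpa [P] using congrArg (fun Q => Polynomial.coeff Q 0) h)
  have hd : P.natDegree ≤ 3 := by simp only [P]; compute_degree
  have hr : P.roots.toFinset.card ≤ 3 := (Multiset.toFinset_card_le _).trans (P.card_roots'.trans hd)
  obtain ⟨e, he⟩ := exists_avoid (bad ∪ P.roots.toFinset)
    (lt_of_le_of_lt (Finset.card_union_le _ _) (by omega))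
  simp only [Finset.mem_union, not_or, Multiset.mem_toFinset, Polynomial.mem_roots hP] at he
  exact ⟨e, he.1, fun h => he.2 (by simpa [P, Polynomial.IsRoot] using h)⟩

/-- A field element avoiding a quadratic and a few values. -/
theorem exists_good_quad [Fintype F] (h9 : 9 ≤ Fintype.card F) {a b c : F} (hc : c ≠ 0) (bad : Finset F)
    (hb : bad.card ≤ 5) : ∃ e ∉ bad, a + b * e + c * e ^ 2 ≠ 0 := by
  classical
  let P : Polynomial F := Polynomial.C a + Polynomial.C b * Polynomial.X + Polynomial.C c * Polynomial.X ^ 2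
  have hP : P ≠ 0 := fun h => hc (by
    simpa [P, Polynomial.coeff_C, Polynomial.coeff_X] using congrArg (fun Q => Polynomial.coeff Q 2) h)
  have hd : P.natDegree ≤ 2 := by simp only [P]; compute_degree
  have hr : P.roots.toFinset.card ≤ 2 := (Multiset.toFinset_card_le _).trans (P.card_roots'.trans hd)
  obtain ⟨e, he⟩ := exists_avoid (bad ∪ P.roots.toFinset)
    (lt_of_le_of_lt (Finset.card_union_le _ _) (by omega))
  simp only [Finset.mem_union, not_or, Multiset.mem_toFinset, Polynomial.mem_roots hP] at he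
  exact ⟨e, he.1, fun h => he.2 (by simpa [P, Polynomial.IsRoot] using h)⟩

/-- An opposite coordinate from a coordinate. -/
theorem cm_of_cp [Fintype F] (h9 : 9 ≤ Fintype.card F) {g v u : GL D.Idx F} {c : Fin D.rank → Fˣ}
    (h : St hF g v c u) (b : Fin D.rank) (hb : cp hF b u ≠ 0) : ∃ v' c' u', St hF g v' c' u' ∧ cm hF b v' ≠ 0 := by
  classical
  set β := cp hF b u
  set a := cm hF b v
  set x := χ c b with hx
  have hx0 : x ≠ 0 := chi_ne hF c b
  obtain ⟨e, he, hP⟩ := exists_good_quad hF h9 (a := a * x) (b := x - a * β * x - 1) (c := -(β * x))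
    (neg_ne_zero.2 (mul_ne_zero hb hx0)) {β⁻¹} (by rw [Finset.card_singleton]; norm_num)
  simp only [Finset.mem_singleton] at he
  have hs : 1 - β * e ≠ 0 := fun h => he (eq_inv_of_mul_eq_one_left (by linear_combination -h))
  obtain ⟨v', u', hst, hcm, -⟩ := move_down hF h b e (Units.mk0 _ hs) rfl
  refine ⟨v', _, u', hst, fun h0 => hP ?_⟩
  rw [hcm, Units.val_mk0] at h0
  change e + a - x⁻¹ * (e / (1 - β * e)) = 0 at h0
  have key : (e + a - x⁻¹ * (e / (1 - β * e))) * (x * (1 - β * e)) =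
      a * x + (x - a * β * x - 1) * e + -(β * x) * e ^ 2 := by
    linear_combination (-(x⁻¹ * x)) * div_mul_cancel₀ e hs - e * inv_mul_cancel₀ hx0
  rw [← key, h0, zero_mul]

/-- The first move when the second is blocked. -/
theorem chi_move [Fintype F] (h9 : 9 ≤ Fintype.card F) {g v u : GL D.Idx F} {c : Fin D.rank → Fˣ}
    (h : St hF g v c u) {a b : Fin D.rank} (hba : b ≠ a) (hab : D.cartan a.val (D.simple b.val) ≠ 0)
    (hlt : (D.cartan a.val (D.simple b.val)).natAbs < 8) (ha : cm hF a v ≠ 0) (hχ : χ c b = 1) :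
    ∃ v' c' u', St hF g v' c' u' ∧ cm hF a v' ≠ 0 ∧ χ c' b ≠ 1 ∧ ∀ j, j ≠ a → cp hF j u' = cp hF j u := by
  obtain ⟨γ, hγ⟩ := exists_generator (F := F)
  have hs : (γ : F) = 1 + cm hF a v * (((γ : F) - 1) / cm hF a v) := by field_simp; ring
  obtain ⟨v', u', hst, hcm, -, -, hcp⟩ := move_up hF h a _ γ hs
  refine ⟨v', _, u', hst, by rw [hcm]; exact div_ne_zero ha γ.ne_zero, fun h1 => ?_, hcp⟩
  rw [χ, torChar_mul, torChar_single, Units.val_mul, show (torChar D c (D.simple b.val) : F) = 1 from hχ, mul_one,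
    ← Units.val_one, Units.val_inj] at h1
  have h2 : γ ^ (D.cartan a.val (D.simple b.val)).natAbs = 1 := by
    rcases Int.natAbs_eq (D.cartan a.val (D.simple b.val)) with e | e <;> rw [e] at h1
    · rwa [zpow_natCast] at h1
    · rwa [zpow_neg, inv_eq_one, zpow_natCast] at h1
  exact pow_ne_one_of_lt γ hγ (Int.natAbs_pos.2 hab) (by omega)
    (by rw [← Units.val_pow_eq_pow_val, h2, Units.val_one])

/-- Spread a negative coordinate to an adjacent positive one. -/
theorem spread [Fintype F] (h9 : 9 ≤ Fintype.card F) {g v u : GL D.Idx F} {c : Fin D.rank → Fˣ}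
    (h : St hF g v c u) {a b : Fin D.rank} (hba : b ≠ a) (hab : D.cartan a.val (D.simple b.val) ≠ 0)
    (hlt : (D.cartan a.val (D.simple b.val)).natAbs < 8) (ha : cm hF a v ≠ 0) :
    ∃ v' c' u', St hF g v' c' u' ∧ cm hF a v' ≠ 0 ∧ cp hF b u' ≠ 0 ∧
      ∀ j, j ≠ a → cp hF j u ≠ 0 → cp hF j u' ≠ 0 := by
  classical
  by_cases hb : cp hF b u ≠ 0
  · exact ⟨v, c, u, h, ha, hb, fun j _ hj => hj⟩
  push Not at hb
  have main : ∀ {v u : GL D.Idx F} {c : Fin D.rank → Fˣ}, St hF g v c u → cm hF a v ≠ 0 → cp hF b u = 0 →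
      (cm hF b v ≠ 0 ∨ χ c b ≠ 1) → ∃ v' c' u', St hF g v' c' u' ∧ cm hF a v' ≠ 0 ∧ cp hF b u' ≠ 0 ∧
        ∀ j, j ≠ b → cp hF j u' = cp hF j u := by
    intro v u c h ha hb hor
    set y := cm hF b v with hy
    obtain ⟨A, B, C, hABC⟩ := cm_conj_poly hF b a (cm_spec hF b h.1)
    have hstart : cm hF a (v * (Xm hF b y)⁻¹) = cm hF a v := by
      rw [cm_mul hF a h.1 (inv_mem (xm_mem hF b y)), cm_inv hF a (xm_mem hF b y), cm_xm, if_neg (Ne.symm hba),
        neg_zero, add_zero]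
    obtain ⟨e, he, hpoly⟩ := exists_good hF h9 (A := A) (B := B) (C := C) ha
      ({0, -y⁻¹, ((χ c b)⁻¹ - 1) / y} : Finset F) (Finset.card_le_three.trans (by norm_num))
    simp only [Finset.mem_insert, Finset.mem_singleton, not_or] at he
    have hs : 1 + y * e ≠ 0 := fun h0 => he.2.1 (by
      have hy0 : y ≠ 0 := fun h' => by simp [h'] at h0
      field_simp
      linear_combination h0)
    obtain ⟨v', u', hst, -, hcm, hcpb, hcp⟩ := move_up hF h b e (Units.mk0 _ hs) rfl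
    refine ⟨v', _, u', hst, ?_, fun h0 => ?_, hcp⟩
    · rw [hcm a (Ne.symm hba), hABC e, hstart]; exact hpoly
    · rw [hcpb, hb, Units.val_mk0, add_zero] at h0
      have hx0 := chi_ne hF c b
      have h2 : (χ c b)⁻¹ = 1 + y * e := by
        have key : ((χ c b)⁻¹ - (1 + y * e)) * (e / (1 + y * e)) = (χ c b)⁻¹ * (e / (1 + y * e)) - e := by
          field_simp
        rw [h0] at key
        exact sub_eq_zero.1 ((mul_eq_zero.1 key).resolve_right (div_ne_zero he.1 hs))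
      rcases hor with hy0 | hχ
      · exact he.2.2 (by rw [h2]; field_simp; ring)
      · by_cases hy0 : y = 0
        · rw [hy0, zero_mul, add_zero, inv_eq_one] at h2
          exact hχ h2
        · exact he.2.2 (by rw [h2]; field_simp; ring)
  by_cases hor : cm hF b v ≠ 0 ∨ χ c b ≠ 1
  · obtain ⟨v', c', u', h1, h2, h3, h4⟩ := main h ha hb hor
    refine ⟨v', c', u', h1, h2, h3, fun j _ hju => ?_⟩
    have hjb : j ≠ b := fun e => hju (e ▸ hb)
    rwa [h4 j hjb]
  · push Not at hor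
    obtain ⟨v1, c1, u1, h1, h2, h3, h4⟩ := chi_move hF h9 h hba hab hlt ha hor.2
    have hb1 : cp hF b u1 = 0 := by rw [h4 b hba, hb]
    obtain ⟨v', c', u', k1, k2, k3, k4⟩ := main h1 h2 hb1 (Or.inr h3)
    refine ⟨v', c', u', k1, k2, k3, fun j hja hju => ?_⟩
    have hjb : j ≠ b := fun e => hju (e ▸ hb)
    rwa [k4 j hjb, h4 j hja]

/-- Every negative coordinate can be made nonzero. -/
theorem exists_cm [Fintype F] (h9 : 9 ≤ Fintype.card F) (hconn : okConn D)
    (hA : ∀ a b : Fin D.rank, (D.cartan a.val (D.simple b.val)).natAbs < 8)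
    {g : GL D.Idx F} (hg : g ∈ D.group F) (h1 : g ≠ 1) (k : Fin D.rank) :
    ∃ v c u, St hF g v c u ∧ cm hF k v ≠ 0 := by
  classical
  obtain ⟨v, c, u, hst, i, hi⟩ := exists_nonzero hF h9 hg h1
  have hbase : ∃ v c u, St hF g v c u ∧ cm hF i v ≠ 0 := by
    rcases hi with hi | hi
    · exact ⟨v, c, u, hst, hi⟩
    · exact cm_of_cp hF h9 hst i hi
  have := hconn (fun i => decide (∃ v c u, St hF g v c u ∧ cm hF i v ≠ 0)) ⟨i, by simpa using hbase⟩
    (fun a b ha hab => by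
      simp only [decide_eq_true_eq] at ha ⊢
      by_cases hba : b = a
      · exact hba ▸ ha
      obtain ⟨v, c, u, hst, hv⟩ := ha
      obtain ⟨v', c', u', hst', -, hu', -⟩ := spread hF h9 hst hba hab (hA a b) hv
      exact cm_of_cp hF h9 hst' b hu') k
  simpa using this

/-- Set a torus coordinate through a negative coordinate. -/
theorem set_up {g v u : GL D.Idx F} {c : Fin D.rank → Fˣ} (h : St hF g v c u) (b : Fin D.rank)
    (hb : cm hF b v ≠ 0) (x : Fˣ) :
    ∃ v' c' u', St hF g v' c' u' ∧ c' b = x ∧ (∀ j, j ≠ b → c' j = c j) ∧ ∀ j, j ≠ b → cp hF j u' = cp hF j u := by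
  have hs : ((x * (c b)⁻¹ : Fˣ) : F) = 1 + cm hF b v * ((((x * (c b)⁻¹ : Fˣ) : F) - 1) / cm hF b v) := by
    field_simp; ring
  obtain ⟨v', u', hst, -, -, -, hcp⟩ := move_up hF h b _ _ hs
  exact ⟨v', _, u', hst, by simp, fun j hj => by simp [Pi.mulSingle_eq_of_ne hj], hcp⟩

/-- Set a torus coordinate through a positive coordinate. -/
theorem set_down {g v u : GL D.Idx F} {c : Fin D.rank → Fˣ} (h : St hF g v c u) (b : Fin D.rank)
    (hb : cp hF b u ≠ 0) (x : Fˣ) :
    ∃ v' c' u', St hF g v' c' u' ∧ c' b = x ∧ (∀ j, j ≠ b → c' j = c j) ∧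
      (∀ j, j ≠ b → cm hF j v' = cm hF j v) ∧
      ∀ j, j ≠ b → NoTerm D b j → cp hF j u ≠ 0 → cp hF j u' ≠ 0 := by
  have hs : (((c b)⁻¹ * x : Fˣ) : F) = 1 - cp hF b u * ((1 - (((c b)⁻¹ * x : Fˣ) : F)) / cp hF b u) := by
    field_simp; ring
  obtain ⟨v', u', hst, -, hcm, hcp⟩ := move_down hF h b _ _ hs
  exact ⟨v', _, u', hst, by simp, fun j hj => by simp [Pi.mulSingle_eq_of_ne hj], hcm, hcp⟩

end Cfsg.Agent.Lie.ClassSq.Exc
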