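import Cfsg.Agent.Lib.Lie.ClassSquare.ExcKit
import Cfsg.Agent.Lib.Lie.AllFacts

/-!
The exceptional Chevalley groups are squares of a conjugacy class.
-/

set_option autoImplicit false
set_option linter.unusedSectionVars false
set_option maxRecDepth 100000
set_option maxHeartbeats 4000000

namespace Cfsg.Agent.Lie.ClassSq.Exc

open Cfsg.Lie Matrix
open Cfsg.Agent.Lie.SLComm
open scoped MatrixGroups

/-- A functional from a list. -/
def lst (l : List ℤ) (i : ℕ) : ℤ := l.getD i 0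

/-- A functional nonnegative on positive roots, vanishing exactly at the chosen fundamental roots. -/
def okGrade (D : ChevalleyDatum) {k : ℕ} (nd : Fin (k + 1) → Fin D.rank) (fl : List ℤ) : Bool :=
  ((List.range D.nroots).all fun r => decide (D.nroots / 2 ≤ r → 0 ≤ psiOf D (lst fl) r)) &&
    (List.finRange D.rank).all fun i =>
      decide (psiOf D (lst fl) (D.simple i.val) = 0) == ((List.finRange (k + 1)).any fun m => decide (nd m = i))

/-- The exponents outside the Levi are small and nonzero, those of the central part vanish inside. -/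
def okExp (D : ChevalleyDatum) {k : ℕ} (nd : Fin (k + 1) → Fin D.rank) (fl el dl : List ℤ)
    (σ : Fin D.rank → Fin D.rank) : Bool :=
  ((List.range D.nroots).all fun r => decide (psiOf D (lst fl) r = 0) ||
      decide (psiOf D (fun i => lst el i + lst dl i) r ≠ 0 ∧
        (psiOf D (fun i => lst el i + lst dl i) r).natAbs < 8)) &&
    ((List.finRange (k + 1)).all fun m => decide (psiOf D (lst el) (D.simple (nd m).val) = 0)) &&
    (List.finRange D.rank).all fun i => decide (lst el (σ i).val = lst el i.val)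

/-- Small Cartan integers. -/
def okSmall (D : ChevalleyDatum) : Bool :=
  (List.finRange D.rank).all fun a => (List.finRange D.rank).all fun b =>
    decide ((D.cartan a.val (D.simple b.val)).natAbs < 8)

variable {D : ChevalleyDatum} (hF : Facts D) {F : Type*} [Field F] [Fintype F]

/-- Powers of a fixed unit as torus coordinates. -/
def pw (γ : Fˣ) (C : ℕ → ℤ) : Fin D.rank → Fˣ := fun i => γ ^ C i.val

theorem torChar_pw (γ : Fˣ) (C : ℕ → ℤ) (s : ℕ) : torChar D (pw γ C) s = γ ^ psiOf D C s := by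
  rw [torChar, psiOf, Finset.sum_range]
  have : ∀ T : Finset (Fin D.rank),
      ∏ i ∈ T, pw γ C i ^ D.cartan i.val s = γ ^ ∑ i ∈ T, C i.val * D.cartan i.val s := by
    intro T
    induction T using Finset.induction_on with
    | empty => simp
    | insert a T ha ih =>
      rw [Finset.prod_insert ha, Finset.sum_insert ha, ih, _root_.zpow_add, pw, ← _root_.zpow_mul]
  exact this _

theorem zpow_ne_one (h9 : 9 ≤ Fintype.card F) {γ : Fˣ} (hγ : orderOf γ = Fintype.card F - 1) {z : ℤ}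
    (hz : z ≠ 0) (h8 : z.natAbs < 8) : ((γ ^ z : Fˣ) : F) ≠ 1 := by
  intro h
  have h1 : γ ^ z = 1 := Units.ext h
  have h2 : γ ^ z.natAbs = 1 := by
    rcases Int.natAbs_eq z with e | e <;> rw [e] at h1
    · rwa [zpow_natCast] at h1
    · rwa [_root_.zpow_neg, inv_eq_one, zpow_natCast] at h1
  exact pow_ne_one_of_lt γ hγ (Int.natAbs_pos.2 hz) (by omega)
    (by rw [← Units.val_pow_eq_pow_val, h2, Units.val_one])

include hF

theorem grade_of_ok {k : ℕ} {nd : Fin (k + 1) → Fin D.rank} {fl : List ℤ} (h : okGrade D nd fl = true) :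
    Grade D (psiOf D (lst fl)) ∧
      ∀ i : Fin D.rank, psiOf D (lst fl) (D.simple i.val) = 0 ↔ ∃ m, nd m = i := by
  simp only [okGrade, Bool.and_eq_true, List.all_eq_true, List.mem_range, decide_eq_true_eq, List.mem_finRange,
    true_implies, beq_iff_eq] at h
  refine ⟨⟨addv_psiOf _, fun r hr hp => h.1 r hr hp⟩, fun i => ?_⟩
  have h2 := h.2 i
  rw [Bool.eq_iff_iff, decide_eq_true_eq, List.any_eq_true] at h2
  simpa using h2

omit hF in
theorem exp_of_ok (h9 : 9 ≤ Fintype.card F) {γ : Fˣ} (hγ : orderOf γ = Fintype.card F - 1) {k : ℕ}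
    {nd : Fin (k + 1) → Fin D.rank} {fl el dl : List ℤ} {σ : Fin D.rank → Fin D.rank}
    (h : okExp D nd fl el dl σ = true) :
    (∀ r, r < D.nroots → psiOf D (lst fl) r ≠ 0 →
      (torChar D (pw γ (lst el) * pw γ (lst dl)) r : F) ≠ 1) ∧
    (∀ m, torChar D (pw γ (lst el)) (D.simple (nd m).val) = 1) ∧
    ∀ i : Fin D.rank, pw γ (lst el) (σ i) = pw (D := D) γ (lst el) i := by
  simp only [okExp, Bool.and_eq_true, List.all_eq_true, List.mem_range, decide_eq_true_eq, List.mem_finRange,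
    true_implies, Bool.or_eq_true] at h
  refine ⟨fun r hr hf => ?_, fun m => by rw [torChar_pw, h.1.2 m, zpow_zero], fun i => by simp only [pw, h.2 i]⟩
  have e : pw γ (lst el) * pw γ (lst dl) = pw (D := D) γ fun i => lst el i + lst dl i := funext fun i => by
    simp [pw, _root_.zpow_add]
  rw [e, torChar_pw]
  obtain ⟨h1, h2⟩ := (h.1.1 r hr).resolve_left hf
  exact zpow_ne_one h9 hγ h1 h2

omit hF in
theorem small_of_ok (h : okSmall D = true) (a b : Fin D.rank) :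
    (D.cartan a.val (D.simple b.val)).natAbs < 8 := by
  simp only [okSmall, List.all_eq_true, decide_eq_true_eq, List.mem_finRange, true_implies] at h
  exact h a b

/-- The pattern for one node outside the Levi. -/
theorem pattern_one (h9 : 9 ≤ Fintype.card F) (hconn : okConn D) (hsmall : okSmall D = true)
    (k0 b : Fin D.rank) (hb : b ≠ k0) (hadj : D.cartan k0.val (D.simple b.val) ≠ 0)
    {g : GL D.Idx F} (hg : g ∈ D.group F) (h1 : g ≠ 1) :
    ∃ v c u, St hF g v c u ∧ c k0 = 1 ∧ cp hF b u ≠ 0 := by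
  obtain ⟨v, c, u, hst, hv⟩ := exists_cm hF h9 hconn (small_of_ok hsmall) hg h1 k0
  obtain ⟨v', c', u', hst', hv', hu', -⟩ := spread hF h9 hst hb hadj (small_of_ok hsmall _ _) hv
  obtain ⟨v'', c'', u'', hst'', hc, -, hcp⟩ := set_up hF hst' k0 hv' 1
  exact ⟨v'', c'', u'', hst'', hc, by rwa [hcp b hb]⟩

omit hF in
theorem canβ_single {k : ℕ} (a : Fˣ) :
    (fun x : Fin (k + 2) => if x = (0 : Fin (k + 1)).castSucc then (a : F)
      else if x = (0 : Fin (k + 1)).succ then (a : F)⁻¹ else 1) = canβ k (a : F) := by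
  funext x
  refine Fin.cases ?_ (fun y => ?_) x
  · simp [canβ]
  · refine Fin.cases ?_ (fun z => ?_) y
    · simp [canβ, Fin.ext_iff]
    · simp [canβ, Fin.ext_iff]

omit hF in
theorem canβ_single_last {k : ℕ} (a : Fˣ) :
    (fun x : Fin (k + 2) => if x = (Fin.last k).castSucc then (a : F)⁻¹
      else if x = (Fin.last k).succ then (a : F) else 1) = fun x => canβ k (a : F) (Fin.rev x) := by
  funext x
  obtain ⟨y, rfl⟩ : ∃ y, x = Fin.rev y := ⟨Fin.rev x, (Fin.rev_rev x).symm⟩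
  refine Fin.cases ?_ (fun y => ?_) y
  · simp [canβ, Fin.ext_iff, Fin.val_rev]
  · refine Fin.cases ?_ (fun z => ?_) y
    · simp [canβ, Fin.ext_iff, Fin.val_rev]
    · have := z.isLt
      simp [canβ, Fin.ext_iff, Fin.val_rev]
      split_ifs <;> first | rfl | (exfalso; omega) | omega

omit hF in
theorem canβ_ne {k : ℕ} {a : F} (ha : a ≠ 0) : ∀ i, canβ k a i ≠ 0 :=
  Fin.cases (by simp [canβ, ha]) (Fin.cases (by simp [canβ, ha]) fun i => by simp [canβ])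

omit hF in
theorem pw_single (γ : Fˣ) (j : Fin D.rank) (l : List ℤ)
    (hl : ∀ i : Fin D.rank, lst l i.val = if i = j then 1 else 0) :
    pw γ (lst l) = Pi.mulSingle j γ := by
  funext i
  rw [pw, hl i, Pi.mulSingle_apply]
  split_ifs <;> simp

/-- The simply laced exceptional groups. -/
theorem hasSquare_can (h9 : 9 ≤ Fintype.card F) (hconn : okConn D) (hsmall : okSmall D = true)
    {k : ℕ} (hk : 1 ≤ k) (nd : Fin (k + 1) → Fin D.rank) (hchain : okChain D nd = true)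
    (fl el dl : List ℤ) (hgr : okGrade D nd fl = true)
    (k0 : Fin D.rank) (hk0 : ∀ i, i ≠ k0 → ∃ m, nd m = i) (b : Fin D.rank) (hb : b ≠ k0)
    (hadj : D.cartan k0.val (D.simple b.val) ≠ 0)
    {ω : List (Fin D.rank)} (σ : Fin D.rank → Fin D.rank) (hok : okOpp D ω σ = true)
    (hexp : okExp D nd fl el dl σ = true)
    (hdl : ∀ i : Fin D.rank, lst dl i.val = if i = nd 0 then 1 else 0)
    (rv : Bool) (hστ : ∀ m, σ (nd m) = nd (if rv then Fin.rev m else m)) :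
    HasSquare ↥(D.group F) := by
  obtain ⟨γ, hγ⟩ := exists_generator (F := F)
  obtain ⟨hgrade, hJ⟩ := grade_of_ok hF hgr
  obtain ⟨φ, hφ⟩ := exists_phi hF (F := F) hk nd hchain hgrade hJ
  obtain ⟨hχ, he, hde⟩ := exp_of_ok (D := D) (nd := nd) h9 hγ hexp
  obtain ⟨hσ, -⟩ := sigma_of_ok hok
  have ha2 : (γ : F) * γ ≠ 1 := by
    rw [← pow_two]; exact pow_ne_one_of_lt γ hγ (by norm_num) (by omega)
  obtain ⟨d, hdφ, hd⟩ := hφ.diag 0 γ
  rw [canβ_single] at hd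
  obtain ⟨d', hdφ', hd'⟩ := hφ.diag (if rv then Fin.last k else 0) γ⁻¹
  set τ : Fin (k + 1) → Fin (k + 1) := fun m => if rv then Fin.rev m else m with hτdef
  have hτ : Function.Involutive τ := fun m => by cases rv <;> simp [hτdef, Fin.rev_rev]
  have hδ' : (fun i => ((Pi.mulSingle (nd 0) γ : Fin D.rank → Fˣ) (σ i))⁻¹) =
      Pi.mulSingle (nd (if rv then Fin.last k else 0)) γ⁻¹ := by
    funext i
    have hi : σ i = nd 0 ↔ i = nd (if rv then Fin.last k else 0) := by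
      have e : σ (nd 0) = nd (if rv then Fin.last k else 0) := by
        rw [hστ 0]; cases rv <;> simp
      constructor
      · intro h; rw [← e, ← h, hσ i]
      · intro h; rw [h, ← e, hσ]
    simp only [Pi.mulSingle_apply, hi]
    split_ifs <;> simp
  have hpat : ∀ g ∈ D.group F, g ≠ 1 → ∃ v c u, St hF g v c u ∧
      (∀ i, psiOf D (lst fl) (D.simple i.val) ≠ 0 → c i = 1) ∧ ∃ m, cp hF (nd m) u ≠ 0 := by
    intro g hg h1
    obtain ⟨v, c, u, hst, hc, hu⟩ := pattern_one hF h9 hconn hsmall k0 b hb hadj hg h1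
    obtain ⟨m, rfl⟩ := hk0 b hb
    refine ⟨v, c, u, hst, fun i hi => ?_, m, hu⟩
    by_cases h : i = k0
    · exact h ▸ hc
    · exact absurd ((hJ i).2 (hk0 i h)) hi
  rw [pw_single γ (nd 0) dl hdl] at hχ
  cases rv with
  | false =>
    simp only [Bool.false_eq_true, if_false] at hd' hdφ' hδ'
    rw [canβ_single, Units.val_inv_eq_inv_val] at hd'
    exact hasSquare_levi hF h9 nd hgrade hJ hφ (canK k γ) (canβ k (γ : F)) (canβ k (γ : F)⁻¹)
      (canK_upp ha2) (canK_low ha2) (canK_low_inv ha2) (canK_fac h9 ha2) d d' hd hd'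
      (canβ_ne γ.ne_zero) (canβ_ne (inv_ne_zero γ.ne_zero)) (pw γ (lst el)) (Pi.mulSingle (nd 0) γ) he hdφ σ τ hτ
      hστ hde (by rw [hδ']; exact hdφ') hok hχ hpat
  | true =>
    simp only [if_true] at hd' hdφ' hδ'
    simp only [Units.val_inv_eq_inv_val, inv_inv] at hd'
    rw [canβ_single_last] at hd'
    exact hasSquare_levi hF h9 nd hgrade hJ hφ (canK k γ) (canβ k (γ : F)) (fun x => canβ k (γ : F) (Fin.rev x))
      (canK_upp ha2) (canK_low ha2) (canK_low_rev ha2) (canK_fac h9 ha2) d d' hd hd'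
      (canβ_ne γ.ne_zero) (fun x => canβ_ne γ.ne_zero _) (pw γ (lst el)) (Pi.mulSingle (nd 0) γ) he hdφ σ τ hτ
      hστ hde (by rw [hδ']; exact hdφ') hok hχ hpat

omit hF

/-- The type E6 group. -/
theorem hasSquare_E6 (h9 : 9 ≤ Fintype.card F) : HasSquare ↥(chevE6.group F) := by
  obtain ⟨hF⟩ := nonempty_factsE6
  refine hasSquare_can hF h9 okConnE6 (by decide +kernel) (k := 4) (by norm_num)
    (![0, 2, 3, 4, 5] : Fin 5 → Fin 6) (by decide +kernel)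
    [1, 2, 2, 3, 2, 1] [2, 4, 4, 6, 4, 2] [1, 0, 0, 0, 0, 0] (by decide +kernel)
    (1 : Fin 6) (show ∀ i : Fin 6, i ≠ 1 → ∃ m, (![0, 2, 3, 4, 5] : Fin 5 → Fin 6) m = i by decide +kernel)
    (3 : Fin 6) (show (3 : Fin 6) ≠ 1 by decide) (by decide +kernel)
    (ω := ([0, 2, 3, 4, 5, 1, 3, 4, 2, 3, 0, 2, 1, 3, 4, 5, 1, 3, 4, 2, 3, 0, 2, 1, 3, 4, 2, 3, 0, 2, 1, 3, 0, 2, 1, 0] : List (Fin 6))) (![5, 1, 4, 3, 2, 0] : Fin 6 → Fin 6)
    (by decide +kernel) (by decide +kernel) (by decide +kernel) true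
    (show ∀ m : Fin 5, (![5, 1, 4, 3, 2, 0] : Fin 6 → Fin 6) ((![0, 2, 3, 4, 5] : Fin 5 → Fin 6) m) =
      (![0, 2, 3, 4, 5] : Fin 5 → Fin 6) (if true = true then Fin.rev m else m) by decide +kernel)

/-- The type E7 group. -/
theorem hasSquare_E7 (h9 : 9 ≤ Fintype.card F) : HasSquare ↥(chevE7.group F) := by
  obtain ⟨hF⟩ := nonempty_factsE7
  refine hasSquare_can hF h9 okConnE7 (by decide +kernel) (k := 5) (by norm_num)
    (![0, 2, 3, 4, 5, 6] : Fin 6 → Fin 7) (by decide +kernel)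
    [4, 7, 8, 12, 9, 6, 3] [4, 7, 8, 12, 9, 6, 3] [1, 0, 0, 0, 0, 0, 0] (by decide +kernel)
    (1 : Fin 7) (show ∀ i : Fin 7, i ≠ 1 → ∃ m, (![0, 2, 3, 4, 5, 6] : Fin 6 → Fin 7) m = i by decide +kernel)
    (3 : Fin 7) (show (3 : Fin 7) ≠ 1 by decide) (by decide +kernel)
    (ω := ([6, 5, 4, 3, 2, 1, 3, 4, 5, 6, 0, 2, 3, 4, 5, 1, 3, 4, 2, 3, 0, 2, 1, 3, 4, 5, 6, 0, 2, 3, 4, 5, 1, 3, 4, 2, 3, 0, 2, 1, 3, 4, 5, 1, 3, 4, 2, 3, 0, 2, 1, 3, 4, 2, 3, 0, 2, 1, 3, 0, 2, 1, 0] : List (Fin 7))) (![0, 1, 2, 3, 4, 5, 6] : Fin 7 → Fin 7)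
    (by decide +kernel) (by decide +kernel) (by decide +kernel) false
    (show ∀ m : Fin 6, (![0, 1, 2, 3, 4, 5, 6] : Fin 7 → Fin 7) ((![0, 2, 3, 4, 5, 6] : Fin 6 → Fin 7) m) =
      (![0, 2, 3, 4, 5, 6] : Fin 6 → Fin 7) (if false = true then Fin.rev m else m) by decide +kernel)

/-- The type E8 group. -/
theorem hasSquare_E8 (h9 : 9 ≤ Fintype.card F) : HasSquare ↥(chevE8.group F) := by
  obtain ⟨hF⟩ := nonempty_factsE8
  refine hasSquare_can hF h9 okConnE8 (by decide +kernel) (k := 6) (by norm_num)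
    (![0, 2, 3, 4, 5, 6, 7] : Fin 7 → Fin 8) (by decide +kernel)
    [5, 8, 10, 15, 12, 9, 6, 3] [10, 16, 20, 30, 24, 18, 12, 6] [1, 0, 0, 0, 0, 0, 0, 0] (by decide +kernel)
    (1 : Fin 8) (show ∀ i : Fin 8, i ≠ 1 → ∃ m, (![0, 2, 3, 4, 5, 6, 7] : Fin 7 → Fin 8) m = i by decide +kernel)
    (3 : Fin 8) (show (3 : Fin 8) ≠ 1 by decide) (by decide +kernel)
    (ω := ([7, 6, 5, 4, 3, 2, 1, 3, 4, 5, 6, 0, 2, 3, 4, 5, 1, 3, 4, 2, 3, 0, 2, 1, 3, 4, 5, 6, 7, 6, 5, 4, 3, 2, 1, 3, 4, 5, 6, 0, 2, 3, 4, 5, 1, 3, 4, 2, 3, 0, 2, 1, 3, 4, 5, 6, 7, 6, 5, 4, 3, 2, 1, 3, 4, 5, 6, 0, 2, 3, 4, 5, 1, 3, 4, 2, 3, 0, 2, 1, 3, 4, 5, 6, 0, 2, 3, 4, 5, 1, 3, 4, 2, 3, 0, 2, 1, 3, 4, 5, 1, 3, 4, 2, 3, 0, 2, 1, 3, 4, 2, 3, 0, 2, 1, 3, 0, 2, 1, 0] : List (Fin 8))) (![0, 1, 2, 3, 4, 5, 6, 7] : Fin 8 → Fin 8)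
    (by decide +kernel) (by decide +kernel) (by decide +kernel) false
    (show ∀ m : Fin 7, (![0, 1, 2, 3, 4, 5, 6, 7] : Fin 8 → Fin 8) ((![0, 2, 3, 4, 5, 6, 7] : Fin 7 → Fin 8) m) =
      (![0, 2, 3, 4, 5, 6, 7] : Fin 7 → Fin 8) (if false = true then Fin.rev m else m) by decide +kernel)

/-- The type F4 group. -/
theorem hasSquare_F4 (h9 : 9 ≤ Fintype.card F) : HasSquare ↥(chevF4.group F) := by
  obtain ⟨hF⟩ := nonempty_factsF4
  let nd : Fin 2 → Fin chevF4.rank := (![0, 1] : Fin 2 → Fin 4)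
  let n3 : Fin chevF4.rank := (3 : Fin 4)
  let n2 : Fin chevF4.rank := (2 : Fin 4)
  let n1 : Fin chevF4.rank := (1 : Fin 4)
  obtain ⟨γ, hγ⟩ := exists_generator (F := F)
  obtain ⟨hgrade, hJ⟩ := grade_of_ok hF (show okGrade chevF4 nd [3, 6, 9, 5] = true by decide +kernel)
  obtain ⟨φ, hφ⟩ := exists_phi hF (F := F) le_rfl nd (by decide +kernel) hgrade hJ
  obtain ⟨hχ, he, -⟩ := exp_of_ok (D := chevF4) (nd := nd) (σ := id) h9 hγ
    (show okExp chevF4 nd [3, 6, 9, 5] [-3, -6, -9, -3] [-2, -1, 0, 0] id = true by decide +kernel)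
  obtain ⟨x0, hx0, hx0m⟩ := hφ.diag 0 (γ ^ (-2 : ℤ))
  obtain ⟨x1, hx1, hx1m⟩ := hφ.diag 1 (γ ^ (-1 : ℤ))
  obtain ⟨y0, hy0, hy0m⟩ := hφ.diag 0 (γ ^ (2 : ℤ))
  obtain ⟨y1, hy1, hy1m⟩ := hφ.diag 1 (γ ^ (1 : ℤ))
  have hb3 : (γ : F) * γ * γ ≠ 1 := by
    rw [show (γ : F) * γ * γ = (γ : F) ^ 3 by ring]; exact pow_ne_one_of_lt γ hγ (by norm_num) (by omega)
  have hδ : Pi.mulSingle (nd 0) (γ ^ (-2 : ℤ)) * Pi.mulSingle (nd 1) (γ ^ (-1 : ℤ)) =
      pw (D := chevF4) γ (lst [-2, -1, 0, 0]) :=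
    funext (show ∀ i : Fin 4, (Pi.mulSingle (0 : Fin 4) (γ ^ (-2 : ℤ)) : Fin 4 → Fˣ) i *
        (Pi.mulSingle (1 : Fin 4) (γ ^ (-1 : ℤ)) : Fin 4 → Fˣ) i = γ ^ lst [-2, -1, 0, 0] i.val by
      intro i; fin_cases i <;> simp [lst, Pi.mulSingle_apply])
  have hδ' : Pi.mulSingle (nd 0) (γ ^ (2 : ℤ)) * Pi.mulSingle (nd 1) (γ ^ (1 : ℤ)) =
      fun i => (pw (D := chevF4) γ (lst [-2, -1, 0, 0]) (id i))⁻¹ :=
    funext (show ∀ i : Fin 4, (Pi.mulSingle (0 : Fin 4) (γ ^ (2 : ℤ)) : Fin 4 → Fˣ) i *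
        (Pi.mulSingle (1 : Fin 4) (γ ^ (1 : ℤ)) : Fin 4 → Fˣ) i = (γ ^ lst [-2, -1, 0, 0] i.val)⁻¹ by
      intro i; fin_cases i <;> simp [lst, Pi.mulSingle_apply])
  have htβ : ∀ t : F, tβ t = ![(t * t)⁻¹, t, t] := fun t => by funext x; fin_cases x <;> rfl
  refine hasSquare_levi hF h9 nd hgrade hJ hφ (tK γ) (tβ (γ : F)) (tβ (γ : F)⁻¹)
    (fun A h => tK_conj (tupp_sim γ.ne_zero hb3 h)) (fun A h => tK_conj (tlow_sim γ.ne_zero hb3 h))
    (tK_low_inv hb3) (tK_fac h9 hb3) (x0 * x1) (y0 * y1) ?_ ?_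
    (Fin.cases (by simp [tβ]) (fun i => by simp [tβ])) (Fin.cases (by simp [tβ]) (fun i => by simp [tβ]))
    (pw γ (lst [-3, -6, -9, -3])) (pw γ (lst [-2, -1, 0, 0])) he
    (by rw [map_mul, hx0, hx1, ← map_mul, hδ]) id id (fun _ => rfl) (fun _ => rfl) (fun _ => rfl)
    (by rw [map_mul, hy0, hy1, ← map_mul, hδ']) (ω := ([3, 2, 1, 2, 0, 1, 2, 3, 2, 1, 2, 0, 1, 2, 3, 2, 1, 2, 0, 1, 2, 0, 1, 0] : List (Fin 4))) (by decide +kernel) hχ ?_
  · rw [Matrix.SpecialLinearGroup.coe_mul, hx0m, hx1m, Matrix.diagonal_mul_diagonal]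
    congr 1
    funext x
    fin_cases x <;> simp [htβ] <;> field_simp
  · rw [Matrix.SpecialLinearGroup.coe_mul, hy0m, hy1m, Matrix.diagonal_mul_diagonal]
    congr 1
    funext x
    fin_cases x <;> simp [htβ] <;> field_simp
  intro g hg h1
  have hs : okSmall chevF4 = true := by decide +kernel
  obtain ⟨v, c, u, s1, a1⟩ := exists_cm hF h9 okConnF4 (small_of_ok hs) hg h1 n2
  obtain ⟨v, c, u, s2, a2, b2, -⟩ := spread hF h9 s1 (show (3 : Fin 4) ≠ 2 by decide) (by decide +kernel)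
    (small_of_ok hs _ _) a1
  obtain ⟨v, c, u, s3, a3, b3, k3⟩ := spread hF h9 s2 (show (1 : Fin 4) ≠ 2 by decide) (by decide +kernel)
    (small_of_ok hs _ _) a2
  obtain ⟨v, c, u, s4, c4, -, k4⟩ := set_up hF s3 n2 a3 1
  obtain ⟨v, c', u, s5, c5, o5, -, k5⟩ := set_down hF s4 n3
    (by rw [k4 n3 (show (3 : Fin 4) ≠ 2 by decide)]; exact k3 n3 (show (3 : Fin 4) ≠ 2 by decide) b2) 1
  refine ⟨v, c', u, s5, fun i hi => ?_, 1, k5 n1 (show (1 : Fin 4) ≠ 3 by decide) (show NoTerm chevF4 n3 n1 by unfold NoTerm; decide +kernel) (by rw [k4 n1 (show (1 : Fin 4) ≠ 2 by decide)]; exact b3)⟩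
  change Fin 4 at i
  fin_cases i
  · exact absurd ((hJ _).2 ⟨0, rfl⟩) hi
  · exact absurd ((hJ _).2 ⟨1, rfl⟩) hi
  · exact (o5 n2 (show (2 : Fin 4) ≠ 3 by decide)).trans c4
  · exact c5

/-- The type G2 group. -/
theorem hasSquare_G2 (h9 : 9 ≤ Fintype.card F) : HasSquare ↥(chevG2.group F) := by
  obtain ⟨hF⟩ := nonempty_factsG2
  let n0 : Fin chevG2.rank := (0 : Fin 2)
  let n1 : Fin chevG2.rank := (1 : Fin 2)
  obtain ⟨γ, hγ⟩ := exists_generator (F := F)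
  have hexp : ∀ r : Fin chevG2.nroots, psiOf chevG2 (lst [3, 5]) r.val ≠ 0 ∧
      (psiOf chevG2 (lst [3, 5]) r.val).natAbs < 8 := by decide +kernel
  refine hasSquare_regular hF (pw γ (lst [3, 5])) (ω := ([1, 0, 1, 0, 1, 0] : List (Fin 2))) (σ := id) (by decide +kernel)
    (fun _ => rfl) (fun r hr => ?_) (fun g hg h1 => ?_)
  · rw [torChar_pw]
    exact zpow_ne_one h9 hγ (hexp ⟨r, hr⟩).1 (hexp ⟨r, hr⟩).2
  have hs : okSmall chevG2 = true := by decide +kernel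
  obtain ⟨v, c, u, s1, a1⟩ := exists_cm hF h9 okConnG2 (small_of_ok hs) hg h1 n0
  obtain ⟨v, c, u, s2, a2, b2, -⟩ := spread hF h9 s1 (show (1 : Fin 2) ≠ 0 by decide) (by decide +kernel)
    (small_of_ok hs _ _) a1
  obtain ⟨v, c, u, s3, c3, -, k3, -⟩ := set_down hF s2 n1 b2 1
  obtain ⟨v, c', u, s4, c4, o4, -⟩ := set_up hF s3 n0 (by rw [k3 n0 (show (0 : Fin 2) ≠ 1 by decide)]; exact a2) 1
  refine ⟨v, c', u, s4, fun i => ?_⟩
  change Fin 2 at i
  fin_cases i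
  · exact c4
  · exact (o4 n1 (show (1 : Fin 2) ≠ 0 by decide)).trans c3

end Cfsg.Agent.Lie.ClassSq.Exc
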