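import Mathlib

/-!
Nine-block matrices on `R ⊕ (Fin m ⊕ Fin m)` and alternating forms, for the orthogonal groups.
-/

set_option autoImplicit false
set_option linter.unusedSectionVars false

namespace Cfsg.Agent.Lie.ClassSq.Orth

open Matrix

variable {F : Type*} [Field F] {R : Type} [Fintype R] [DecidableEq R] {m : ℕ}

/-- The quadratic form of the matrix vanishes. -/
def IsAlt {n : Type*} [Fintype n] (M : Matrix n n F) : Prop := ∀ p, p ⬝ᵥ (M *ᵥ p) = 0

theorem dot_mul {n p q : Type*} [Fintype n] [Fintype p] [Fintype q] (M : Matrix p n F) (N : Matrix p q F)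
    (u : n → F) (v : q → F) : (M *ᵥ u) ⬝ᵥ (N *ᵥ v) = u ⬝ᵥ ((Mᵀ * N) *ᵥ v) := by
  rw [← Matrix.mulVec_mulVec, Matrix.dotProduct_mulVec u, Matrix.vecMul_transpose]

theorem dot_transpose {n p : Type*} [Fintype n] [Fintype p] (M : Matrix p n F) (u : n → F) (v : p → F) :
    (M *ᵥ u) ⬝ᵥ v = u ⬝ᵥ (Mᵀ *ᵥ v) := by
  rw [Matrix.dotProduct_mulVec u, Matrix.vecMul_transpose]

theorem ext_of_dot {n p : Type*} [Fintype n] [DecidableEq n] [Fintype p] [DecidableEq p] {X Y : Matrix n p F}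
    (h : ∀ u v, u ⬝ᵥ (X *ᵥ v) = u ⬝ᵥ (Y *ᵥ v)) : X = Y := by
  ext i j
  simpa using h (Pi.single i 1) (Pi.single j 1)

section Alt

variable {n : Type*} [Fintype n]

theorem isAlt_zero : IsAlt (0 : Matrix n n F) := fun p => by simp

theorem IsAlt.add {M N : Matrix n n F} (hM : IsAlt M) (hN : IsAlt N) : IsAlt (M + N) := fun p => by
  rw [Matrix.add_mulVec, dotProduct_add, hM, hN, add_zero]

theorem IsAlt.neg {M : Matrix n n F} (hM : IsAlt M) : IsAlt (-M) := fun p => by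
  rw [Matrix.neg_mulVec, dotProduct_neg, hM, neg_zero]

theorem IsAlt.smul {M : Matrix n n F} (hM : IsAlt M) (c : F) : IsAlt (c • M) := fun p => by
  rw [Matrix.smul_mulVec, dotProduct_smul, hM, smul_zero]

theorem IsAlt.congr {M : Matrix n n F} (hM : IsAlt M) {p : Type*} [Fintype p] (P : Matrix p n F) :
    IsAlt (P * M * Pᵀ) := fun v => by
  have e : v ⬝ᵥ ((P * M * Pᵀ) *ᵥ v) = (Pᵀ *ᵥ v) ⬝ᵥ (M *ᵥ (Pᵀ *ᵥ v)) := by
    rw [← Matrix.mulVec_mulVec, ← Matrix.mulVec_mulVec, dot_transpose, Matrix.transpose_transpose]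
  rw [e, hM]

theorem IsAlt.diag [DecidableEq n] {M : Matrix n n F} (hM : IsAlt M) (i : n) : M i i = 0 := by
  simpa using hM (Pi.single i 1)

theorem IsAlt.skew [DecidableEq n] {M : Matrix n n F} (hM : IsAlt M) (i j : n) : M j i = -M i j := by
  have h := hM (Pi.single i 1 + Pi.single j 1)
  simp [Matrix.mulVec_add, dotProduct_add, add_dotProduct, hM.diag] at h
  linear_combination h

theorem isAlt_sub {p : Type*} [Fintype p] (x y : Matrix n p F) : IsAlt (x * yᵀ - y * xᵀ) := fun v => by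
  have h : ∀ (a : Matrix n p F) w, v ⬝ᵥ (a *ᵥ w) = (aᵀ *ᵥ v) ⬝ᵥ w := fun a w => by
    rw [dot_transpose, Matrix.transpose_transpose]
  rw [Matrix.sub_mulVec, dotProduct_sub, ← Matrix.mulVec_mulVec, ← Matrix.mulVec_mulVec, h, h, dotProduct_comm,
    sub_self]

theorem isAlt_rows (a b : n → F) : IsAlt (Matrix.vecMulVec a b - Matrix.vecMulVec b a) := fun v => by
  rw [Matrix.sub_mulVec, dotProduct_sub, Matrix.vecMulVec_mulVec, Matrix.vecMulVec_mulVec]
  simp [dotProduct_smul, dotProduct_comm]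
  ring

end Alt

/-- The matrix with the nine blocks given. -/
def mk3 (ω : Matrix R R F) (E G : Matrix R (Fin m) F) (K : Matrix (Fin m) R F) (A B : Matrix (Fin m) (Fin m) F)
    (H : Matrix (Fin m) R F) (C D : Matrix (Fin m) (Fin m) F) :
    Matrix (R ⊕ (Fin m ⊕ Fin m)) (R ⊕ (Fin m ⊕ Fin m)) F :=
  fromBlocks ω (fromCols E G) (fromRows K H) (fromBlocks A B C D)

theorem mk3_mul (ω ω' : Matrix R R F) (E G E' G' : Matrix R (Fin m) F) (K K' H H' : Matrix (Fin m) R F)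
    (A B C D A' B' C' D' : Matrix (Fin m) (Fin m) F) :
    mk3 ω E G K A B H C D * mk3 ω' E' G' K' A' B' H' C' D' =
      mk3 (ω * ω' + E * K' + G * H') (ω * E' + E * A' + G * C') (ω * G' + E * B' + G * D')
        (K * ω' + A * K' + B * H') (K * E' + A * A' + B * C') (K * G' + A * B' + B * D')
        (H * ω' + C * K' + D * H') (H * E' + C * A' + D * C') (H * G' + C * B' + D * D') := by
  ext (i | i | i) (j | j | j) <;> simp [mk3, Matrix.mul_apply, add_assoc]

theorem mk3_one : mk3 (1 : Matrix R R F) 0 0 0 1 0 0 0 (1 : Matrix (Fin m) (Fin m) F) = 1 := by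
  ext (i | i | i) (j | j | j) <;> simp [mk3, Matrix.one_apply]

theorem mk3_smul (c : F) : mk3 (c • (1 : Matrix R R F)) 0 0 0 (c • 1) 0 0 0 (c • (1 : Matrix (Fin m) (Fin m) F)) = c • 1 := by
  ext (i | i | i) (j | j | j) <;> simp [mk3, Matrix.one_apply]

theorem mk3_inj {ω ω' : Matrix R R F} {E G E' G' : Matrix R (Fin m) F} {K K' H H' : Matrix (Fin m) R F}
    {A B C D A' B' C' D' : Matrix (Fin m) (Fin m) F}
    (h : mk3 ω E G K A B H C D = mk3 ω' E' G' K' A' B' H' C' D') :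
    ω = ω' ∧ E = E' ∧ G = G' ∧ K = K' ∧ A = A' ∧ B = B' ∧ H = H' ∧ C = C' ∧ D = D' := by
  refine ⟨?_, ?_, ?_, ?_, ?_, ?_, ?_, ?_, ?_⟩ <;> ext i j
  · exact congrFun (congrFun h (.inl i)) (.inl j)
  · exact congrFun (congrFun h (.inl i)) (.inr (.inl j))
  · exact congrFun (congrFun h (.inl i)) (.inr (.inr j))
  · exact congrFun (congrFun h (.inr (.inl i))) (.inl j)
  · exact congrFun (congrFun h (.inr (.inl i))) (.inr (.inl j))
  · exact congrFun (congrFun h (.inr (.inl i))) (.inr (.inr j))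
  · exact congrFun (congrFun h (.inr (.inr i))) (.inl j)
  · exact congrFun (congrFun h (.inr (.inr i))) (.inr (.inl j))
  · exact congrFun (congrFun h (.inr (.inr i))) (.inr (.inr j))

/-- The vector with the three parts given. -/
def vec3 (z : R → F) (p s : Fin m → F) : R ⊕ (Fin m ⊕ Fin m) → F := Sum.elim z (Sum.elim p s)

theorem vec3_eta (v : R ⊕ (Fin m ⊕ Fin m) → F) :
    v = vec3 (fun r => v (.inl r)) (fun i => v (.inr (.inl i))) fun i => v (.inr (.inr i)) := by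
  funext x
  rcases x with r | i | i <;> rfl

theorem mk3_mulVec (ω : Matrix R R F) (E G : Matrix R (Fin m) F) (K H : Matrix (Fin m) R F)
    (A B C D : Matrix (Fin m) (Fin m) F) (z : R → F) (p s : Fin m → F) :
    mk3 ω E G K A B H C D *ᵥ vec3 z p s =
      vec3 (ω *ᵥ z + E *ᵥ p + G *ᵥ s) (K *ᵥ z + A *ᵥ p + B *ᵥ s) (H *ᵥ z + C *ᵥ p + D *ᵥ s) := by
  funext x
  rcases x with r | i | i <;> simp [mk3, vec3, Matrix.mulVec, dotProduct, add_assoc]

/-- The form `Σ z² + p · s`. -/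
def qv (v : R ⊕ (Fin m ⊕ Fin m) → F) : F :=
  (fun r => v (.inl r)) ⬝ᵥ (fun r => v (.inl r)) + (fun i => v (.inr (.inl i))) ⬝ᵥ fun i => v (.inr (.inr i))

theorem qv_vec3 (z : R → F) (p s : Fin m → F) : qv (vec3 z p s) = z ⬝ᵥ z + p ⬝ᵥ s := rfl

/-- The relations between the blocks of an isometry. -/
theorem relations (ω : Matrix R R F) (E G : Matrix R (Fin m) F) (K H : Matrix (Fin m) R F)
    (A B C D : Matrix (Fin m) (Fin m) F) (hiso : ∀ v, qv (mk3 ω E G K A B H C D *ᵥ v) = qv v) :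
    IsAlt (Eᵀ * E + Aᵀ * C) ∧ IsAlt (Gᵀ * G + Bᵀ * D) ∧
      (2 : F) • (Eᵀ * G) + Aᵀ * D + Cᵀ * B = 1 ∧
      (2 : F) • (ωᵀ * E) + Kᵀ * C + Hᵀ * A = 0 ∧
      (2 : F) • (ωᵀ * G) + Kᵀ * D + Hᵀ * B = 0 ∧ IsAlt (ωᵀ * ω + Kᵀ * H - 1) := by
  have key : ∀ z p s, (ω *ᵥ z + E *ᵥ p + G *ᵥ s) ⬝ᵥ (ω *ᵥ z + E *ᵥ p + G *ᵥ s) +
      (K *ᵥ z + A *ᵥ p + B *ᵥ s) ⬝ᵥ (H *ᵥ z + C *ᵥ p + D *ᵥ s) = z ⬝ᵥ z + p ⬝ᵥ s := fun z p s => by
    have h := hiso (vec3 z p s)
    rwa [mk3_mulVec, qv_vec3, qv_vec3] at h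
  have h1 : IsAlt (Eᵀ * E + Aᵀ * C) := fun p => by
    have h := key 0 p 0
    simp only [Matrix.mulVec_zero, zero_add, add_zero, dotProduct_zero] at h
    rw [Matrix.add_mulVec, dotProduct_add, ← dot_mul, ← dot_mul]
    exact h
  have h2 : IsAlt (Gᵀ * G + Bᵀ * D) := fun p => by
    have h := key 0 0 p
    simp only [Matrix.mulVec_zero, zero_add, add_zero, dotProduct_zero, zero_dotProduct] at h
    rw [Matrix.add_mulVec, dotProduct_add, ← dot_mul, ← dot_mul]
    exact h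
  refine ⟨h1, h2, ext_of_dot fun u v => ?_, ext_of_dot fun u v => ?_, ext_of_dot fun u v => ?_, fun z => ?_⟩
  · have ha := key 0 u v
    have hb := key 0 u 0
    have hc := key 0 0 v
    simp only [Matrix.mulVec_zero, zero_add, add_zero, dotProduct_zero, zero_dotProduct, add_dotProduct,
      dotProduct_add] at ha hb hc
    rw [Matrix.add_mulVec, Matrix.add_mulVec, Matrix.smul_mulVec, dotProduct_add, dotProduct_add, dotProduct_smul,
      smul_eq_mul, ← dot_mul, ← dot_mul, ← dot_mul, Matrix.one_mulVec, dotProduct_comm (C *ᵥ u)]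
    rw [dotProduct_comm (G *ᵥ v) (E *ᵥ u)] at ha
    linear_combination ha - hb - hc
  · have ha := key u v 0
    have hb := key u 0 0
    have hc := key 0 v 0
    simp only [Matrix.mulVec_zero, zero_add, add_zero, dotProduct_zero, zero_dotProduct, add_dotProduct,
      dotProduct_add] at ha hb hc
    rw [Matrix.add_mulVec, Matrix.add_mulVec, Matrix.smul_mulVec, dotProduct_add, dotProduct_add, dotProduct_smul,
      smul_eq_mul, ← dot_mul, ← dot_mul, ← dot_mul, Matrix.zero_mulVec, dotProduct_zero, dotProduct_comm (H *ᵥ u)]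
    rw [dotProduct_comm (E *ᵥ v) (ω *ᵥ u)] at ha
    linear_combination ha - hb - hc
  · have ha := key u 0 v
    have hb := key u 0 0
    have hc := key 0 0 v
    simp only [Matrix.mulVec_zero, zero_add, add_zero, dotProduct_zero, zero_dotProduct, add_dotProduct,
      dotProduct_add] at ha hb hc
    rw [Matrix.add_mulVec, Matrix.add_mulVec, Matrix.smul_mulVec, dotProduct_add, dotProduct_add, dotProduct_smul,
      smul_eq_mul, ← dot_mul, ← dot_mul, ← dot_mul, Matrix.zero_mulVec, dotProduct_zero, dotProduct_comm (H *ᵥ u)]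
    rw [dotProduct_comm (G *ᵥ v) (ω *ᵥ u)] at ha
    linear_combination ha - hb - hc
  · have h := key z 0 0
    simp only [Matrix.mulVec_zero, add_zero, dotProduct_zero] at h
    rw [Matrix.sub_mulVec, Matrix.add_mulVec, dotProduct_sub, dotProduct_add, ← dot_mul, ← dot_mul, Matrix.one_mulVec, h,
      sub_self]

end Cfsg.Agent.Lie.ClassSq.Orth
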