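import Mathlib
import Cfsg.Agent.Lib.Small.Orth.LeviMat
import Cfsg.Agent.Lib.Lie.ClassSquare.Linear
import Cfsg.Agent.Lib.Lie.ClassSquare.OrthBlocks

/-!
Siegel Levi subgroup, Siegel radicals and swaps of the orthogonal groups of `Σ z² + p · s`, with words in
reflections.
-/

set_option autoImplicit false
set_option linter.unusedSectionVars false

namespace Cfsg.Agent.Lie.ClassSq.Orth

open Matrix QuadraticMap Cfsg.Agent.Classical Cfsg.Agent.Classical.OCount Cfsg.Agent.Classical.ORefl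
  Cfsg.Agent.Classical.OOmega Cfsg.Agent.Small.Orth

variable (F : Type*) [Field F] (R : Type) [Fintype R] [DecidableEq R] (m : ℕ)

/-- The sum of squares. -/
noncomputable def sqP : QuadraticForm F (R → F) := QuadraticMap.weightedSumSquares F (fun _ : R => (1 : F))

/-- The place of the coordinates. -/
abbrev place : R ⊕ (Fin m ⊕ Fin m) ≃ (Fin m ⊕ Fin m) ⊕ R := Equiv.sumComm R (Fin m ⊕ Fin m)

/-- The quadratic form. -/
noncomputable abbrev QF : QuadraticForm F (R ⊕ (Fin m ⊕ Fin m) → F) := formOf m (place R m) (sqP F R)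

theorem sqP_apply (z : R → F) : sqP F R z = z ⬝ᵥ z := by
  rw [sqP, QuadraticMap.weightedSumSquares_apply]
  simp [dotProduct]

theorem coe_QF : ⇑(QF F R m) = qv := funext fun v => by
  rw [formOf_apply, stdQ_apply, sqP_apply, qv]
  simp [dotProduct, add_comm]

theorem sqP_pnd [Subsingleton R] (hR : R → (2 : F) ≠ 0) : PND (sqP F R) := fun v hv => funext fun r => by
  have h := hv v
  haveI : Unique R := ⟨⟨r⟩, fun a => Subsingleton.elim _ _⟩
  rw [QuadraticMap.polar_self, sqP_apply, dotProduct, Fintype.sum_unique, nsmul_eq_mul, Nat.cast_ofNat] at h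
  have h' := mul_self_eq_zero.mp ((mul_eq_zero.mp h).resolve_left (hR r))
  rw [Subsingleton.elim r default]
  exact h'

theorem QF_pnd [Subsingleton R] (hR : R → (2 : F) ≠ 0) : PND (QF F R m) := formOf_pnd (sqP_pnd F R hR)

/-- The isometry group. -/
abbrev O := ↥(Cfsg.isometryGroup F (qv (F := F) (R := R) (m := m)))

variable {F R m}

/-- The matrix of an isometry. -/
def mt (g : O F R m) : Matrix (R ⊕ (Fin m ⊕ Fin m)) (R ⊕ (Fin m ⊕ Fin m)) F := g.1.1

theorem mt_mul (g h : O F R m) : mt (g * h) = mt g * mt h := rfl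

theorem mt_one : mt (1 : O F R m) = 1 := rfl

theorem mt_inj {g h : O F R m} (e : mt g = mt h) : g = h := Subtype.ext (Units.ext e)

theorem mt_iso (g : O F R m) (v : R ⊕ (Fin m ⊕ Fin m) → F) : qv (mt g *ᵥ v) = qv v := g.2 v v

/-- An isometry from its matrix. -/
def mkO (M M' : Matrix (R ⊕ (Fin m ⊕ Fin m)) (R ⊕ (Fin m ⊕ Fin m)) F) (h : M * M' = 1)
    (hiso : ∀ v, qv (M *ᵥ v) = qv v) : O F R m :=
  ⟨⟨M, M', h, mul_eq_one_comm.1 h⟩, fun v _ => hiso v⟩

theorem mt_mkO (M M' : Matrix (R ⊕ (Fin m ⊕ Fin m)) (R ⊕ (Fin m ⊕ Fin m)) F) (h : M * M' = 1)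
    (hiso : ∀ v, qv (M *ᵥ v) = qv v) : mt (mkO M M' h hiso) = M := rfl

/-- The half. -/
def hf : F := (2 : F)⁻¹

theorem two_hf (hR : R → (2 : F) ≠ 0) (r : R) : (2 : F) * hf = 1 := mul_inv_cancel₀ (hR r)

theorem two_hf_smul {α : Type*} (hR : R → (2 : F) ≠ 0) (X : Matrix R α F) : ((2 : F) * hf) • X = X := by
  ext r a
  rw [Matrix.smul_apply, two_hf hR r, one_smul]

theorem two_hf_mul {α β : Type*} (hR : R → (2 : F) ≠ 0) (x : Matrix α R F) (X : Matrix R β F) :
    ((2 : F) * hf) • (x * X) = x * X := by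
  rw [← Matrix.mul_smul, two_hf_smul hR]

theorem two_hf_dot (hR : R → (2 : F) ≠ 0) (u v : R → F) : (2 : F) * hf * (u ⬝ᵥ v) = u ⬝ᵥ v := by
  rw [dotProduct, Finset.mul_sum]
  exact Finset.sum_congr rfl fun r _ => by rw [two_hf hR r, one_mul]

/-- The Levi element. -/
def dg (A A' : Matrix (Fin m) (Fin m) F) (h : A * A' = 1) : O F R m :=
  mkO (mk3 1 0 0 0 A 0 0 0 A'ᵀ) (mk3 1 0 0 0 A' 0 0 0 Aᵀ)
    (by rw [mk3_mul]; simp [h, ← Matrix.transpose_mul, mk3_one]) fun v => by
      rw [vec3_eta v, mk3_mulVec, qv_vec3, qv_vec3]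
      simp [dot_mul, ← Matrix.transpose_mul, mul_eq_one_comm.1 h]

theorem mt_dg (A A' : Matrix (Fin m) (Fin m) F) (h : A * A' = 1) :
    mt (dg A A' h : O F R m) = mk3 1 0 0 0 A 0 0 0 A'ᵀ := rfl

theorem dg_inv (A A' : Matrix (Fin m) (Fin m) F) (h : A * A' = 1) :
    (dg A A' h : O F R m)⁻¹ = dg A' A (mul_eq_one_comm.1 h) := by
  refine inv_eq_of_mul_eq_one_right (mt_inj ?_)
  rw [mt_mul, mt_dg, mt_dg, mk3_mul, mt_one]
  simp [h, ← Matrix.transpose_mul, mk3_one]

theorem dg_mul (A A' B B' : Matrix (Fin m) (Fin m) F) (h : A * A' = 1) (h' : B * B' = 1)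
    (h'' : A * B * (B' * A') = 1) : (dg A A' h : O F R m) * dg B B' h' = dg (A * B) (B' * A') h'' := by
  refine mt_inj ?_
  rw [mt_mul, mt_dg, mt_dg, mk3_mul, mt_dg]
  simp [Matrix.transpose_mul]

/-- The matrix of an element of the upper radical. -/
def upM (x : Matrix (Fin m) R F) (Y : Matrix (Fin m) (Fin m) F) :
    Matrix (R ⊕ (Fin m ⊕ Fin m)) (R ⊕ (Fin m ⊕ Fin m)) F :=
  mk3 1 0 (-(hf : F) • xᵀ) x 1 (Y - ((hf : F) * hf) • (x * xᵀ)) 0 0 1

theorem upM_mul (hR : R → (2 : F) ≠ 0) (x x' : Matrix (Fin m) R F) (Y Y' : Matrix (Fin m) (Fin m) F) :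
    upM x Y * upM x' Y' = upM (x + x') (Y + Y' + ((hf : F) * hf) • (x' * xᵀ - x * x'ᵀ)) := by
  have e : (hf : F) • (x * x'ᵀ) = (2 * (hf * hf) : F) • (x * x'ᵀ) := by
    conv_lhs => rw [← two_hf_mul hR x x'ᵀ, smul_smul]
    congr 1
    ring
  rw [upM, upM, upM, mk3_mul]
  simp only [Matrix.one_mul, Matrix.mul_one, Matrix.mul_zero, Matrix.zero_mul, add_zero, zero_add, Matrix.mul_neg,
    Matrix.mul_smul, Matrix.transpose_add, Matrix.add_mul, Matrix.mul_add, neg_smul, smul_add, neg_add]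
  congr 1 <;> first | module | (rw [e]; module) | simp

theorem upM_zero : upM (0 : Matrix (Fin m) R F) 0 = 1 := by simp [upM, mk3_one]

theorem upM_iso (hR : R → (2 : F) ≠ 0) (x : Matrix (Fin m) R F) (Y : Matrix (Fin m) (Fin m) F) (hY : IsAlt Y)
    (v : R ⊕ (Fin m ⊕ Fin m) → F) : qv (upM x Y *ᵥ v) = qv v := by
  rw [vec3_eta v, upM, mk3_mulVec, qv_vec3, qv_vec3]
  generalize (fun r => v (.inl r)) = z
  generalize (fun i => v (.inr (.inl i))) = p
  generalize (fun i => v (.inr (.inr i))) = s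
  simp only [Matrix.one_mulVec, Matrix.zero_mulVec, add_zero, zero_add, Matrix.smul_mulVec, Matrix.sub_mulVec,
    add_dotProduct, dotProduct_add, sub_dotProduct, smul_dotProduct, dotProduct_smul, smul_eq_mul]
  have e1 : (Y *ᵥ s) ⬝ᵥ s = 0 := by rw [dotProduct_comm]; exact hY s
  have e2 : ((x * xᵀ) *ᵥ s) ⬝ᵥ s = (xᵀ *ᵥ s) ⬝ᵥ (xᵀ *ᵥ s) := by rw [← Matrix.mulVec_mulVec, dot_transpose]
  have e3 : (x *ᵥ z) ⬝ᵥ s = z ⬝ᵥ (xᵀ *ᵥ s) := dot_transpose _ _ _
  rw [e1, e2, e3, dotProduct_comm (xᵀ *ᵥ s) z]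
  linear_combination -(two_hf_dot hR z (xᵀ *ᵥ s))

/-- An element of the upper radical. -/
def up (hR : R → (2 : F) ≠ 0) (x : Matrix (Fin m) R F) (Y : Matrix (Fin m) (Fin m) F) (hY : IsAlt Y) : O F R m :=
  mkO (upM x Y) (upM (-x) (-Y)) (by rw [upM_mul hR]; simp [upM_zero]) (upM_iso hR x Y hY)

variable (hR : R → (2 : F) ≠ 0)

theorem mt_up (x : Matrix (Fin m) R F) (Y : Matrix (Fin m) (Fin m) F) (hY : IsAlt Y) :
    mt (up hR x Y hY) = upM x Y := rfl

theorem up_congr {x x' : Matrix (Fin m) R F} {Y Y' : Matrix (Fin m) (Fin m) F} (hY : IsAlt Y) (hY' : IsAlt Y')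
    (e : x = x') (e' : Y = Y') : up hR x Y hY = up hR x' Y' hY' := by subst e e'; rfl

theorem up_mul (x x' : Matrix (Fin m) R F) (Y Y' : Matrix (Fin m) (Fin m) F) (hY : IsAlt Y) (hY' : IsAlt Y') :
    up hR x Y hY * up hR x' Y' hY' =
      up hR (x + x') (Y + Y' + ((hf : F) * hf) • (x' * xᵀ - x * x'ᵀ))
        ((hY.add hY').add ((isAlt_sub x' x).smul _)) :=
  mt_inj (by rw [mt_mul, mt_up, mt_up, mt_up, upM_mul hR])

theorem up_zero : up hR (0 : Matrix (Fin m) R F) 0 isAlt_zero = 1 := mt_inj (by rw [mt_up, upM_zero, mt_one])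

theorem up_inv (x : Matrix (Fin m) R F) (Y : Matrix (Fin m) (Fin m) F) (hY : IsAlt Y) :
    (up hR x Y hY)⁻¹ = up hR (-x) (-Y) hY.neg := by
  refine inv_eq_of_mul_eq_one_right ?_
  rw [up_mul, ← up_zero hR]
  exact up_congr hR _ _ (add_neg_cancel x) (by simp)

theorem up_conj (A A' : Matrix (Fin m) (Fin m) F) (h : A * A' = 1) (x : Matrix (Fin m) R F)
    (Y : Matrix (Fin m) (Fin m) F) (hY : IsAlt Y) :
    dg A A' h * up hR x Y hY * (dg A A' h)⁻¹ = up hR (A * x) (A * Y * Aᵀ) (hY.congr A) := by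
  refine mt_inj ?_
  have hT : A'ᵀ * Aᵀ = 1 := by rw [← Matrix.transpose_mul, h, Matrix.transpose_one]
  rw [dg_inv, mt_mul, mt_mul, mt_dg, mt_dg, mt_up, mt_up, upM, upM, mk3_mul, mk3_mul]
  simp [h, hT, Matrix.transpose_mul, Matrix.mul_sub, Matrix.sub_mul, Matrix.mul_assoc]

/-- The matrix of a swap of some pairs. -/
def swM (s : Finset (Fin m)) : Matrix (R ⊕ (Fin m ⊕ Fin m)) (R ⊕ (Fin m ⊕ Fin m)) F :=
  mk3 1 0 0 0 (Matrix.diagonal fun i => if i ∈ s then 0 else 1) (Matrix.diagonal fun i => if i ∈ s then 1 else 0)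
    0 (Matrix.diagonal fun i => if i ∈ s then 1 else 0) (Matrix.diagonal fun i => if i ∈ s then 0 else 1)

/-- A swap of some pairs. -/
def sw (s : Finset (Fin m)) : O F R m :=
  mkO (swM s) (swM s)
    (by
      rw [swM, mk3_mul, ← mk3_one]
      simp only [Matrix.one_mul, Matrix.mul_zero, Matrix.zero_mul, add_zero, zero_add, Matrix.diagonal_mul_diagonal,
        Matrix.diagonal_add]
      congr 1 <;> (ext i j; rw [Matrix.diagonal_apply]; split_ifs <;> simp_all [Matrix.one_apply]))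
    fun v => by
      rw [vec3_eta v, swM, mk3_mulVec, qv_vec3, qv_vec3]
      simp only [Matrix.one_mulVec, Matrix.zero_mulVec, add_zero, zero_add, add_right_inj]
      refine Finset.sum_congr rfl fun i _ => ?_
      simp only [Pi.add_apply, Matrix.mulVec_diagonal]
      split_ifs <;> ring

theorem mt_sw (s : Finset (Fin m)) : mt (sw s : O F R m) = swM s := rfl

theorem sw_univ : swM (Finset.univ : Finset (Fin m)) =
    (mk3 1 0 0 0 0 1 0 1 0 : Matrix (R ⊕ (Fin m ⊕ Fin m)) (R ⊕ (Fin m ⊕ Fin m)) F) := by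
  simp [swM]

theorem sw_mul_self (s : Finset (Fin m)) : (sw s : O F R m) * sw s = 1 :=
  mt_inj (by
    rw [mt_mul, mt_one]
    exact (sw s : O F R m).1.mul_inv)

theorem sw_inv (s : Finset (Fin m)) : (sw s : O F R m)⁻¹ = sw s := inv_eq_of_mul_eq_one_right (sw_mul_self s)

/-- The full swap exchanges the blocks. -/
theorem sw_conj (g : O F R m) {ω : Matrix R R F} {E G : Matrix R (Fin m) F} {K H : Matrix (Fin m) R F}
    {A B C D : Matrix (Fin m) (Fin m) F} (hg : mt g = mk3 ω E G K A B H C D) :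
    mt (sw Finset.univ * g * sw Finset.univ) = mk3 ω G E H D C K B A := by
  rw [mt_mul, mt_mul, mt_sw, sw_univ, hg, mk3_mul, mk3_mul]
  simp

theorem sw_dg (A A' : Matrix (Fin m) (Fin m) F) (h : A * A' = 1) :
    (sw Finset.univ : O F R m) * dg A A' h * sw Finset.univ =
      dg A'ᵀ Aᵀ (by rw [← Matrix.transpose_mul, h, Matrix.transpose_one]) :=
  mt_inj (by rw [sw_conj _ (mt_dg A A' h), mt_dg, Matrix.transpose_transpose])

/-- An element of the lower radical. -/
def lo (x : Matrix (Fin m) R F) (Y : Matrix (Fin m) (Fin m) F) (hY : IsAlt Y) : O F R m :=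
  sw Finset.univ * up hR x Y hY * sw Finset.univ

theorem mt_lo (x : Matrix (Fin m) R F) (Y : Matrix (Fin m) (Fin m) F) (hY : IsAlt Y) :
    mt (lo hR x Y hY) = mk3 1 (-(hf : F) • xᵀ) 0 0 1 0 x (Y - ((hf : F) * hf) • (x * xᵀ)) 1 :=
  sw_conj _ (mt_up hR x Y hY)

theorem lo_inv (x : Matrix (Fin m) R F) (Y : Matrix (Fin m) (Fin m) F) (hY : IsAlt Y) :
    (lo hR x Y hY)⁻¹ = lo hR (-x) (-Y) hY.neg := by
  rw [lo, lo, ← up_inv, _root_.mul_inv_rev, _root_.mul_inv_rev, sw_inv, mul_assoc]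

variable (F R m)

/-- The upper radical. -/
def UO : Subgroup (O F R m) where
  carrier := {g | ∃ x Y hY, g = up hR x Y hY}
  one_mem' := ⟨0, 0, isAlt_zero, (up_zero hR).symm⟩
  mul_mem' := by
    rintro g h ⟨x, Y, hY, rfl⟩ ⟨x', Y', hY', rfl⟩
    exact ⟨_, _, _, up_mul hR x x' Y Y' hY hY'⟩
  inv_mem' := by
    rintro g ⟨x, Y, hY, rfl⟩
    exact ⟨_, _, _, up_inv hR x Y hY⟩

variable {F R m}

/-- A word in reflections with parity and square class. -/
def HasW (g : O F R m) (n : ℕ) (c : F) : Prop :=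
  ∃ vs : List (R ⊕ (Fin m ⊕ Fin m) → F), (∀ v ∈ vs, QF F R m v ≠ 0) ∧
    (∀ x, mt g *ᵥ x = (prodRf (QF F R m) vs).1 x) ∧ (Even vs.length ↔ Even n) ∧
    IsSquare (c * (vs.map fun v => QF F R m v).prod)

theorem HasW.mul {g g' : O F R m} {n n' : ℕ} {c c' : F} (h : HasW g n c) (h' : HasW g' n' c') :
    HasW (g * g') (n + n') (c * c') := by
  obtain ⟨as, a1, a2, a3, a4⟩ := h
  obtain ⟨bs, b1, b2, b3, b4⟩ := h'
  refine ⟨as ++ bs, fun v hv => (List.mem_append.1 hv).elim (a1 v) (b1 v), fun x => ?_, ?_, ?_⟩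
  · rw [prodRf_append, mt_mul, ← Matrix.mulVec_mulVec, b2, a2]
    rfl
  · rw [List.length_append, Nat.even_add, Nat.even_add, a3, b3]
  · rw [List.map_append, List.prod_append, mul_mul_mul_comm]
    exact a4.mul b4

theorem prodRf_fix {V : Type*} [AddCommGroup V] [Module F V] [FiniteDimensional F V] {Q : QuadraticForm F V}
    (vs : List V) (x : V) (h : ∀ v ∈ vs, polar Q v x = 0) : (prodRf Q vs).1 x = x := by
  induction vs with
  | nil => rfl
  | cons v vs ih =>
    rw [prodRf_cons]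
    change refl Q v ((prodRf Q vs).1 x) = x
    rw [ih fun w hw => h w (List.mem_cons_of_mem _ hw), refl_fix (h v List.mem_cons_self)]

theorem polar_inl (i : Fin m) (r : R) :
    polar (QF F R m) (bv (place R m) (.inl (.inl i)) - bv (place R m) (.inl (.inr i))) (Pi.single (.inl r) 1) = 0 := by
  rw [polar_sub_left, (polar_bv_inl _ _ _ i).1, (polar_bv_inl _ _ _ i).2]
  simp

theorem hasW_sw (s : Finset (Fin m)) : HasW (sw s : O F R m) s.card ((-1) ^ s.card) := by
  classical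
  set e : Fin m → (R ⊕ (Fin m ⊕ Fin m) → F) := fun i => bv (place R m) (.inl (.inl i)) with he
  set f : Fin m → (R ⊕ (Fin m ⊕ Fin m) → F) := fun i => bv (place R m) (.inl (.inr i)) with hf'
  have hfam : HFam (QF F R m) e f := hfam_formOf _ _
  have hq : ∀ i, QF F R m (e i - f i) = -1 := fun i => by
    rw [map_sub_two, hfam.qe, hfam.qf, hfam.ef, if_pos rfl]; ring
  refine ⟨s.toList.map fun k => e k - f k, ?_, ?_, by simp, ?_⟩
  · intro v hv
    obtain ⟨k, -, rfl⟩ := List.mem_map.1 hv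
    rw [hq]
    simp
  · suffices h : Matrix.mulVecLin (mt (sw s : O F R m)) =
        ((prodRf (QF F R m) (s.toList.map fun k => e k - f k)).1 : (R ⊕ (Fin m ⊕ Fin m) → F) →ₗ[F] _) from
      fun x => LinearMap.congr_fun h x
    refine (Pi.basisFun F _).ext fun k => ?_
    rw [Pi.basisFun_apply, Matrix.mulVecLin_apply, mt_sw]
    rcases k with r | i | i
    · change _ = (prodRf (QF F R m) _).1 _
      rw [prodRf_fix _ _ (fun v hv => by
        obtain ⟨k, -, rfl⟩ := List.mem_map.1 hv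
        exact polar_inl k r)]
      funext x
      rw [Matrix.mulVec_single_one, Matrix.col_apply]
      rcases x with x | x | x <;> simp [swM, mk3, Matrix.one_apply, Pi.single_apply]
    · change _ = (prodRf (QF F R m) _).1 (e i)
      rw [(swap_word hfam _ s.nodup_toList i).1]
      funext x
      rw [Matrix.mulVec_single_one, Matrix.col_apply]
      by_cases hi : i ∈ s <;> rcases x with x | x | x <;>
        simp [swM, mk3, hi, he, hf', bv, Pi.single_apply, Matrix.diagonal_apply] <;>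
        first
          | (intro hx; subst hx; assumption)
          | (split_ifs <;> simp_all)
    · change _ = (prodRf (QF F R m) _).1 (f i)
      rw [(swap_word hfam _ s.nodup_toList i).2]
      funext x
      rw [Matrix.mulVec_single_one, Matrix.col_apply]
      by_cases hi : i ∈ s <;> rcases x with x | x | x <;>
        simp [swM, mk3, hi, he, hf', bv, Pi.single_apply, Matrix.diagonal_apply] <;>
        first
          | (intro hx; subst hx; assumption)
          | (split_ifs <;> simp_all)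
  · rw [List.map_map, List.map_congr_left (g := fun _ => (-1 : F)) (fun k _ => by simp [hq]), List.map_const',
      List.prod_replicate, Finset.length_toList]
    exact IsSquare.mul_self _

/-- The element inverting the middle coordinate. -/
def rho [Subsingleton R] : O F R m :=
  mkO (mk3 (-1) 0 0 0 1 0 0 0 1) (mk3 (-1) 0 0 0 1 0 0 0 1) (by rw [mk3_mul]; simp [mk3_one]) fun v => by
    rw [vec3_eta v, mk3_mulVec, qv_vec3, qv_vec3]
    simp [Matrix.neg_mulVec]

theorem mt_rho [Subsingleton R] : mt (rho : O F R m) = mk3 (-1) 0 0 0 1 0 0 0 1 := rfl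

theorem hasW_rho [Subsingleton R] (hR : R → (2 : F) ≠ 0) (r : R) : HasW (rho : O F R m) 1 1 := by
  classical
  set z : R ⊕ (Fin m ⊕ Fin m) → F := bv (place R m) (.inr r) with hz
  haveI : Unique R := ⟨⟨r⟩, fun a => Subsingleton.elim _ _⟩
  have hq : QF F R m z = 1 := by
    rw [hz, formOf_bv, Sum.elim_inr, sqP_apply]
    simp [Subsingleton.elim r default]
  refine ⟨[z], ?_, fun x => ?_, by simp, ?_⟩
  · intro v hv
    rw [List.mem_singleton.1 hv, hq]
    exact one_ne_zero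
  · rw [prodRf_cons, prodRf_nil, mul_one]
    change _ = refl (QF F R m) z x
    rw [refl_apply, hq, inv_one, one_mul, mt_rho, hz, polar_comm]
    have hp : polar (QF F R m) x (bv (place R m) (.inr r)) = 2 * x (.inl r) := by
      rw [polar, coe_QF, qv, qv, qv]
      simp [bv, dotProduct, Pi.single_apply, Subsingleton.elim r default]
      ring
    rw [hp]
    conv_lhs => rw [vec3_eta x, mk3_mulVec]
    funext y
    rcases y with y | y | y
    · simp [vec3, bv, Subsingleton.elim y default, Subsingleton.elim r default, Matrix.neg_mulVec]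
      ring
    · simp [vec3, bv]
    · simp [vec3, bv]
  · simp [hq]

theorem hasW_dg [Fintype F] [Subsingleton R] (hR : R → (2 : F) ≠ 0)
    (hc : Nat.card F ≠ 2 ∨ Fintype.card (R ⊕ (Fin m ⊕ Fin m)) ≠ 4) (A A' : Matrix (Fin m) (Fin m) F) (h : A * A' = 1) :
    HasW (dg A A' h : O F R m) 0 A.det := by
  classical
  have hA : A.det ≠ 0 := left_ne_zero_of_mul_eq_one (by rw [← Matrix.det_mul, h, Matrix.det_one])
  obtain ⟨vs, h1, h2, h3, h4⟩ := hasWord_of_det (QF_pnd F R m hR)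
    (by rwa [Module.finrank_fintype_fun_eq_card]) (hfam_formOf (place R m) (sqP F R)) A hA
  refine ⟨vs, h1, ?_, by simp [h2], h3⟩
  have hA' : A⁻¹ = A' := Matrix.inv_eq_right_inv h
  have hacts : Acts (QF F R m) (fun i => bv (place R m) (.inl (.inl i))) (fun i => bv (place R m) (.inl (.inr i))) A
      (Matrix.mulVecLin (mt (dg A A' h : O F R m))) := by
    refine ⟨fun i => ?_, fun i => ?_, fun x hx hy => ?_⟩
    · funext y
      rw [Matrix.mulVecLin_apply, bv, Matrix.mulVec_single_one, Matrix.col_apply, mt_dg, Finset.sum_apply]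
      rcases y with y | y | y <;> simp [mk3, bv, Pi.single_apply]
    · funext y
      rw [Matrix.mulVecLin_apply, bv, Matrix.mulVec_single_one, Matrix.col_apply, mt_dg, Finset.sum_apply, hA']
      rcases y with y | y | y <;> simp [mk3, bv, Pi.single_apply]
    · rw [Matrix.mulVecLin_apply, mt_dg]
      have hp : (fun i => x (.inr (.inl i))) = 0 := funext fun i => by
        have := hy i
        rw [(polar_bv_inl _ _ x i).2] at this
        simpa using this
      have hs : (fun i => x (.inr (.inr i))) = 0 := funext fun i => by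
        have := hx i
        rw [(polar_bv_inl _ _ x i).1] at this
        simpa using this
      conv_lhs => rw [vec3_eta x, mk3_mulVec, hp, hs]
      conv_rhs => rw [vec3_eta x, hp, hs]
      simp
  exact fun x => hacts.unique (hfam_formOf _ _) h4 x

theorem HasW.mem_iff [Fintype F] [Subsingleton R] (hR : R → (2 : F) ≠ 0) {g : O F R m} {n : ℕ} {c : F}
    (hc : c ≠ 0) (h : HasW g n c) : g ∈ Cfsg.Omega F (qv (F := F) (R := R) (m := m)) ↔ Even n ∧ IsSquare c := by
  obtain ⟨vs, h1, h2, h3, h4⟩ := h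
  rw [mem_omega (coe_QF F R m) (QF_pnd F R m hR) g vs h1 h2, h3]
  refine and_congr_right fun _ => ⟨fun hp => ?_, fun hs => ?_⟩
  · exact (isSquare_mul_iff hp (values_ne h1)).1 h4
  · rw [mul_comm] at h4
    exact (isSquare_mul_iff hs hc).1 h4

theorem up_mem_omega [Fintype F] (h4 : 4 ≤ Fintype.card F) (x : Matrix (Fin m) R F)
    (Y : Matrix (Fin m) (Fin m) F) (hY : IsAlt Y) :
    up hR x Y hY ∈ Cfsg.Omega F (qv (F := F) (R := R) (m := m)) := by
  obtain ⟨γ, hγ, hγ2⟩ := exists_sq_ne_one h4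
  have hγ1 : γ - 1 ≠ 0 := sub_ne_zero.2 fun e => hγ2 (by rw [e, one_mul])
  have hγγ : γ * γ - 1 ≠ 0 := sub_ne_zero.2 hγ2
  set D : O F R m := dg (γ • 1) (γ⁻¹ • 1)
    (by rw [Matrix.smul_mul, Matrix.mul_smul, smul_smul, mul_inv_cancel₀ hγ, one_smul, Matrix.one_mul]) with hD
  set u := up hR ((γ - 1)⁻¹ • x) ((γ * γ - 1)⁻¹ • Y) (hY.smul _) with hu
  have e : up hR x Y hY = D * u * D⁻¹ * u⁻¹ := by
    rw [hD, hu, up_conj, up_inv, up_mul]
    refine up_congr hR _ _ ?_ ?_
    · simp only [Matrix.smul_mul, Matrix.one_mul, smul_smul]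
      rw [← sub_eq_add_neg, ← sub_smul, ← sub_one_mul, mul_inv_cancel₀ hγ1, one_smul]
    · simp only [Matrix.smul_mul, Matrix.one_mul, Matrix.transpose_smul, Matrix.transpose_one, Matrix.mul_smul,
        Matrix.mul_one, Matrix.transpose_neg, Matrix.neg_mul, Matrix.mul_neg, smul_smul]
      match_scalars <;> first | linear_combination -(mul_inv_cancel₀ hγγ) | ring
  rw [e]
  exact Subgroup.commutator_mem_commutator (Subgroup.mem_top D) (Subgroup.mem_top u)

theorem lo_mem_omega [Fintype F] (h4 : 4 ≤ Fintype.card F) (x : Matrix (Fin m) R F)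
    (Y : Matrix (Fin m) (Fin m) F) (hY : IsAlt Y) :
    lo hR x Y hY ∈ Cfsg.Omega F (qv (F := F) (R := R) (m := m)) := by
  rw [lo]
  conv => arg 2; arg 2; rw [← sw_inv]
  exact Subgroup.Normal.conj_mem inferInstance _ (up_mem_omega hR h4 x Y hY) _

end Cfsg.Agent.Lie.ClassSq.Orth
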