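import Mathlib
import Cfsg.Agent.Lib.Lie.SLComm.Step
import Cfsg.Agent.Lib.Lie.ClassSquare.Moves
import Cfsg.Agent.Lib.Lie.ClassSquare.OrthGroup

/-!
A noncentral element of the orthogonal group has a conjugate in the big Siegel cell whose Levi part is
nonscalar of any prescribed square determinant.
-/

set_option autoImplicit false
set_option linter.unusedSectionVars false

namespace Cfsg.Agent.Lie.ClassSq.Orth

open Matrix

variable {F : Type*} [Field F] {R : Type} [Fintype R] [DecidableEq R] {m : ℕ}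

local notation "Ωs" => Cfsg.Omega F (qv (F := F) (R := R) (m := m))

theorem IsAlt.swap {n : Type*} [Fintype n] {M : Matrix n n F} (hM : IsAlt M) (p q : n → F) :
    p ⬝ᵥ (M *ᵥ q) = -(q ⬝ᵥ (M *ᵥ p)) := by
  have h := hM (p + q)
  rw [Matrix.mulVec_add, add_dotProduct, dotProduct_add, dotProduct_add, hM p, hM q] at h
  linear_combination h

/-- The middle block. -/
def bω (g : O F R m) : Matrix R R F := (mt g).submatrix Sum.inl Sum.inl
/-- A block. -/
def bE (g : O F R m) : Matrix R (Fin m) F := (mt g).submatrix Sum.inl (Sum.inr ∘ Sum.inl)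
/-- A block. -/
def bG (g : O F R m) : Matrix R (Fin m) F := (mt g).submatrix Sum.inl (Sum.inr ∘ Sum.inr)
/-- A block. -/
def bK (g : O F R m) : Matrix (Fin m) R F := (mt g).submatrix (Sum.inr ∘ Sum.inl) Sum.inl
/-- A block. -/
def bH (g : O F R m) : Matrix (Fin m) R F := (mt g).submatrix (Sum.inr ∘ Sum.inr) Sum.inl
/-- The Levi block. -/
def bA (g : O F R m) : Matrix (Fin m) (Fin m) F := (mt g).submatrix (Sum.inr ∘ Sum.inl) (Sum.inr ∘ Sum.inl)
/-- A block. -/
def bB (g : O F R m) : Matrix (Fin m) (Fin m) F := (mt g).submatrix (Sum.inr ∘ Sum.inl) (Sum.inr ∘ Sum.inr)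
/-- A block. -/
def bC (g : O F R m) : Matrix (Fin m) (Fin m) F := (mt g).submatrix (Sum.inr ∘ Sum.inr) (Sum.inr ∘ Sum.inl)
/-- A block. -/
def bD (g : O F R m) : Matrix (Fin m) (Fin m) F := (mt g).submatrix (Sum.inr ∘ Sum.inr) (Sum.inr ∘ Sum.inr)

theorem blocks_eq (g : O F R m) :
    mt g = mk3 (bω g) (bE g) (bG g) (bK g) (bA g) (bB g) (bH g) (bC g) (bD g) := by
  ext (i | i | i) (j | j | j) <;> rfl

theorem blocks_of_mk3 {g : O F R m} {ω : Matrix R R F} {E G : Matrix R (Fin m) F} {K H : Matrix (Fin m) R F}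
    {A B C D : Matrix (Fin m) (Fin m) F} (h : mt g = mk3 ω E G K A B H C D) :
    bω g = ω ∧ bE g = E ∧ bG g = G ∧ bK g = K ∧ bA g = A ∧ bB g = B ∧ bH g = H ∧ bC g = C ∧ bD g = D :=
  mk3_inj ((blocks_eq g).symm.trans h)

theorem rel (g : O F R m) :
    IsAlt ((bE g)ᵀ * bE g + (bA g)ᵀ * bC g) ∧ IsAlt ((bG g)ᵀ * bG g + (bB g)ᵀ * bD g) ∧
      (2 : F) • ((bE g)ᵀ * bG g) + (bA g)ᵀ * bD g + (bC g)ᵀ * bB g = 1 ∧
      (2 : F) • ((bω g)ᵀ * bE g) + (bK g)ᵀ * bC g + (bH g)ᵀ * bA g = 0 ∧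
      (2 : F) • ((bω g)ᵀ * bG g) + (bK g)ᵀ * bD g + (bH g)ᵀ * bB g = 0 ∧
      IsAlt ((bω g)ᵀ * bω g + (bK g)ᵀ * bH g - 1) :=
  relations _ _ _ _ _ _ _ _ _ fun v => by rw [← blocks_eq]; exact mt_iso g v

/-- An element killing the upper half of a vector kills the vector. -/
theorem eq_zero_of_blocks (g : O F R m) (v : Fin m → F) (hA : bA g *ᵥ v = 0) (hC : bC g *ᵥ v = 0)
    (hE : bE g *ᵥ v = 0) : v = 0 := by
  have h1 : mt g *ᵥ vec3 0 v 0 = 0 := by
    rw [blocks_eq g, mk3_mulVec, hA, hC, hE]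
    funext x
    rcases x with x | x | x <;> simp [vec3]
  have h2 : (mt (g⁻¹ * g)) *ᵥ vec3 0 v 0 = 0 := by
    rw [mt_mul, ← Matrix.mulVec_mulVec, h1, Matrix.mulVec_zero]
  rw [inv_mul_cancel, mt_one, Matrix.one_mulVec] at h2
  funext i
  exact congrFun h2 (.inr (.inl i))

variable (hR : R → (2 : F) ≠ 0)
include hR

theorem UO_le [Fintype F] (h4 : 4 ≤ Fintype.card F) : UO F R m hR ≤ Ωs := by
  rintro _ ⟨x, Y, hY, rfl⟩
  exact up_mem_omega hR h4 x Y hY

/-- Conjugation along the upper radical. -/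
theorem up_move (g : O F R m) (x : Matrix (Fin m) R F) (Y : Matrix (Fin m) (Fin m) F) (hY : IsAlt Y) :
    bA (up hR x Y hY * g * (up hR x Y hY)⁻¹) =
        bA g + x * bE g + (Y - ((hf : F) * hf) • (x * xᵀ)) * bC g ∧
      bC (up hR x Y hY * g * (up hR x Y hY)⁻¹) = bC g := by
  have e : mt (up hR x Y hY * g * (up hR x Y hY)⁻¹) = upM x Y * mt g * upM (-x) (-Y) := by
    rw [up_inv, mt_mul, mt_mul, mt_up, mt_up]
  rw [blocks_eq g, upM, upM, mk3_mul, mk3_mul] at e
  obtain ⟨-, -, -, -, hA, -, -, hC, -⟩ := blocks_of_mk3 e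
  refine ⟨?_, ?_⟩
  · rw [hA]
    simp only [Matrix.mul_zero, Matrix.mul_one, Matrix.one_mul, add_zero, zero_add]
    abel
  · rw [hC]
    simp

/-- A vector as a matrix with constant rows. -/
def col (w : Fin m → F) : Matrix (Fin m) R F := Matrix.of fun i _ => w i

omit hR in
theorem col_mul [Subsingleton R] {α : Type*} (r : R) (w : Fin m → F) (E : Matrix R α F) :
    (col w : Matrix (Fin m) R F) * E = Matrix.vecMulVec w (E r) := by
  haveI : Unique R := ⟨⟨r⟩, fun a => Subsingleton.elim _ _⟩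
  ext i j
  rw [Matrix.mul_apply, Fintype.sum_unique, Matrix.vecMulVec_apply, Subsingleton.elim r default]
  rfl

omit hR in
theorem col_mul_transpose [Subsingleton R] (r : R) (w : Fin m → F) :
    (col w : Matrix (Fin m) R F) * (col w : Matrix (Fin m) R F)ᵀ = Matrix.vecMulVec w w := by
  rw [col_mul r]
  rfl

theorem up_col [Subsingleton R] (r : R) (g : O F R m) (w : Fin m → F) :
    bA (up hR (col w) 0 isAlt_zero * g * (up hR (col w) 0 isAlt_zero)⁻¹) =
      bA g + Matrix.vecMulVec w (bE g r - ((hf : F) * hf) • (w ᵥ* bC g)) := by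
  rw [(up_move hR g _ _ _).1, col_mul_transpose r, col_mul r, zero_sub, Matrix.neg_mul, Matrix.smul_mul,
    Matrix.vecMulVec_mul, sub_eq_add_neg (bE g r), Matrix.vecMulVec_add, Matrix.vecMulVec_neg, Matrix.vecMulVec_smul,
    add_assoc]

theorem hf_ne (r : R) : (hf : F) ≠ 0 := inv_ne_zero (hR r)

/-- Factorisation along the Siegel parabolic. -/
theorem decompose [Subsingleton R] (g : O F R m) (A' : Matrix (Fin m) (Fin m) F) (h : bA g * A' = 1) :
    ∃ x Y hY y W hW, g = lo hR x Y hY * dg (bA g) A' h * up hR y W hW ∨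
      (Nonempty R ∧ g = lo hR x Y hY * (dg (bA g) A' h * rho) * up hR y W hW) := by
  classical
  have h' : A' * bA g = 1 := mul_eq_one_comm.1 h
  have hT : A'ᵀ * (bA g)ᵀ = 1 := by rw [← Matrix.transpose_mul, h, Matrix.transpose_one]
  obtain ⟨h1, -⟩ := rel g
  set A := bA g with hA
  set C := bC g with hC
  set E := bE g with hE
  set x : Matrix (Fin m) R F := -(2 : F) • (E * A')ᵀ with hx
  have hxT : xᵀ = -(2 : F) • (E * A') := by rw [hx, Matrix.transpose_smul, Matrix.transpose_transpose]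
  set Y : Matrix (Fin m) (Fin m) F := C * A' + ((hf : F) * hf) • (x * xᵀ) with hYdef
  have hY : IsAlt Y := by
    have h2 := h1.congr A'ᵀ
    rw [Matrix.transpose_transpose, Matrix.mul_add, Matrix.add_mul, ← Matrix.mul_assoc A'ᵀ Aᵀ, hT, Matrix.one_mul] at h2
    have e1 : ((hf : F) * hf) • (x * xᵀ) = A'ᵀ * (Eᵀ * E) * A' := by
      rw [hxT, hx, Matrix.smul_mul, Matrix.mul_smul, smul_smul, smul_smul, Matrix.transpose_mul]
      have e2 : A'ᵀ * Eᵀ * (E * A') = ((2 : F) * hf) • (A'ᵀ * Eᵀ * (E * A')) := (two_hf_mul hR _ _).symm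
      conv_rhs => rw [show A'ᵀ * (Eᵀ * E) * A' = A'ᵀ * Eᵀ * (E * A') by simp only [Matrix.mul_assoc], e2, e2, smul_smul]
      congr 1
      ring
    rw [hYdef, e1, add_comm]
    exact h2
  have hZ : Y - ((hf : F) * hf) • (x * xᵀ) = C * A' := by rw [hYdef, add_sub_cancel_right]
  -- clear the first column
  set g₁ := (lo hR x Y hY)⁻¹ * g with hg₁
  have hEx : bE g + (hf : F) • (xᵀ * A) = 0 := by
    rw [hxT, Matrix.smul_mul, Matrix.mul_assoc, h', Matrix.mul_one, smul_smul, ← hE,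
      show hf * -(2 : F) = -((2 : F) * hf) by ring, neg_smul, two_hf_smul hR, add_neg_cancel]
  have e₁ : mt g₁ = mt (lo hR (-x) (-Y) hY.neg) * mt g := by rw [hg₁, lo_inv, mt_mul]
  rw [mt_lo, blocks_eq g, mk3_mul] at e₁
  obtain ⟨-, hE₁, -, -, hA₁, -, -, hC₁, -⟩ := blocks_of_mk3 e₁
  have hE₁' : bE g₁ = 0 := by
    rw [hE₁, Matrix.transpose_neg]
    simp only [Matrix.one_mul, Matrix.zero_mul, add_zero, smul_neg, neg_smul, neg_neg, Matrix.smul_mul]
    exact hEx
  have hA₁' : bA g₁ = A := by rw [hA₁]; simp [hA]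
  have hC₁' : bC g₁ = 0 := by
    rw [hC₁]
    simp only [Matrix.one_mul, Matrix.transpose_neg, Matrix.neg_mul, Matrix.mul_neg, neg_neg, ← hC, ← hA]
    have e3 : x * E + (hf : F) • (x * xᵀ * A) = 0 := by
      have := congrArg (x * ·) hEx
      simp only [Matrix.mul_add, Matrix.mul_smul, Matrix.mul_zero] at this
      rw [Matrix.mul_assoc]
      exact this
    have e4 : Y * A = C + ((hf : F) * hf) • (x * xᵀ * A) := by
      rw [hYdef, Matrix.add_mul, Matrix.mul_assoc, h', Matrix.mul_one, Matrix.smul_mul]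
    have e5 : (hf : F) • (x * xᵀ * A) = (2 * (hf * hf) : F) • (x * xᵀ * A) := by
      conv_lhs => rw [← two_hf_mul hR x xᵀ, Matrix.smul_mul, smul_smul]
      congr 1
      ring
    rw [e5] at e3
    rw [Matrix.sub_mul, Matrix.neg_mul, e4, Matrix.smul_mul ((hf : F) * hf), ← hE]
    linear_combination (norm := module) -e3
  obtain ⟨-, r2, r3, r4, r5, r6⟩ := rel g₁
  rw [hE₁', hA₁', hC₁'] at r3 r4
  simp only [Matrix.mul_zero, Matrix.transpose_zero, Matrix.zero_mul, smul_zero, add_zero, zero_add] at r3 r4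
  have hH : bH g₁ = 0 := by
    have e := congrArg (· * A') r4
    simp only [Matrix.mul_assoc, h, Matrix.mul_one, Matrix.zero_mul] at e
    exact Matrix.transpose_eq_zero.1 e
  have hD : bD g₁ = A'ᵀ := by
    calc bD g₁ = A'ᵀ * (Aᵀ * bD g₁) := by rw [← Matrix.mul_assoc, hT, Matrix.one_mul]
      _ = _ := by rw [r3, Matrix.mul_one]
  rw [hH] at r5 r6
  simp only [Matrix.transpose_zero, Matrix.zero_mul, Matrix.mul_zero, add_zero, hD] at r2 r5 r6
  set ω := bω g₁ with hω
  set G := bG g₁ with hG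
  set K := bK g₁ with hK
  set B := bB g₁ with hB
  have hωω : ωᵀ * ω = 1 := by
    ext a b
    have h := r6.diag a
    rw [Matrix.sub_apply, sub_eq_zero] at h
    rwa [Subsingleton.elim b a]
  set y : Matrix (Fin m) R F := A' * K with hy
  have hGy : G = -(hf : F) • (ω * yᵀ) := by
    have h2 : (2 : F) • (ωᵀ * G) = -yᵀ := by
      rw [eq_neg_iff_add_eq_zero, hy, Matrix.transpose_mul]
      exact r5
    have h3 := congrArg (fun M => (hf : F) • (ω * M)) h2
    simp only [Matrix.mul_smul, ← Matrix.mul_assoc, mul_eq_one_comm.1 hωω, Matrix.one_mul, smul_smul,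
      mul_comm (hf : F) 2, two_hf_smul hR] at h3
    rw [h3, Matrix.mul_neg, smul_neg, neg_smul]
  set W : Matrix (Fin m) (Fin m) F := A' * B + ((hf : F) * hf) • (y * yᵀ) with hWdef
  have hW : IsAlt W := by
    have e : Gᵀ * G = ((hf : F) * hf) • (y * yᵀ) := by
      rw [hGy, Matrix.transpose_smul, Matrix.transpose_mul, Matrix.transpose_transpose, Matrix.smul_mul, Matrix.mul_smul,
        smul_smul, neg_mul_neg, Matrix.mul_assoc, ← Matrix.mul_assoc ωᵀ, hωω, Matrix.one_mul]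
    rw [e] at r2
    intro p
    have h2 := r2 p
    rw [Matrix.add_mulVec, dotProduct_add] at h2 ⊢
    have e2 : p ⬝ᵥ ((Bᵀ * A'ᵀ) *ᵥ p) = p ⬝ᵥ ((A' * B) *ᵥ p) := by
      rw [← Matrix.transpose_mul, ← dot_transpose, dotProduct_comm]
    rw [e2] at h2
    linear_combination h2
  have hg : g = lo hR x Y hY * g₁ := by rw [hg₁, mul_inv_cancel_left]
  have hAy : A * y = K := by rw [hy, ← Matrix.mul_assoc, h, Matrix.one_mul]
  have hAW : A * (W - ((hf : F) * hf) • (y * yᵀ)) = B := by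
    rw [hWdef, add_sub_cancel_right, ← Matrix.mul_assoc, h, Matrix.one_mul]
  refine ⟨x, Y, hY, y, W, hW, ?_⟩
  by_cases hω1 : ω = 1
  · left
    refine hg.trans (Eq.trans ?_ (mul_assoc _ _ _).symm)
    refine congrArg (lo hR x Y hY * ·) (mt_inj ?_)
    rw [blocks_eq g₁, hE₁', hA₁', hC₁', hH, hD, mt_mul, mt_dg, mt_up, upM, mk3_mul, ← hω, ← hG, ← hK, ← hB, hGy, hω1]
    simp [← hA, hAy, hAW]
  · right
    obtain ⟨r⟩ : Nonempty R := by
      by_contra hne
      exact hω1 (Matrix.ext fun a => absurd ⟨a⟩ hne)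
    refine ⟨⟨r⟩, ?_⟩
    have hω2 : ω = -1 := by
      haveI : Unique R := ⟨⟨r⟩, fun a => Subsingleton.elim _ _⟩
      have h := congrFun (congrFun hωω default) default
      rw [Matrix.mul_apply, Fintype.sum_unique, Matrix.transpose_apply, Matrix.one_apply_eq] at h
      rcases mul_self_eq_one_iff.1 h with h | h
      · exact absurd (Matrix.ext fun a b => by
          rw [Subsingleton.elim a default, Subsingleton.elim b default, h, Matrix.one_apply_eq]) hω1
      · exact Matrix.ext fun a b => by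
          rw [Subsingleton.elim a default, Subsingleton.elim b default, h, Matrix.neg_apply, Matrix.one_apply_eq]
    refine hg.trans (Eq.trans ?_ (mul_assoc _ _ _).symm)
    refine congrArg (lo hR x Y hY * ·) (mt_inj ?_)
    rw [blocks_eq g₁, hE₁', hA₁', hC₁', hH, hD, mt_mul, mt_mul, mt_dg, mt_rho, mt_up, upM, mk3_mul, mk3_mul,
      ← hω, ← hG, ← hK, ← hB, hGy, hω2]
    simp [← hA, hAy, hAW]

variable [Fintype F] [Subsingleton R]

/-- In the derived group the middle entry is one and the determinant of the Levi part is a square. -/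
theorem omega_decompose (h4 : 4 ≤ Fintype.card F) (g : O F R m) (hg : g ∈ Ωs) (A' : Matrix (Fin m) (Fin m) F)
    (h : bA g * A' = 1) :
    IsSquare (bA g).det ∧ ∃ x Y hY y W hW, g = lo hR x Y hY * dg (bA g) A' h * up hR y W hW := by
  have hc : Nat.card F ≠ 2 ∨ Fintype.card (R ⊕ (Fin m ⊕ Fin m)) ≠ 4 := Or.inl (by rw [Nat.card_eq_fintype_card]; omega)
  have hdet : (bA g).det ≠ 0 := left_ne_zero_of_mul_eq_one (by rw [← Matrix.det_mul, h, Matrix.det_one])
  obtain ⟨x, Y, hY, y, W, hW, e⟩ := decompose hR g A' h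
  have hmem : ∀ M : O F R m, g = lo hR x Y hY * M * up hR y W hW → M ∈ Ωs := fun M e => by
    have : M = (lo hR x Y hY)⁻¹ * g * (up hR y W hW)⁻¹ := by rw [e]; group
    rw [this]
    exact mul_mem (mul_mem (inv_mem (lo_mem_omega hR h4 _ _ _)) hg) (inv_mem (up_mem_omega hR h4 _ _ _))
  rcases e with e | ⟨⟨r⟩, e⟩
  · exact ⟨(((hasW_dg hR hc _ A' h).mem_iff hR hdet).1 (hmem _ e)).2, x, Y, hY, y, W, hW, e⟩
  · exfalso
    have := (((hasW_dg hR hc _ A' h).mul (hasW_rho hR r)).mem_iff hR (mul_ne_zero hdet one_ne_zero)).1 (hmem _ e)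
    simp at this

/-- Some conjugate along the upper radical has invertible Levi block. -/
theorem exists_invertible (h5 : 5 ≤ Fintype.card F) (g : O F R m) (hg : g ∈ Ωs) :
    ∃ z ∈ UO F R m hR, (bA (z * g * z⁻¹)).det ≠ 0 ∧ bC (z * g * z⁻¹) = bC g := by
  classical
  suffices h : ∀ (n : ℕ) (k : O F R m), k ∈ Ωs → bC k = bC g →
      Module.finrank F (LinearMap.ker (bA k).mulVecLin) ≤ n →
      ∃ z ∈ UO F R m hR, (bA (z * k * z⁻¹)).det ≠ 0 ∧ bC (z * k * z⁻¹) = bC g from h _ g hg rfl le_rfl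
  intro n
  induction n with
  | zero =>
    intro k hk hC hn
    refine ⟨1, one_mem _, fun h => ?_, by rw [one_mul, inv_one, mul_one, hC]⟩
    rw [one_mul, inv_one, mul_one] at h
    obtain ⟨v, hv0, hv⟩ := Matrix.exists_mulVec_eq_zero_iff.2 h
    have hb : LinearMap.ker (bA k).mulVecLin = ⊥ := Submodule.finrank_eq_zero.1 (Nat.le_zero.1 hn)
    exact hv0 ((Submodule.eq_bot_iff _).1 hb v hv)
  | succ n ih =>
    intro k hk hCk hn
    by_cases h : (bA k).det = 0
    swap
    · exact ⟨1, one_mem _, by rwa [one_mul, inv_one, mul_one], by rw [one_mul, inv_one, mul_one, hCk]⟩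
    obtain ⟨v, hv0, hv⟩ := Matrix.exists_mulVec_eq_zero_iff.2 h
    obtain ⟨h1, -⟩ := rel k
    -- it suffices to shrink the kernel
    suffices hstep : ∃ x Y hY, LinearMap.ker (bA (up hR x Y hY * k * (up hR x Y hY)⁻¹)).mulVecLin <
        LinearMap.ker (bA k).mulVecLin by
      obtain ⟨x, Y, hY, hlt⟩ := hstep
      have h2 := Submodule.finrank_lt_finrank_of_lt hlt
      have hu := up_mem_omega hR (by omega) x Y hY
      obtain ⟨z, hz, hd, hc⟩ := ih _ (mul_mem (mul_mem hu hk) (inv_mem hu))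
        (((up_move hR k x Y hY).2).trans hCk) (by omega)
      refine ⟨z * up hR x Y hY, mul_mem hz ⟨x, Y, hY, rfl⟩, ?_⟩
      rw [show z * up hR x Y hY * k * (z * up hR x Y hY)⁻¹ = z * (up hR x Y hY * k * (up hR x Y hY)⁻¹) * z⁻¹ by group]
      exact ⟨hd, hc⟩
    rcases isEmpty_or_nonempty R with hRe | ⟨⟨r⟩⟩
    · -- no middle coordinate
      have hE0 : bE k = 0 := Matrix.ext fun a => hRe.elim a
      rw [hE0, Matrix.mul_zero, zero_add] at h1
      have hperp : ∀ p q, bA k *ᵥ p = 0 → (bA k *ᵥ q) ⬝ᵥ (bC k *ᵥ p) = 0 := fun p q hp => by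
        rw [dot_mul, h1.swap, ← dot_mul, hp, zero_dotProduct, neg_zero]
      have hinj : ∀ p, bA k *ᵥ p = 0 → bC k *ᵥ p = 0 → p = 0 := fun p hp hq =>
        eq_zero_of_blocks k p hp hq (by rw [hE0, Matrix.zero_mulVec])
      by_cases hone : ∀ p, bA k *ᵥ p = 0 → ∃ c : F, p = c • v
      · exfalso
        obtain ⟨i, hi⟩ : ∃ i, (bC k *ᵥ v) i ≠ 0 := Function.ne_iff.1 fun e => hv0 (hinj v hv e)
        set k' : O F R m := sw {i} * k with hk'
        have e : mt k' = swM {i} * mt k := by rw [hk', mt_mul, mt_sw]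
        rw [blocks_eq k, swM, mk3_mul] at e
        obtain ⟨-, -, -, -, hA', -, -, -, -⟩ := blocks_of_mk3 e
        have hdet' : (bA k').det ≠ 0 := by
          intro h0
          obtain ⟨p, hp0, hp⟩ := Matrix.exists_mulVec_eq_zero_iff.2 h0
          rw [hA'] at hp
          simp only [Matrix.zero_mul, zero_add, Matrix.add_mulVec] at hp
          rw [← Matrix.mulVec_mulVec, ← Matrix.mulVec_mulVec] at hp
          have hl : ∀ l, l ≠ i → (bA k *ᵥ p) l = 0 := fun l hl => by
            have := congrFun hp l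
            rw [Pi.add_apply, Matrix.mulVec_diagonal, Matrix.mulVec_diagonal] at this
            simpa [hl] using this
          have hci : (bC k *ᵥ p) i = 0 := by
            have := congrFun hp i
            rw [Pi.add_apply, Matrix.mulVec_diagonal, Matrix.mulVec_diagonal] at this
            simpa using this
          have h2 := hperp v p hv
          rw [dotProduct, Finset.sum_eq_single i (fun l _ hl' => by rw [hl l hl', zero_mul]) (by simp)] at h2
          have hAp : bA k *ᵥ p = 0 := funext fun l => by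
            by_cases hli : l = i
            · subst hli; exact (mul_eq_zero.1 h2).resolve_right hi
            · exact hl l hli
          obtain ⟨c, rfl⟩ := hone p hAp
          rw [Matrix.mulVec_smul, Pi.smul_apply, smul_eq_mul] at hci
          exact hp0 (by rw [(mul_eq_zero.1 hci).resolve_right hi, zero_smul])
        obtain ⟨x, Y, hY, y, W, hW, e'⟩ := decompose hR k' _ (Matrix.mul_nonsing_inv _ hdet'.isUnit)
        rcases e' with e' | ⟨hne, -⟩
        swap
        · exact (not_nonempty_iff.2 hRe) hne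
        set M : O F R m := dg (bA k') (bA k')⁻¹ (Matrix.mul_nonsing_inv _ hdet'.isUnit) with hM
        have hmem : sw {i} * M ∈ Ωs := by
          have e2 : sw {i} * M = (sw {i} * (lo hR x Y hY)⁻¹ * (sw {i})⁻¹) * (k * (up hR y W hW)⁻¹) := by
            have : M = (lo hR x Y hY)⁻¹ * (sw {i} * k) * (up hR y W hW)⁻¹ := by rw [← hk', e']; group
            rw [this, sw_inv]
            group
          rw [e2]
          exact mul_mem (Subgroup.Normal.conj_mem inferInstance _ (inv_mem (lo_mem_omega hR (by omega) _ _ _)) _)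
            (mul_mem hk (inv_mem (up_mem_omega hR (by omega) _ _ _)))
        have hc : Nat.card F ≠ 2 ∨ Fintype.card (R ⊕ (Fin m ⊕ Fin m)) ≠ 4 :=
          Or.inl (by rw [Nat.card_eq_fintype_card]; omega)
        have := (((hasW_sw {i}).mul (hasW_dg hR hc _ _ (Matrix.mul_nonsing_inv _ hdet'.isUnit))).mem_iff hR
          (mul_ne_zero (pow_ne_zero _ (neg_ne_zero.2 one_ne_zero)) hdet')).1 hmem
        simp at this
      push Not at hone
      obtain ⟨v₂, hv₂, hindep⟩ := hone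
      set u := bC k *ᵥ v with hu
      set t := bC k *ᵥ v₂ with ht
      obtain ⟨i, j, hij⟩ : ∃ i j, u i * t j - u j * t i ≠ 0 := by
        by_contra hno
        push Not at hno
        obtain ⟨i, hi⟩ : ∃ i, u i ≠ 0 := Function.ne_iff.1 fun e => hv0 (hinj v hv e)
        refine hindep (t i / u i) (sub_eq_zero.1 (hinj _ ?_ ?_))
        · rw [Matrix.mulVec_sub, Matrix.mulVec_smul, hv, hv₂, smul_zero, sub_zero]
        · rw [Matrix.mulVec_sub, Matrix.mulVec_smul, ← hu, ← ht, sub_eq_zero]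
          funext j
          rw [Pi.smul_apply, smul_eq_mul, div_mul_eq_mul_div, eq_div_iff hi]
          linear_combination hno i j
      set Y : Matrix (Fin m) (Fin m) F :=
        Matrix.vecMulVec (Pi.single i 1) (Pi.single j 1) - Matrix.vecMulVec (Pi.single j 1) (Pi.single i 1) with hYdef
      have hY : IsAlt Y := isAlt_rows _ _
      refine ⟨0, Y, hY, ?_⟩
      have hmv : ∀ p, bA (up hR 0 Y hY * k * (up hR 0 Y hY)⁻¹) *ᵥ p =
          bA k *ᵥ p + ((bC k *ᵥ p) j • (Pi.single i 1 : Fin m → F) - (bC k *ᵥ p) i • (Pi.single j 1 : Fin m → F)) := by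
        intro p
        rw [(up_move hR k 0 Y hY).1]
        simp only [Matrix.zero_mul, add_zero, smul_zero, sub_zero, Matrix.add_mulVec, ← Matrix.mulVec_mulVec, hYdef,
          Matrix.sub_mulVec, Matrix.vecMulVec_mulVec]
        simp
      refine lt_of_le_of_ne (fun p hp => ?_) fun e => ?_
      · rw [LinearMap.mem_ker, Matrix.mulVecLin_apply, hmv] at hp
        rw [LinearMap.mem_ker, Matrix.mulVecLin_apply]
        have hd : ∀ w, bA k *ᵥ w = 0 →
            (bC k *ᵥ p) j * (bC k *ᵥ w) i - (bC k *ᵥ p) i * (bC k *ᵥ w) j = 0 := fun w hw => by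
          have h3 := congrArg (· ⬝ᵥ (bC k *ᵥ w)) hp
          simp only [add_dotProduct, sub_dotProduct, smul_dotProduct, single_dotProduct, one_mul, zero_dotProduct,
            smul_eq_mul, hperp w p hw, zero_add] at h3
          exact h3
        have a := hd v hv
        have b := hd v₂ hv₂
        rw [← hu] at a
        rw [← ht] at b
        have hj : (bC k *ᵥ p) j = 0 :=
          (mul_eq_zero.1 (show (u i * t j - u j * t i) * (bC k *ᵥ p) j = 0 by
            linear_combination t j * a - u j * b)).resolve_left hij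
        have hi : (bC k *ᵥ p) i = 0 :=
          (mul_eq_zero.1 (show (u i * t j - u j * t i) * (bC k *ᵥ p) i = 0 by
            linear_combination t i * a - u i * b)).resolve_left hij
        rwa [hi, hj, zero_smul, zero_smul, sub_zero, add_zero] at hp
      · have hmem : v ∈ LinearMap.ker (bA (up hR 0 Y hY * k * (up hR 0 Y hY)⁻¹)).mulVecLin :=
          e ▸ (show v ∈ LinearMap.ker (bA k).mulVecLin from hv)
        rw [LinearMap.mem_ker, Matrix.mulVecLin_apply, hmv, hv, zero_add, ← hu] at hmem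
        have hne : i ≠ j := fun e => hij (by rw [e]; ring)
        have hi := congrFun hmem i
        have hj := congrFun hmem j
        simp [hne, Ne.symm hne] at hi hj
        exact hij (by rw [hi, hj]; ring)
    -- a middle coordinate
    have hEv : bE k *ᵥ v = 0 := by
      have h2 := h1 v
      rw [Matrix.add_mulVec, dotProduct_add, ← dot_mul, ← dot_mul, hv, zero_dotProduct, add_zero] at h2
      haveI : Unique R := ⟨⟨r⟩, fun a => Subsingleton.elim _ _⟩
      funext a
      rw [dotProduct, Fintype.sum_unique] at h2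
      rw [Subsingleton.elim a default]
      exact mul_self_eq_zero.1 h2
    have hCv : bC k *ᵥ v ≠ 0 := fun e => hv0 (eq_zero_of_blocks k v hv e hEv)
    let H : Submodule F (Fin m → F) :=
      LinearMap.ker ((Matrix.of fun (_ : Fin 1) => bC k *ᵥ v).mulVecLin)
    have hH : H ≠ ⊤ := fun e => hCv (funext fun i => by
      have h1 : (Pi.single i (1 : F)) ∈ H := e ▸ Submodule.mem_top
      rw [LinearMap.mem_ker] at h1
      simpa [Matrix.mulVec] using congrFun h1 0)
    have hAr : LinearMap.range (bA k).mulVecLin ≠ ⊤ := fun e => hv0 (by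
      have hinj := LinearMap.injective_iff_surjective.2 (LinearMap.range_eq_top.1 e)
      exact hinj (by simpa using hv))
    obtain ⟨w, hw⟩ := Cfsg.Agent.Lie.SLComm.exists_not_mem [H, LinearMap.range (bA k).mulVecLin] (by simp; omega)
      (by simp [hH, hAr])
    have hwH : w ⬝ᵥ (bC k *ᵥ v) ≠ 0 := fun e => hw H (by simp) (by
      rw [LinearMap.mem_ker]; ext i
      rw [Matrix.mulVecLin_apply]
      simp only [Matrix.mulVec, Matrix.of_apply, Pi.zero_apply]
      rw [dotProduct_comm]; exact e)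
    have hwR : w ∉ LinearMap.range (bA k).mulVecLin := hw _ (by simp)
    refine ⟨col w, 0, isAlt_zero, ?_⟩
    rw [up_col hR r]
    set φ := bE k r - ((hf : F) * hf) • (w ᵥ* bC k) with hφ
    have hmv : ∀ p, (bA k + Matrix.vecMulVec w φ) *ᵥ p = bA k *ᵥ p + (φ ⬝ᵥ p) • w := fun p => by
      rw [Matrix.add_mulVec, Matrix.vecMulVec_mulVec]
      simp
    refine lt_of_le_of_ne (fun p hp => ?_) fun e => ?_
    · rw [LinearMap.mem_ker, Matrix.mulVecLin_apply, hmv] at hp
      rw [LinearMap.mem_ker, Matrix.mulVecLin_apply]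
      by_cases h0 : φ ⬝ᵥ p = 0
      · rwa [h0, zero_smul, add_zero] at hp
      · refine absurd ⟨-(φ ⬝ᵥ p)⁻¹ • p, ?_⟩ hwR
        rw [Matrix.mulVecLin_apply, Matrix.mulVec_smul, eq_neg_of_add_eq_zero_left hp, neg_smul, smul_neg,
          neg_neg, smul_smul, inv_mul_cancel₀ h0, one_smul]
    · have hmem : v ∈ LinearMap.ker (bA k + Matrix.vecMulVec w φ).mulVecLin :=
        e ▸ (show v ∈ LinearMap.ker (bA k).mulVecLin from hv)
      rw [LinearMap.mem_ker, Matrix.mulVecLin_apply, hmv, hv, zero_add, smul_eq_zero] at hmem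
      refine hmem.elim (fun h0 => ?_) fun e => hwR (e ▸ zero_mem _)
      rw [hφ, sub_dotProduct, smul_dotProduct, ← Matrix.dotProduct_mulVec,
        show bE k r ⬝ᵥ v = 0 from congrFun hEv r, smul_eq_mul, zero_sub, neg_eq_zero] at h0
      exact hwH ((mul_eq_zero.1 h0).resolve_left (mul_ne_zero (hf_ne hR r) (hf_ne hR r)))

/-- A rank two update. -/
theorem up_two (k : O F R m) (hE : bE k = 0) (a b : Fin m → F) :
    ∃ z ∈ UO F R m hR, bA (z * k * z⁻¹) = bA k * (1 + (Matrix.vecMulVec a (b ᵥ* ((bA k)ᵀ * bC k)) +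
        Matrix.vecMulVec b (-(a ᵥ* ((bA k)ᵀ * bC k))))) ∧
      (bA (z * k * z⁻¹)).det = (bA k).det * (1 + b ⬝ᵥ (((bA k)ᵀ * bC k) *ᵥ a)) ^ 2 := by
  obtain ⟨h1, -⟩ := rel k
  rw [hE, Matrix.mul_zero, zero_add] at h1
  set A := bA k with hA
  set W := Aᵀ * bC k with hW
  have hY := (isAlt_rows a b).congr A
  refine ⟨_, ⟨0, _, hY, rfl⟩, ?_⟩
  have e : bA (up hR 0 _ hY * k * (up hR 0 _ hY)⁻¹) =
      A * (1 + (Matrix.vecMulVec a (b ᵥ* W) + Matrix.vecMulVec b (-(a ᵥ* W)))) := by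
    rw [(up_move hR k 0 _ hY).1, ← hA, Matrix.zero_mul, add_zero, Matrix.zero_mul, smul_zero, sub_zero]
    rw [Matrix.vecMulVec_neg, ← sub_eq_add_neg, ← Matrix.vecMulVec_mul, ← Matrix.vecMulVec_mul, hW, ← Matrix.sub_mul,
      Matrix.mul_add, Matrix.mul_one]
    simp only [Matrix.mul_assoc]
  refine ⟨e, ?_⟩
  rw [e, Matrix.det_mul, det_update_two, ← Matrix.dotProduct_mulVec, neg_dotProduct, ← Matrix.dotProduct_mulVec,
    neg_dotProduct, ← Matrix.dotProduct_mulVec, ← Matrix.dotProduct_mulVec, h1 a, h1 b, h1.swap a b]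
  ring

/-- A rank one update. -/
theorem up_one (r : R) (k : O F R m) (a : Fin m → F) :
    ∃ z ∈ UO F R m hR, bA (z * k * z⁻¹) =
        bA k * (1 + Matrix.vecMulVec a (bE k r - ((hf : F) * hf) • ((bA k *ᵥ a) ᵥ* bC k))) ∧
      (bA (z * k * z⁻¹)).det = (bA k).det * (1 + hf * (bE k r ⬝ᵥ a)) ^ 2 := by
  obtain ⟨h1, -⟩ := rel k
  refine ⟨_, ⟨col (bA k *ᵥ a), 0, isAlt_zero, rfl⟩, ?_⟩
  have e := up_col hR r k (bA k *ᵥ a)
  have e' : bA (up hR (col (bA k *ᵥ a)) 0 isAlt_zero * k * (up hR (col (bA k *ᵥ a)) 0 isAlt_zero)⁻¹) =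
      bA k * (1 + Matrix.vecMulVec a (bE k r - ((hf : F) * hf) • ((bA k *ᵥ a) ᵥ* bC k))) := by
    rw [e, Matrix.mul_add, Matrix.mul_one, Matrix.mul_vecMulVec]
  refine ⟨e', ?_⟩
  have h2 := h1 a
  haveI : Unique R := ⟨⟨r⟩, fun a => Subsingleton.elim _ _⟩
  have h3 : (bE k *ᵥ a) ⬝ᵥ (bE k *ᵥ a) = (bE k r ⬝ᵥ a) * (bE k r ⬝ᵥ a) := by
    rw [dotProduct, Fintype.sum_unique, Subsingleton.elim r default]
    rfl
  rw [Matrix.add_mulVec, dotProduct_add, ← dot_mul, ← dot_mul, h3] at h2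
  rw [e', Matrix.det_mul, det_update_one, sub_dotProduct, smul_dotProduct, ← Matrix.dotProduct_mulVec, smul_eq_mul]
  linear_combination -(bA k).det * (hf * hf) * h2 - (bA k).det * (bE k r ⬝ᵥ a) * two_hf hR r

/-- The determinant can be changed by any nonzero square, keeping it off the scalars. -/
theorem good_of_C (hm : 3 ≤ m) (k : O F R m) (hA : (bA k).det ≠ 0) (hC : bC k ≠ 0) (s : F) (hs : s ≠ 0) :
    ∃ z ∈ UO F R m hR, (bA (z * k * z⁻¹)).det = (bA k).det * s ^ 2 ∧ ∀ μ : F, bA (z * k * z⁻¹) ≠ μ • 1 := by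
  classical
  have hW0 : ∀ l : O F R m, (bA l).det ≠ 0 → bC l ≠ 0 → ∃ i j, ((bA l)ᵀ * bC l) i j ≠ 0 := by
    intro l hl hl'
    by_contra hno
    push Not at hno
    refine hl' ?_
    calc bC l = ((bA l)ᵀ)⁻¹ * ((bA l)ᵀ * bC l) := by
          rw [← Matrix.mul_assoc, Matrix.nonsing_inv_mul _ (by rw [Matrix.det_transpose]; exact hl.isUnit),
            Matrix.one_mul]
      _ = 0 := by rw [show (bA l)ᵀ * bC l = 0 from Matrix.ext hno, Matrix.mul_zero]
  -- the determinant
  obtain ⟨z₁, hz₁, hd₁, hC₁⟩ : ∃ z ∈ UO F R m hR, (bA (z * k * z⁻¹)).det = (bA k).det * s ^ 2 ∧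
      bC (z * k * z⁻¹) = bC k := by
    have hmove : ∀ z ∈ UO F R m hR, bC (z * k * z⁻¹) = bC k := by
      rintro _ ⟨x, Y, hY, rfl⟩
      exact (up_move hR k x Y hY).2
    by_cases hE : bE k = 0
    · obtain ⟨i, j, hij⟩ := hW0 k hA hC
      obtain ⟨z, hz, -, hd⟩ := up_two hR k hE (Pi.single j 1) (((s - 1) / ((bA k)ᵀ * bC k) i j) • Pi.single i 1)
      refine ⟨z, hz, ?_, hmove z hz⟩
      rw [hd]
      simp [hij]
    · obtain ⟨r, j, hrj⟩ : ∃ r j, bE k r j ≠ 0 := by
        by_contra hno; push Not at hno; exact hE (Matrix.ext hno)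
      obtain ⟨z, hz, -, hd⟩ := up_one hR r k (((s - 1) / (hf * bE k r j)) • Pi.single j 1)
      refine ⟨z, hz, ?_, hmove z hz⟩
      rw [hd]
      have hne : (hf : F) * bE k r j ≠ 0 := mul_ne_zero (hf_ne hR r) hrj
      simp only [dotProduct_smul, dotProduct_single, mul_one, smul_eq_mul]
      rw [show hf * ((s - 1) / (hf * bE k r j) * bE k r j) = (s - 1) / (hf * bE k r j) * (hf * bE k r j) by ring,
        div_mul_cancel₀ _ hne, add_sub_cancel]
  by_cases hns : ∀ μ : F, bA (z₁ * k * z₁⁻¹) ≠ μ • 1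
  · exact ⟨z₁, hz₁, hd₁, hns⟩
  push Not at hns
  obtain ⟨μ, hμ⟩ := hns
  set l := z₁ * k * z₁⁻¹ with hl
  have hm0 : Nonempty (Fin m) := ⟨⟨0, by omega⟩⟩
  have hld : (bA l).det ≠ 0 := by rw [hd₁]; exact mul_ne_zero hA (pow_ne_zero _ hs)
  have hμ0 : μ ≠ 0 := fun e => hld (by rw [hμ, e, zero_smul, Matrix.det_zero])
  have fin : ∀ z ∈ UO F R m hR, (bA (z * l * z⁻¹)).det = (bA l).det →
      (∀ ν : F, bA (z * l * z⁻¹) ≠ ν • 1) →
      ∃ z ∈ UO F R m hR, (bA (z * k * z⁻¹)).det = (bA k).det * s ^ 2 ∧ ∀ μ : F, bA (z * k * z⁻¹) ≠ μ • 1 := by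
    intro z hz hd hn
    refine ⟨z * z₁, mul_mem hz hz₁, ?_⟩
    rw [show z * z₁ * k * (z * z₁)⁻¹ = z * l * z⁻¹ by rw [hl]; group]
    exact ⟨hd.trans hd₁, hn⟩
  by_cases hE : bE l = 0
  · obtain ⟨i, j, hij⟩ := hW0 l hld (by rw [hC₁]; exact hC)
    obtain ⟨h1, -⟩ := rel l
    rw [hE, Matrix.mul_zero, zero_add] at h1
    set W := (bA l)ᵀ * bC l with hW
    have hne : i ≠ j := fun e => hij (by rw [e]; exact h1.diag j)
    obtain ⟨c, hc, hci, hcj⟩ : ∃ c : Fin m, c ∈ (Finset.univ : Finset (Fin m)) ∧ c ≠ i ∧ c ≠ j := by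
      obtain ⟨c, hc⟩ := Finset.exists_mem_notMem_of_card_lt_card (s := ({i, j} : Finset (Fin m))) (t := Finset.univ)
        (lt_of_le_of_lt Finset.card_le_two (by simp; omega))
      exact ⟨c, hc.1, fun e => hc.2 (by simp [e]), fun e => hc.2 (by simp [e])⟩
    have hji : W j i ≠ 0 := by rw [h1.skew i j]; exact neg_ne_zero.2 hij
    obtain ⟨z, hz, hA', hd⟩ := up_two hR l hE (Pi.single i 1)
      (W j i • Pi.single c 1 - W c i • Pi.single j 1)
    rw [← hW] at hA' hd
    refine fin z hz ?_ fun ν e => ?_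
    · rw [hd]
      simp [sub_dotProduct]
      ring
    · rw [hA', hμ, Matrix.smul_mul, Matrix.one_mul] at e
      have h := congrFun (congrFun e c) j
      simp [Matrix.vecMulVec_apply, hci, hcj, hμ0] at h
      exact h.elim hji hij
  · obtain ⟨r, j, hrj⟩ : ∃ r j, bE l r j ≠ 0 := by
      by_contra hno; push Not at hno; exact hE (Matrix.ext hno)
    haveI : Nontrivial (Fin m) := Fin.nontrivial_iff_two_le.2 (by omega)
    obtain ⟨c, hc⟩ := exists_ne j
    set a : Fin m → F := bE l r j • Pi.single c 1 - bE l r c • Pi.single j 1 with ha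
    have ha0 : a ≠ 0 := fun e => hrj (by simpa [ha, hc, Ne.symm hc] using congrFun e c)
    have hea : bE l r ⬝ᵥ a = 0 := by
      simp [ha, dotProduct_sub]
      ring
    have hea' : bE l r ⬝ᵥ (-a) = 0 := by rw [dotProduct_neg, hea, neg_zero]
    obtain ⟨z, hz, hA', hd⟩ := up_one hR r l a
    obtain ⟨z', hz', hA'', hd'⟩ := up_one hR r l (-a)
    rw [hea, mul_zero, add_zero, one_pow, mul_one] at hd
    rw [hea', mul_zero, add_zero, one_pow, mul_one] at hd'
    set p := bE l r - ((hf : F) * hf) • ((bA l *ᵥ a) ᵥ* bC l) with hp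
    set p' := bE l r - ((hf : F) * hf) • ((bA l *ᵥ (-a)) ᵥ* bC l) with hp'
    have hns : ∀ (b q : Fin m → F), b ≠ 0 → q ≠ 0 → ∀ ν : F, bA l * (1 + Matrix.vecMulVec b q) ≠ ν • 1 := by
      intro b q hb hq ν e
      rw [hμ, Matrix.smul_mul, Matrix.one_mul, smul_add, ← Matrix.smul_vecMulVec] at e
      exact update_not_scalar (by omega) (smul_ne_zero hμ0 hb) hq μ ν e
    by_cases hp0 : p = 0
    · refine fin z' hz' hd' fun ν => ?_
      rw [hA'']
      refine hns _ _ (neg_ne_zero.2 ha0) (fun hq => hrj ?_) ν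
      have h2 : (2 : F) • bE l r = p + p' := by
        rw [hp, hp', Matrix.mulVec_neg, Matrix.neg_vecMul]; module
      rw [hp0, hq, add_zero] at h2
      have := congrFun h2 j
      simpa [hR r] using this
    · refine fin z hz hd fun ν => ?_
      rw [hA']
      exact hns _ _ ha0 hp0 ν

set_option maxHeartbeats 1000000 in
/-- The normalisation of a noncentral element. -/
theorem exists_good (h5 : 5 ≤ Fintype.card F) (hm : 3 ≤ m) (g : O F R m) (hg : g ∈ Ωs)
    (hns : ∀ μ : F, mt g ≠ μ • 1) (δ : F) (hδ : δ ≠ 0) (hsq : IsSquare δ) :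
    ∃ z ∈ Ωs, (bA (z * g * z⁻¹)).det = δ ∧ ∀ μ : F, bA (z * g * z⁻¹) ≠ μ • 1 := by
  classical
  have hU := UO_le (m := m) hR (show 4 ≤ Fintype.card F by omega)
  -- finish from a nonzero lower left block
  have useC : ∀ z ∈ Ωs, bC (z * g * z⁻¹) ≠ 0 →
      ∃ z ∈ Ωs, (bA (z * g * z⁻¹)).det = δ ∧ ∀ μ : F, bA (z * g * z⁻¹) ≠ μ • 1 := by
    intro z hz hC
    have hk : z * g * z⁻¹ ∈ Ωs := mul_mem (mul_mem hz hg) (inv_mem hz)
    obtain ⟨z₁, hz₁, hd₁, hC₁⟩ := exists_invertible hR h5 _ hk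
    set l := z₁ * (z * g * z⁻¹) * z₁⁻¹ with hl
    have hlm : l ∈ Ωs := mul_mem (mul_mem (hU hz₁) hk) (inv_mem (hU hz₁))
    obtain ⟨d, hd⟩ := (omega_decompose hR (by omega) l hlm _ (Matrix.mul_nonsing_inv _ hd₁.isUnit)).1
    obtain ⟨t, ht⟩ := hsq
    have hd0 : d ≠ 0 := fun e => hd₁ (by rw [hd, e, mul_zero])
    have ht0 : t ≠ 0 := fun e => hδ (by rw [ht, e, mul_zero])
    obtain ⟨z₂, hz₂, hd₂, hn₂⟩ := good_of_C hR hm l hd₁ (by rw [hC₁]; exact hC) (t / d) (div_ne_zero ht0 hd0)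
    refine ⟨z₂ * z₁ * z, mul_mem (mul_mem (hU hz₂) (hU hz₁)) hz, ?_⟩
    rw [show z₂ * z₁ * z * g * (z₂ * z₁ * z)⁻¹ = z₂ * l * z₂⁻¹ by rw [hl]; group]
    refine ⟨?_, hn₂⟩
    rw [hd₂, hd, ht]
    field_simp
  obtain ⟨z₀, hz₀, hd₀, -⟩ := exists_invertible hR h5 g hg
  have hz₀' := hU hz₀
  set k := z₀ * g * z₀⁻¹ with hk
  by_cases hC : bC k ≠ 0
  · exact useC z₀ hz₀' hC
  push Not at hC
  have hkm : k ∈ Ωs := mul_mem (mul_mem hz₀' hg) (inv_mem hz₀')
  obtain ⟨A', hA'⟩ : ∃ A', bA k * A' = 1 := ⟨_, Matrix.mul_nonsing_inv _ hd₀.isUnit⟩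
  obtain ⟨r1, r2, r3, r4, r5, -⟩ := rel k
  have hE : bE k = 0 := by
    ext r j
    have h := r1 (Pi.single j 1)
    rw [hC, Matrix.mul_zero, add_zero, ← dot_mul, Matrix.mulVec_single_one] at h
    haveI : Unique R := ⟨⟨r⟩, fun a => Subsingleton.elim _ _⟩
    rw [dotProduct, Fintype.sum_unique, mul_self_eq_zero] at h
    rw [Subsingleton.elim r default, Matrix.zero_apply]
    exact h
  rw [hC, hE] at r3 r4
  simp only [Matrix.mul_zero, Matrix.transpose_zero, Matrix.zero_mul, smul_zero, add_zero, zero_add] at r3 r4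
  have hH : bH k = 0 := by
    have e := congrArg (· * A') r4
    simp only [Matrix.mul_assoc, hA', Matrix.mul_one, Matrix.zero_mul] at e
    exact Matrix.transpose_eq_zero.1 e
  have hω : bω k = 1 := by
    obtain ⟨-, x, Y, hY, y, W, hW, e⟩ := omega_decompose hR (by omega) k hkm A' hA'
    have e' : mt k = mt (lo hR x Y hY) * mt (dg (bA k) A' hA') * mt (up hR y W hW) := by
      rw [← mt_mul, ← mt_mul, ← e]
    rw [mt_lo, mt_dg, mt_up, upM, mk3_mul, mk3_mul] at e'
    obtain ⟨hω, hE', -⟩ := blocks_of_mk3 e'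
    rw [hω]
    simp only [Matrix.one_mul, Matrix.mul_one, Matrix.mul_zero, Matrix.zero_mul, add_zero, zero_add] at hE' ⊢
    rw [hE] at hE'
    rw [← hE']
    simp
  set A := bA k with hAdef
  -- lower moves
  have hmove : ∀ x Y hY, bC (lo hR x Y hY * k * (lo hR x Y hY)⁻¹) =
      (x + (Y - ((hf : F) * hf) • (x * xᵀ)) * bK k) * ((hf : F) • xᵀ) +
        (Y - ((hf : F) * hf) • (x * xᵀ)) * A +
        (x * bG k + (Y - ((hf : F) * hf) • (x * xᵀ)) * bB k + bD k) * (-Y - ((hf : F) * hf) • (x * xᵀ)) := by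
    intro x Y hY
    have e : mt (lo hR x Y hY * k * (lo hR x Y hY)⁻¹) = mt (lo hR x Y hY) * mt k * mt (lo hR (-x) (-Y) hY.neg) := by
      rw [lo_inv, mt_mul, mt_mul]
    rw [mt_lo, mt_lo, blocks_eq k, hC, hE, hH, hω, ← hAdef, mk3_mul, mk3_mul] at e
    obtain ⟨-, -, -, -, -, -, -, hC', -⟩ := blocks_of_mk3 e
    rw [hC']
    simp only [Matrix.one_mul, Matrix.mul_one, Matrix.mul_zero, Matrix.zero_mul, add_zero, zero_add,
      Matrix.transpose_neg, Matrix.neg_mul, Matrix.mul_neg, neg_neg, smul_neg, neg_smul]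
  have hlo : ∀ x Y hY, lo hR x Y hY * z₀ ∈ Ωs ∧
      lo hR x Y hY * z₀ * g * (lo hR x Y hY * z₀)⁻¹ = lo hR x Y hY * k * (lo hR x Y hY)⁻¹ := fun x Y hY =>
    ⟨mul_mem (lo_mem_omega hR (by omega) _ _ _) hz₀', by rw [hk]; group⟩
  by_cases hex : ∃ x Y hY, bC (lo hR x Y hY * k * (lo hR x Y hY)⁻¹) ≠ 0
  · obtain ⟨x, Y, hY, hne⟩ := hex
    exact useC _ (hlo x Y hY).1 (by rw [(hlo x Y hY).2]; exact hne)
  push Not at hex
  exfalso
  set B := bB k with hB
  set D := bD k with hD
  obtain ⟨t, ht⟩ := exists_avoid ({0, 1} : Finset F) (lt_of_le_of_lt Finset.card_le_two (by omega))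
  simp only [Finset.mem_insert, Finset.mem_singleton, not_or] at ht
  have hY0 : ∀ Y, IsAlt Y → Y * A = D * Y ∧ Y * B * Y = 0 := by
    intro Y hY
    have key : ∀ c : F, c • (Y * A - D * Y) - (c * c) • (Y * B * Y) = 0 := fun c => by
      have h := (hmove 0 (c • Y) (hY.smul c)).symm.trans (hex 0 (c • Y) (hY.smul c))
      simp only [Matrix.zero_mul, Matrix.mul_zero, Matrix.transpose_zero, smul_zero, add_zero, zero_add, sub_zero,
        Matrix.smul_mul, Matrix.mul_smul, Matrix.mul_neg, Matrix.add_mul, Matrix.mul_assoc] at h ⊢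
      linear_combination (norm := module) h
    have h1 := key 1
    have h2 := key t
    rw [one_smul, one_mul, one_smul, sub_eq_zero] at h1
    rw [h1, ← sub_smul, smul_eq_zero] at h2
    have hB0 : Y * B * Y = 0 := h2.resolve_left fun e => by
      rcases mul_eq_zero.1 (show t * (1 - t) = 0 by linear_combination e) with h | h
      · exact ht.1 h
      · exact ht.2 (sub_eq_zero.1 h).symm
    exact ⟨sub_eq_zero.1 (h1.trans hB0), hB0⟩
  -- the blocks are scalar
  have hDA : ∀ i j, i ≠ j → ∀ b, A j b = if b = j then D i i else 0 := by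
    intro i j hij b
    have h := congrFun (congrFun (hY0 _ (isAlt_rows (Pi.single i 1) (Pi.single j 1))).1 i) b
    rw [Matrix.sub_mul, Matrix.mul_sub, Matrix.vecMulVec_mul, Matrix.vecMulVec_mul, Matrix.mul_vecMulVec,
      Matrix.mul_vecMulVec, Matrix.mulVec_single_one, Matrix.mulVec_single_one, Matrix.sub_apply, Matrix.sub_apply] at h
    simp [Matrix.vecMulVec_apply, hij] at h
    rw [h]
    split_ifs with hb
    · subst hb; simp [Ne.symm hij]
    · by_cases hbi : b = i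
      · subst hbi
        have h2 := congrFun (congrFun (hY0 _ (isAlt_rows (Pi.single b 1) (Pi.single j 1))).1 b) b
        have h3 := congrFun (congrFun (hY0 _ (isAlt_rows (Pi.single b 1) (Pi.single j 1))).1 j) j
        rw [Matrix.sub_mul, Matrix.mul_sub, Matrix.vecMulVec_mul, Matrix.vecMulVec_mul, Matrix.mul_vecMulVec,
          Matrix.mul_vecMulVec, Matrix.mulVec_single_one, Matrix.mulVec_single_one, Matrix.sub_apply, Matrix.sub_apply] at h3
        obtain ⟨c, hc⟩ := Finset.exists_mem_notMem_of_card_lt_card (s := ({b, j} : Finset (Fin m)))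
          (t := Finset.univ) (lt_of_le_of_lt Finset.card_le_two (by simp; omega))
        have hcb : c ≠ b := fun e => hc.2 (by simp [e])
        have hcj : c ≠ j := fun e => hc.2 (by simp [e])
        have h4 := congrFun (congrFun (hY0 _ (isAlt_rows (Pi.single c 1) (Pi.single j 1))).1 b) c
        rw [Matrix.sub_mul, Matrix.mul_sub, Matrix.vecMulVec_mul, Matrix.vecMulVec_mul, Matrix.mul_vecMulVec,
          Matrix.mul_vecMulVec, Matrix.mulVec_single_one, Matrix.mulVec_single_one, Matrix.sub_apply, Matrix.sub_apply] at h4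
        simp [Matrix.vecMulVec_apply, hij, hcb, Ne.symm hcb, hcj] at h4
        simp [hij, h4]
      · simp [hb, hbi]
  obtain ⟨μ, hμA, hμD⟩ : ∃ μ, A = μ • 1 ∧ ∀ i, D i i = μ := by
    haveI : Nontrivial (Fin m) := Fin.nontrivial_iff_two_le.2 (by omega)
    let i₀ : Fin m := ⟨0, by omega⟩
    have hall : ∀ i j, i ≠ j → A j j = D i i := fun i j hij => by rw [hDA i j hij j, if_pos rfl]
    have hsame : ∀ i, D i i = D i₀ i₀ := fun i => by
      obtain ⟨c, hc⟩ := Finset.exists_mem_notMem_of_card_lt_card (s := ({i, i₀} : Finset (Fin m))) (t := Finset.univ)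
        (lt_of_le_of_lt Finset.card_le_two (by simp; omega))
      rw [← hall i c (fun e => hc.2 (by simp [e])), ← hall i₀ c (fun e => hc.2 (by simp [e]))]
    refine ⟨D i₀ i₀, Matrix.ext fun j b => ?_, hsame⟩
    obtain ⟨i, hi⟩ := exists_ne j
    rw [hDA i j hi b, hsame]
    simp [Matrix.one_apply, eq_comm]
  have hμ0 : μ ≠ 0 := fun e => hd₀ (by
    rw [hμA, e, zero_smul]; haveI : Nonempty (Fin m) := ⟨⟨0, by omega⟩⟩; exact Matrix.det_zero)
  have hμD' : D = μ⁻¹ • 1 := by
    rw [hμA, Matrix.transpose_smul, Matrix.transpose_one, Matrix.smul_mul, Matrix.one_mul] at r3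
    rw [← r3, smul_smul, inv_mul_cancel₀ hμ0, one_smul]
  have hμ2 : μ⁻¹ = μ := by
    have := hμD ⟨0, by omega⟩
    simpa [hμD'] using this
  rw [hμ2] at hμD'
  have hB0 : B = 0 := by
    ext j b
    obtain ⟨i, hij, hib⟩ : ∃ i, i ≠ j ∧ i ≠ b := by
      obtain ⟨c, hc⟩ := Finset.exists_mem_notMem_of_card_lt_card (s := ({j, b} : Finset (Fin m))) (t := Finset.univ)
        (lt_of_le_of_lt Finset.card_le_two (by simp; omega))
      exact ⟨c, fun e => hc.2 (by simp [e]), fun e => hc.2 (by simp [e])⟩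
    by_cases hjb : j = b
    · subst hjb
      have h := congrFun (congrFun (hY0 _ (isAlt_rows (Pi.single i 1) (Pi.single j 1))).2 i) i
      rw [Matrix.sub_mul, Matrix.vecMulVec_mul, Matrix.vecMulVec_mul, Matrix.mul_sub, Matrix.sub_mul, Matrix.sub_mul,
        Matrix.vecMulVec_mul_vecMulVec, Matrix.vecMulVec_mul_vecMulVec, Matrix.vecMulVec_mul_vecMulVec,
        Matrix.vecMulVec_mul_vecMulVec] at h
      simp [Matrix.vecMulVec_apply, hij, Ne.symm hij] at h
      simpa using h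
    · have h := congrFun (congrFun (hY0 _ (isAlt_rows (Pi.single b 1) (Pi.single j 1))).2 b) j
      rw [Matrix.sub_mul, Matrix.vecMulVec_mul, Matrix.vecMulVec_mul, Matrix.mul_sub, Matrix.sub_mul, Matrix.sub_mul,
        Matrix.vecMulVec_mul_vecMulVec, Matrix.vecMulVec_mul_vecMulVec, Matrix.vecMulVec_mul_vecMulVec,
        Matrix.vecMulVec_mul_vecMulVec] at h
      simp [Matrix.vecMulVec_apply, hjb, Ne.symm hjb] at h
      simpa using h
  have hG0 : bG k = 0 := by
    rw [hB0, Matrix.transpose_zero, Matrix.zero_mul, add_zero] at r2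
    ext r j
    have h := r2 (Pi.single j 1)
    rw [← dot_mul, Matrix.mulVec_single_one] at h
    haveI : Unique R := ⟨⟨r⟩, fun a => Subsingleton.elim _ _⟩
    rw [dotProduct, Fintype.sum_unique, mul_self_eq_zero] at h
    rw [Subsingleton.elim r default, Matrix.zero_apply]
    exact h
  have hK0 : bK k = 0 := by
    rw [hG0, hH, hμD'] at r5
    simp [hμ0] at r5
    exact r5
  have hkval : mt k = mk3 1 0 0 0 (μ • 1) 0 0 0 (μ • 1) := by
    rw [blocks_eq k, hω, hE, hG0, hK0, ← hAdef, hμA, ← hB, hB0, hH, hC, ← hD, hμD']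
  have hconj : mt g = mt z₀⁻¹ * mt k * mt z₀ := by
    rw [← mt_mul, ← mt_mul, hk]; congr 1; group
  have hcentral : ∀ ν : F, mt k = ν • 1 → False := fun ν e => hns ν (by
    rw [hconj, e, Matrix.mul_smul, Matrix.mul_one, Matrix.smul_mul, ← mt_mul, inv_mul_cancel, mt_one])
  rcases mul_self_eq_one_iff.1 (show μ * μ = 1 by
      conv_lhs => arg 1; rw [← hμ2]
      exact inv_mul_cancel₀ hμ0) with h | h
  · refine hcentral 1 ?_
    rw [hkval, h, one_smul, one_smul, mk3_one]
  · rcases isEmpty_or_nonempty R with hRe | ⟨⟨r⟩⟩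
    · refine hcentral μ ?_
      rw [hkval, show (1 : Matrix R R F) = μ • 1 from Matrix.ext fun a => hRe.elim a, mk3_smul]
    · let i₀ : Fin m := ⟨0, by omega⟩
      have hc := (hmove (col (Pi.single i₀ 1)) 0 isAlt_zero).symm.trans (hex (col (Pi.single i₀ 1)) 0 isAlt_zero)
      rw [hK0, hG0, hB0, hμD', hμA, h] at hc
      simp only [Matrix.mul_zero, add_zero, zero_add, zero_sub, neg_zero, Matrix.mul_smul, Matrix.smul_mul,
        Matrix.mul_one, Matrix.one_mul, col_mul_transpose r, smul_neg, neg_smul, neg_neg, one_smul] at hc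
      have h2 := congrFun (congrFun hc i₀) i₀
      simp [Matrix.vecMulVec_apply] at h2
      have e : (hf : F) + hf * hf + hf * hf = 1 := by linear_combination (1 + (hf : F)) * two_hf hR r
      rw [e] at h2
      exact one_ne_zero h2

end Cfsg.Agent.Lie.ClassSq.Orth
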