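import Mathlib
import Cfsg.Prelude.Def_Classical
import Cfsg.Agent.Lib.Lie.ClassSquare.Field
import Cfsg.Agent.Lib.Lie.ClassSquare.OrthMoves

/-!
The split projective orthogonal groups over fields with at least nine elements are squares of a conjugacy class.
-/

set_option autoImplicit false
set_option linter.unusedSectionVars false

namespace Cfsg.Agent.Lie.ClassSq.Orth

open Matrix Cfsg.Agent.Lie.SLComm

section Linear

variable {F : Type*} [Field F] {n : ℕ}

local notation "SLn" => Matrix.SpecialLinearGroup (Fin n) F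

theorem sl_mul_inv (P : SLn) :
    (P : Matrix (Fin n) (Fin n) F) * ((P⁻¹ : SLn) : Matrix (Fin n) (Fin n) F) = 1 := by
  rw [← Matrix.SpecialLinearGroup.coe_mul, mul_inv_cancel, Matrix.SpecialLinearGroup.coe_one]

theorem sl_inv_mul (P : SLn) :
    ((P⁻¹ : SLn) : Matrix (Fin n) (Fin n) F) * (P : Matrix (Fin n) (Fin n) F) = 1 :=
  mul_eq_one_comm.1 (sl_mul_inv P)

/-- Conjugates of inverse matrices. -/
theorem conj_inverse {K K' : Matrix (Fin n) (Fin n) F} (h : K * K' = 1) (P : SLn) :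
    ((P : Matrix (Fin n) (Fin n) F) * K * (P⁻¹ : SLn)) * ((P : Matrix (Fin n) (Fin n) F) * K' * (P⁻¹ : SLn)) = 1 := by
  calc _ = (P : Matrix (Fin n) (Fin n) F) * (K * ((P⁻¹ : SLn) * (P : Matrix (Fin n) (Fin n) F)) * K') * (P⁻¹ : SLn) := by
        simp only [Matrix.mul_assoc]
    _ = _ := by rw [sl_inv_mul, Matrix.mul_one, h, Matrix.mul_one, sl_mul_inv]

theorem inv_transpose_conj {K K' : Matrix (Fin n) (Fin n) F} (h : K * K' = 1) (P : SLn)
    (e : Kᵀ = (P : Matrix (Fin n) (Fin n) F) * K * (P⁻¹ : SLn)) :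
    K'ᵀ = (P : Matrix (Fin n) (Fin n) F) * K' * (P⁻¹ : SLn) := by
  have h1 : K'ᵀ * Kᵀ = 1 := by rw [← Matrix.transpose_mul, h, Matrix.transpose_one]
  exact left_inv_eq_right_inv h1 (by rw [e]; exact conj_inverse h P)

theorem blk_transpose {a : F} (B : Matrix (Fin n) (Fin n) F) : (blk a 0 0 B)ᵀ = blk a 0 0 Bᵀ := by
  ext i j
  refine Fin.cases ?_ (fun i' => ?_) i <;> refine Fin.cases ?_ (fun j' => ?_) j <;> simp

theorem smul_blk (b a : F) (B : Matrix (Fin n) (Fin n) F) : b • blk a 0 0 B = blk (b * a) 0 0 (b • B) := by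
  ext i j
  refine Fin.cases ?_ (fun i' => ?_) i <;> refine Fin.cases ?_ (fun j' => ?_) j <;> simp

/-- Similarity to a block sum can be taken of determinant one. -/
theorem ssim_blk {S : Matrix (Fin n) (Fin n) F} {X : Matrix (Fin (n + 1)) (Fin (n + 1)) F} {x : F}
    (h : Sim X (blk x 0 0 S)) : SSim X (blk x 0 0 S) := by
  obtain ⟨P, Q, hPQ, hQP, e⟩ := h
  have hd : P.det * Q.det = 1 := by rw [← Matrix.det_mul, hPQ, Matrix.det_one]
  have hP : P.det ≠ 0 := left_ne_zero_of_mul_eq_one hd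
  let D : Matrix (Fin (n + 1)) (Fin (n + 1)) F := blk P.det⁻¹ 0 0 1
  let D' : Matrix (Fin (n + 1)) (Fin (n + 1)) F := blk P.det 0 0 1
  have hDD : D * D' = 1 := by simp [D, D', blk_mul, inv_mul_cancel₀ hP, blk_one]
  have hdet : (P * D).det = 1 := by
    rw [Matrix.det_mul, blk_det_lower, Matrix.det_one, mul_one, mul_inv_cancel₀ hP]
  refine ⟨⟨P * D, hdet⟩, ?_⟩
  have hinv : P * D * (D' * Q) = 1 := by
    rw [Matrix.mul_assoc P D, ← Matrix.mul_assoc D, hDD, Matrix.one_mul, hPQ]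
  have hi : ((⟨P * D, hdet⟩⁻¹ : Matrix.SpecialLinearGroup (Fin (n + 1)) F) :
      Matrix (Fin (n + 1)) (Fin (n + 1)) F) = D' * Q :=
    left_inv_eq_right_inv (sl_inv_mul (n := n + 1) (⟨P * D, hdet⟩ : Matrix.SpecialLinearGroup (Fin (n + 1)) F)) hinv
  rw [hi, e]
  have hcomm : D * blk x 0 0 S = blk x 0 0 S * D := by simp [D, blk_mul, mul_comm]
  symm
  calc P * D * blk x 0 0 S * (D' * Q) = P * (D * blk x 0 0 S) * D' * Q := by simp only [Matrix.mul_assoc]
    _ = P * (blk x 0 0 S * D) * D' * Q := by rw [hcomm]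
    _ = P * blk x 0 0 S * (D * D') * Q := by simp only [Matrix.mul_assoc]
    _ = _ := by rw [hDD, Matrix.mul_one]

variable [Fintype F]

/-- A basis with corner one and nonscalar complement. -/
theorem exists_pivot (h4 : 4 ≤ Fintype.card F) (hn : 2 ≤ n) (A : Matrix (Fin (n + 1)) (Fin (n + 1)) F)
    (hA : A.det ≠ 0) (hns : ∀ μ : F, A ≠ μ • 1) :
    ∃ (P Q : Matrix (Fin (n + 1)) (Fin (n + 1)) F) (r c : Fin n → F) (S : Matrix (Fin n) (Fin n) F),
      P * Q = 1 ∧ Q * P = 1 ∧ Q * A * P = blk 1 r c (Matrix.vecMulVec c r + S) ∧ S.det = A.det ∧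
        ∀ μ : F, S ≠ μ • 1 := by
  classical
  -- a first vector which is no eigenvector
  have hns' : ∀ a : F, A.mulVecLin ≠ a • LinearMap.id := fun a h => hns a (Matrix.ext_of_mulVec_single fun i => by
    have h1 := LinearMap.congr_fun h (Pi.single i (1 : F))
    rw [Matrix.mulVecLin_apply] at h1
    rw [h1]
    ext l
    simp [Matrix.smul_mulVec, Matrix.one_apply, Pi.single_apply])
  obtain ⟨e, he, -, heig⟩ := exists_not_eigen h4 A.mulVecLin hns' ⊥ ⊥ bot_ne_top bot_ne_top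
  have he0 : e ≠ 0 := fun h => he (by rw [h]; exact zero_mem _)
  obtain ⟨i, hi⟩ := Function.ne_iff.1 he0
  rw [Pi.zero_apply] at hi
  set u : Fin (n + 1) → F := A *ᵥ e - ((A *ᵥ e) i / e i) • e with hu
  obtain ⟨j, hj⟩ : ∃ j, u j ≠ 0 := Function.ne_iff.1 fun h => heig ((A *ᵥ e) i / e i) (by
    rw [Matrix.mulVecLin_apply]; exact sub_eq_zero.1 h)
  set β : F := (1 - (A *ᵥ e) i / e i) / u j with hβ
  set φ : Fin (n + 1) → F := ((1 - β * e j) / e i) • Pi.single i 1 + β • Pi.single j 1 with hφ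
  have hφe : φ ⬝ᵥ e = 1 := by
    simp [hφ, add_dotProduct, smul_dotProduct]
    field_simp
    ring
  have hφA : φ ⬝ᵥ (A *ᵥ e) = 1 := by
    have hb : β * u j = 1 - (A *ᵥ e) i / e i := div_mul_cancel₀ _ hj
    simp [hφ, add_dotProduct, smul_dotProduct]
    rw [hu, Pi.sub_apply, Pi.smul_apply, smul_eq_mul] at hb
    rw [div_mul_eq_mul_div, mul_div_assoc]
    linear_combination hb
  obtain ⟨P, Q, hPQ, hQP, hP0, hQ0⟩ := exists_basis_matrix e φ hφe
  set M := Q * A * P with hM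
  have hM00 : M 0 0 = 1 := by
    rw [← hφA, hM, Matrix.mul_assoc]
    simp only [Matrix.mul_apply, dotProduct, Matrix.mulVec, hP0, hQ0]
  set r : Fin n → F := fun j => M 0 j.succ with hr
  set c : Fin n → F := fun i => M i.succ 0 with hc
  set S : Matrix (Fin n) (Fin n) F := Matrix.of (fun i j => M i.succ j.succ) - Matrix.vecMulVec c r with hS
  have hMb : M = blk 1 r c (Matrix.vecMulVec c r + S) := by
    rw [hS, add_sub_cancel]
    conv_lhs => rw [eq_blk M, hM00]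
  have hdet : ∀ (r c : Fin n → F) (S : Matrix (Fin n) (Fin n) F) (M : Matrix (Fin (n + 1)) (Fin (n + 1)) F),
      M = blk 1 r c (Matrix.vecMulVec c r + S) → M.det = S.det := by
    intro r c S M e
    rw [e, show blk 1 r c (Matrix.vecMulVec c r + S) = blk 1 0 c 1 * blk 1 r 0 S by simp [blk_mul],
      Matrix.det_mul, blk_det_lower, blk_det_upper, Matrix.det_one]
    simp
  have hMdet : M.det = A.det := by
    rw [hM, Matrix.det_mul, Matrix.det_mul, mul_comm Q.det, mul_assoc, ← Matrix.det_mul, hQP, Matrix.det_one, mul_one]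
  by_cases hsc : ∀ μ : F, S ≠ μ • 1
  · exact ⟨P, Q, r, c, S, hPQ, hQP, hMb, (hdet r c S M hMb).symm.trans hMdet, hsc⟩
  push Not at hsc
  obtain ⟨μ, hμ⟩ := hsc
  haveI : Nontrivial (Fin n) := Fin.nontrivial_iff_two_le.2 hn
  have hμ0 : μ ≠ 0 := fun h => hA (by
    rw [← hMdet, hdet r c S M hMb, hμ, h, zero_smul, Matrix.det_zero])
  have hc0 : c ≠ 0 := by
    intro h
    refine heig 1 ?_
    rw [Matrix.mulVecLin_apply, one_smul]
    have hcol : Q *ᵥ (A *ᵥ e) = Q *ᵥ e := by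
      funext l
      refine Fin.cases ?_ (fun l' => ?_) l
      · simp only [Matrix.mulVec, hQ0]
        exact hφA.trans hφe.symm
      · have h1 : M l'.succ 0 = 0 := congrFun h l'
        have h2 : (Q * P) l'.succ 0 = 0 := by rw [hQP]; simp [Matrix.one_apply]
        rw [hM, Matrix.mul_assoc] at h1
        simp only [Matrix.mul_apply, hP0] at h1 h2
        simp only [Matrix.mulVec, dotProduct]
        rw [h1, h2]
    have := congrArg (P *ᵥ ·) hcol
    simpa [Matrix.mulVec_mulVec, ← Matrix.mul_assoc, hPQ] using this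
  obtain ⟨p, hp⟩ := Function.ne_iff.1 hc0
  rw [Pi.zero_apply] at hp
  obtain ⟨l, hl⟩ := exists_ne p
  set t : Fin n → F := c p • Pi.single l 1 - c l • Pi.single p 1 with ht
  have ht0 : t ≠ 0 := fun h => hp (by simpa [ht, hl] using congrFun h l)
  have htc : t ⬝ᵥ c = 0 := by simp [ht, sub_dotProduct, smul_dotProduct]; ring
  set T : Matrix (Fin (n + 1)) (Fin (n + 1)) F := blk 1 t 0 1 with hT
  set T' : Matrix (Fin (n + 1)) (Fin (n + 1)) F := blk 1 (-t) 0 1 with hT'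
  have hTT : T * T' = 1 := by simp [hT, hT', blk_mul, blk_one]
  refine ⟨P * T', T * Q, r + μ • t - t, c, μ • 1 + Matrix.vecMulVec c (-(μ • t)), ?_, ?_, ?_, ?_, ?_⟩
  · rw [Matrix.mul_assoc, ← Matrix.mul_assoc T', mul_eq_one_comm.1 hTT, Matrix.one_mul, hPQ]
  · rw [Matrix.mul_assoc, ← Matrix.mul_assoc Q, hQP, Matrix.one_mul, hTT]
  · have e1 : T * Q * A * (P * T') = T * M * T' := by rw [hM]; simp only [Matrix.mul_assoc]
    rw [e1, hMb, hT, hT', blk_mul, blk_mul, hμ]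
    simp only [one_mul, htc, add_zero, Matrix.one_mul, Matrix.mul_one, Matrix.vecMul_one, one_smul, zero_dotProduct,
      dotProduct_zero, Matrix.mulVec_zero, Matrix.zero_vecMulVec, zero_add, smul_zero, Matrix.vecMul_add, Matrix.vecMul_smul,
      Matrix.vecMul_vecMulVec, zero_smul, Matrix.one_mulVec]
    congr 1
    · abel
    · simp only [Matrix.vecMulVec_add, Matrix.vecMulVec_neg, Matrix.vecMulVec_sub, Matrix.vecMulVec_smul]
      module
  · rw [← hMdet, hdet r c S M hMb, hμ,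
      show μ • (1 : Matrix (Fin n) (Fin n) F) + Matrix.vecMulVec c (-(μ • t)) = μ • (1 + Matrix.vecMulVec c (-t)) by
        rw [smul_add, ← Matrix.vecMulVec_smul, smul_neg],
      Matrix.det_smul, det_update_one, neg_dotProduct, htc, neg_zero, add_zero, mul_one, Matrix.det_smul, Matrix.det_one,
      mul_one]
  · exact fun ν => update_not_scalar hn hc0 (neg_ne_zero.2 (smul_ne_zero hμ0 ht0)) μ ν

/-- The factorisation for the block class. -/
theorem exists_two_blk {k : ℕ} (h4 : 4 ≤ Fintype.card F) {a b : F} (ha : a ≠ 0) (ha2 : a * a ≠ 1) (hb : b ≠ 0)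
    (hfree : ∀ i, b * canβ k a i ≠ 1) (A : Matrix (Fin (k + 2 + 1)) (Fin (k + 2 + 1)) F)
    (hA : A.det = (b * b) ^ (k + 2)) (hns : ∀ μ : F, A ≠ μ • 1) :
    ∃ P R : Matrix.SpecialLinearGroup (Fin (k + 2 + 1)) F,
      A = ((P : Matrix (Fin (k + 2 + 1)) (Fin (k + 2 + 1)) F) * blk 1 0 0 (b • canM k a) * (P⁻¹ : Matrix.SpecialLinearGroup (Fin (k + 2 + 1)) F)) *
        ((R : Matrix (Fin (k + 2 + 1)) (Fin (k + 2 + 1)) F) * blk 1 0 0 (b • canM k a) * (R⁻¹ : Matrix.SpecialLinearGroup (Fin (k + 2 + 1)) F)) := by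
  have hbb : b * b ≠ 0 := mul_ne_zero hb hb
  obtain ⟨T, T', r, c, S, hTT, hT'T, e, hd, hS⟩ := exists_pivot h4 (by omega) A
    (by rw [hA]; exact pow_ne_zero _ hbb) hns
  obtain ⟨P, R, hS2⟩ := exists_two_scaled h4 ha ha2 hb S (by rw [hd, hA]) (fun μ h => absurd h (hS μ))
  set S₁ := (P : Matrix (Fin (k + 2)) (Fin (k + 2)) F) * (b • canM k a) * (P⁻¹ : Matrix.SpecialLinearGroup (Fin (k + 2)) F)
  set S₂ := (R : Matrix (Fin (k + 2)) (Fin (k + 2)) F) * (b • canM k a) * (R⁻¹ : Matrix.SpecialLinearGroup (Fin (k + 2)) F)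
  have hu : ∀ Z : Matrix.SpecialLinearGroup (Fin (k + 2)) F, IsUnit ((Z : Matrix (Fin (k + 2)) (Fin (k + 2)) F) *
      (b • canM k a) * (Z⁻¹ : Matrix.SpecialLinearGroup (Fin (k + 2)) F) - (1 : F) • 1).det := by
    intro Z
    rw [one_smul, ← sl_mul_inv Z,
      show (Z : Matrix (Fin (k + 2)) (Fin (k + 2)) F) * (b • canM k a) * (Z⁻¹ : Matrix.SpecialLinearGroup (Fin (k + 2)) F) -
        (Z : Matrix (Fin (k + 2)) (Fin (k + 2)) F) * (Z⁻¹ : Matrix.SpecialLinearGroup (Fin (k + 2)) F) =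
        (Z : Matrix (Fin (k + 2)) (Fin (k + 2)) F) * (b • canM k a - 1) * (Z⁻¹ : Matrix.SpecialLinearGroup (Fin (k + 2)) F) by
        rw [Matrix.mul_sub, Matrix.sub_mul, Matrix.mul_one],
      Matrix.det_mul, Matrix.det_mul, Matrix.SpecialLinearGroup.det_coe, Matrix.SpecialLinearGroup.det_coe, one_mul,
      mul_one, Matrix.det_of_lowerTriangular]
    · refine (Finset.prod_ne_zero_iff.2 fun i _ => ?_).isUnit
      rw [Matrix.sub_apply, Matrix.smul_apply, Matrix.one_apply_eq, canM_diag, smul_eq_mul]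
      exact sub_ne_zero.2 (hfree i)
    · intro i j hij
      have h' : i < j := hij
      rw [Matrix.sub_apply, Matrix.smul_apply, canM_upper k a i j h', Matrix.one_apply_ne h'.ne, smul_zero, sub_zero]
  have hK : ∀ Z : Matrix.SpecialLinearGroup (Fin (k + 2)) F, Sim (blk (1 : F) 0 0 ((Z : Matrix (Fin (k + 2)) (Fin (k + 2)) F) *
      (b • canM k a) * ((Z⁻¹ : Matrix.SpecialLinearGroup (Fin (k + 2)) F) : Matrix (Fin (k + 2)) (Fin (k + 2)) F))) (blk 1 0 0 (b • canM k a)) :=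
    fun Z => Sim.blk 1 ⟨_, _, sl_mul_inv Z, sl_inv_mul Z, rfl⟩
  have h1 : SSim (T * blk 1 0 c S₁ * T') (blk 1 0 0 (b • canM k a)) :=
    ssim_blk (Sim.trans ⟨T, T', hTT, hT'T, rfl⟩ (Sim.trans (sim_peel_lower 1 c S₁ (hu P)) (hK P)))
  have h2 : SSim (T * blk 1 r 0 S₂ * T') (blk 1 0 0 (b • canM k a)) :=
    ssim_blk (Sim.trans ⟨T, T', hTT, hT'T, rfl⟩ (Sim.trans (sim_peel_upper 1 r S₂ (hu R)) (hK R)))
  obtain ⟨P', hP'⟩ := h1
  obtain ⟨R', hR'⟩ := h2
  refine ⟨P', R', ?_⟩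
  rw [← hP', ← hR']
  calc A = T * T' * A * (T * T') := by rw [hTT, Matrix.one_mul, Matrix.mul_one]
    _ = T * (T' * A * T) * T' := by simp only [Matrix.mul_assoc]
    _ = T * (blk 1 0 c S₁ * (T' * T) * blk 1 r 0 S₂) * T' := by
        rw [e, hT'T, Matrix.mul_one, hS2, blk_mul]
        simp
    _ = _ := by simp only [Matrix.mul_assoc]

end Linear

section Group

variable {F : Type*} [Field F] [Fintype F] {R : Type} [Fintype R] [DecidableEq R] [Subsingleton R] {m : ℕ}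
  (hR : R → (2 : F) ≠ 0)
include hR

local notation "Ωs" => Cfsg.Omega F (qv (F := F) (R := R) (m := m))

/-- The lower radical. -/
def VO : Subgroup (O F R m) := (UO F R m hR).map (MulAut.conj (sw Finset.univ)).toMonoidHom

theorem mem_VO {g : O F R m} : g ∈ VO hR ↔ ∃ x Y hY, g = lo hR x Y hY := by
  rw [VO, Subgroup.mem_map]
  constructor
  · rintro ⟨_, ⟨x, Y, hY, rfl⟩, rfl⟩
    exact ⟨x, Y, hY, by simp [lo, MulAut.conj_apply, sw_inv]⟩
  · rintro ⟨x, Y, hY, rfl⟩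
    exact ⟨_, ⟨x, Y, hY, rfl⟩, by simp [lo, MulAut.conj_apply, sw_inv]⟩

theorem lo_conj (A A' : Matrix (Fin m) (Fin m) F) (h : A * A' = 1) (x : Matrix (Fin m) R F)
    (Y : Matrix (Fin m) (Fin m) F) (hY : IsAlt Y) :
    dg A A' h * lo hR x Y hY * (dg A A' h)⁻¹ =
      lo hR (A'ᵀ * x) (A'ᵀ * Y * A'ᵀᵀ) (hY.congr A'ᵀ) := by
  have hT : A'ᵀ * Aᵀ = 1 := by rw [← Matrix.transpose_mul, h, Matrix.transpose_one]
  set s : O F R m := sw Finset.univ with hs
  have hss : s * s = 1 := sw_mul_self _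
  have hsi : s⁻¹ = s := sw_inv _
  have e : dg A A' h = s * dg A'ᵀ Aᵀ hT * s := by
    rw [← sw_dg A A' h, ← hs, show s * (s * dg A A' h * s) * s = s * s * dg A A' h * (s * s) by group, hss, one_mul, mul_one]
  rw [lo, lo, ← hs, ← up_conj hR A'ᵀ Aᵀ hT x Y hY, e, _root_.mul_inv_rev, _root_.mul_inv_rev, hsi]
  rw [show s * dg A'ᵀ Aᵀ hT * s * (s * up hR x Y hY * s) * (s * ((dg A'ᵀ Aᵀ hT)⁻¹ * s)) =
    s * dg A'ᵀ Aᵀ hT * (s * s) * up hR x Y hY * (s * s) * (dg A'ᵀ Aᵀ hT)⁻¹ * s by group, hss]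
  group

theorem up_inj {x x' : Matrix (Fin m) R F} {Y Y' : Matrix (Fin m) (Fin m) F} {hY : IsAlt Y} {hY' : IsAlt Y'}
    (h : up hR x Y hY = up hR x' Y' hY') : x = x' ∧ Y = Y' := by
  have h' := congrArg mt h
  rw [mt_up, mt_up, upM, upM] at h'
  obtain ⟨-, -, -, hx, -, hY0, -⟩ := mk3_inj h'
  refine ⟨hx, ?_⟩
  rw [hx] at hY0
  exact sub_left_inj.1 hY0

/-- The criterion. -/
theorem hasSquare_of_class (h9 : 9 ≤ Fintype.card F) (hm : 3 ≤ m) (K K' : Matrix (Fin m) (Fin m) F) (hKK : K * K' = 1)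
    (hlow : ∀ i j, i < j → K i j = 0) (hpair : ∀ i j, i ≠ j → K i i * K j j ≠ 1) (hone : R → ∀ i, K i i ≠ 1)
    (hsq : IsSquare K.det)
    (hsplit : ∀ A : Matrix (Fin m) (Fin m) F, A.det = K.det * K.det → (∀ μ : F, A ≠ μ • 1) →
      ∃ P Q : Matrix.SpecialLinearGroup (Fin m) F,
        A = ((P : Matrix (Fin m) (Fin m) F) * K * (P⁻¹ : Matrix.SpecialLinearGroup (Fin m) F)) *
          ((Q : Matrix (Fin m) (Fin m) F) * K * (Q⁻¹ : Matrix.SpecialLinearGroup (Fin m) F)))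
    (w : O F R m) (hw : w ∈ Ωs)
    (hwc : w * dg K K' hKK * w⁻¹ = dg K'ᵀ Kᵀ (by rw [← Matrix.transpose_mul, hKK, Matrix.transpose_one]))
    (Q₀ : Matrix.SpecialLinearGroup (Fin m) F)
    (hQ₀ : Kᵀ = (Q₀ : Matrix (Fin m) (Fin m) F) * K * (Q₀⁻¹ : Matrix.SpecialLinearGroup (Fin m) F)) :
    HasSquare (Cfsg.POmega F (qv (F := F) (R := R) (m := m))) := by
  classical
  have h4 : 4 ≤ Fintype.card F := by omega
  have hc : Nat.card F ≠ 2 ∨ Fintype.card (R ⊕ (Fin m ⊕ Fin m)) ≠ 4 := Or.inl (by rw [Nat.card_eq_fintype_card]; omega)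
  have hK0 : K.det ≠ 0 := left_ne_zero_of_mul_eq_one (by rw [← Matrix.det_mul, hKK, Matrix.det_one])
  have hK'K := mul_eq_one_comm.1 hKK
  have hdg : ∀ A A' (h : A * A' = 1), IsSquare A.det → (dg A A' h : O F R m) ∈ Ωs := fun A A' h hs =>
    ((hasW_dg hR hc A A' h).mem_iff hR (left_ne_zero_of_mul_eq_one (by rw [← Matrix.det_mul, h, Matrix.det_one]))).2
      ⟨⟨0, rfl⟩, hs⟩
  let emb : Matrix.SpecialLinearGroup (Fin m) F → O F R m := fun P =>
    dg (P : Matrix _ _ F) ((P⁻¹ : Matrix.SpecialLinearGroup (Fin m) F) : Matrix _ _ F) (sl_mul_inv P)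
  have hemb : ∀ P, emb P ∈ Ωs := fun P => hdg _ _ _ (by rw [Matrix.SpecialLinearGroup.det_coe]; exact IsSquare.one)
  let c : ↥Ωs := ⟨dg K K' hKK, hdg _ _ _ hsq⟩
  have hconj : ∀ (P : Matrix.SpecialLinearGroup (Fin m) F) (L L' : Matrix (Fin m) (Fin m) F) (hL : L * L' = 1)
      (B B' : Matrix (Fin m) (Fin m) F) (hB : B * B' = 1),
      B = (P : Matrix (Fin m) (Fin m) F) * L * (P⁻¹ : Matrix.SpecialLinearGroup (Fin m) F) →
      emb P * dg L L' hL * (emb P)⁻¹ = dg B B' hB := by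
    intro P L L' hL B B' hB e
    have hB' : B' = (P : Matrix (Fin m) (Fin m) F) * L' * (P⁻¹ : Matrix.SpecialLinearGroup (Fin m) F) :=
      left_inv_eq_right_inv (mul_eq_one_comm.1 hB) (by rw [e]; exact conj_inverse hL P)
    refine mt_inj ?_
    simp only [emb, dg_inv, mt_mul, mt_dg, mk3_mul]
    simp [e, hB', Matrix.transpose_mul, Matrix.mul_assoc]
  let U' : Subgroup ↥Ωs := (UO F R m hR).subgroupOf Ωs
  let V' : Subgroup ↥Ωs := (VO hR).subgroupOf Ωs
  have hUc : ∀ x ∈ U', c * x * c⁻¹ ∈ U' := by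
    intro x hx
    obtain ⟨x₀, Y, hY, e⟩ := Subgroup.mem_subgroupOf.1 hx
    refine Subgroup.mem_subgroupOf.2 ⟨K * x₀, K * Y * Kᵀ, hY.congr K, ?_⟩
    rw [Subgroup.coe_mul, Subgroup.coe_mul, Subgroup.coe_inv, e, up_conj]
  have hVc : ∀ x ∈ V', c * x * c⁻¹ ∈ V' := by
    intro x hx
    obtain ⟨x₀, Y, hY, e⟩ := (mem_VO hR).1 (Subgroup.mem_subgroupOf.1 hx)
    refine Subgroup.mem_subgroupOf.2 ((mem_VO hR).2 ⟨K'ᵀ * x₀, K'ᵀ * Y * K'ᵀᵀ, hY.congr K'ᵀ, ?_⟩)
    rw [Subgroup.coe_mul, Subgroup.coe_mul, Subgroup.coe_inv, e, lo_conj]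
  have hne : ∀ Y : Matrix (Fin m) (Fin m) F, IsAlt Y → ∀ i j, (1 : F) * K i i * K j j ≠ 1 ∨ Y i j = 0 := by
    intro Y hY i j
    by_cases hij : i = j
    · exact Or.inr (by rw [hij]; exact hY.diag j)
    · exact Or.inl (by rw [one_mul]; exact hpair i j hij)
  have hxz : ∀ x : Matrix (Fin m) R F, K * x = x ∨ Kᵀ * x = x → x = 0 := by
    intro x hx
    ext i r
    have hd : (K - 1).det ≠ 0 := by
      rw [Matrix.det_of_lowerTriangular]
      · refine Finset.prod_ne_zero_iff.2 fun i _ => ?_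
        rw [Matrix.sub_apply, Matrix.one_apply_eq]
        exact sub_ne_zero.2 (hone r i)
      · intro i j hij
        have h' : i < j := hij
        rw [Matrix.sub_apply, hlow i j h', Matrix.one_apply_ne h'.ne, sub_zero]
    have key : ∀ M : Matrix (Fin m) (Fin m) F, (M - 1).det ≠ 0 → M * x = x → x = 0 := fun M hM e => by
      have h0 : (M - 1) * x = 0 := by rw [Matrix.sub_mul, e, Matrix.one_mul, sub_self]
      calc x = ((M - 1)⁻¹ * (M - 1)) * x := by rw [Matrix.nonsing_inv_mul _ hM.isUnit, Matrix.one_mul]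
        _ = 0 := by rw [Matrix.mul_assoc, h0, Matrix.mul_zero]
    rcases hx with hx | hx
    · rw [key K hd hx]
    · rw [key Kᵀ (by rw [← Matrix.transpose_one, ← Matrix.transpose_sub, Matrix.det_transpose]; exact hd) hx]
  have hUf : ∀ x ∈ U', c * x * c⁻¹ = x → x = 1 := by
    intro x hx hfix
    obtain ⟨x₀, Y, hY, e⟩ := Subgroup.mem_subgroupOf.1 hx
    have h := congrArg Subtype.val hfix
    rw [Subgroup.coe_mul, Subgroup.coe_mul, Subgroup.coe_inv, e, up_conj] at h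
    obtain ⟨h1, h2⟩ := up_inj hR h
    have hY0 : Y = 0 := lower_fixed hlow 1 (hne Y hY) (by rw [one_smul]; exact h2)
    have hx0 : x₀ = 0 := hxz x₀ (Or.inl h1)
    refine Subtype.ext (e.trans ?_)
    rw [Subgroup.coe_one, ← up_zero hR]
    exact up_congr hR _ _ hx0 hY0
  have hVf : ∀ x ∈ V', c * x * c⁻¹ = x → x = 1 := by
    intro x hx hfix
    obtain ⟨x₀, Y, hY, e⟩ := (mem_VO hR).1 (Subgroup.mem_subgroupOf.1 hx)
    have h := congrArg Subtype.val hfix
    rw [Subgroup.coe_mul, Subgroup.coe_mul, Subgroup.coe_inv, e, lo_conj] at h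
    rw [lo, lo, mul_left_inj, mul_right_inj] at h
    obtain ⟨h1, h2⟩ := up_inj hR h
    rw [Matrix.transpose_transpose] at h2
    have hT : Kᵀ * K'ᵀ = 1 := by rw [← Matrix.transpose_mul, hK'K, Matrix.transpose_one]
    have hY0 : Y = 0 := upper_fixed hlow 1 (hne Y hY) (by
      rw [one_smul]
      conv_lhs => rw [← h2]
      rw [show Kᵀ * (K'ᵀ * Y * K') * K = Kᵀ * K'ᵀ * Y * (K' * K) by simp only [Matrix.mul_assoc], hK'K, hT,
        Matrix.mul_one, Matrix.one_mul])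
    have hx0 : x₀ = 0 := hxz x₀ (Or.inr (by
      conv_lhs => rw [← h1]
      rw [← Matrix.mul_assoc, hT, Matrix.one_mul]))
    refine Subtype.ext (e.trans ?_)
    rw [Subgroup.coe_one, lo, up_congr hR hY isAlt_zero hx0 hY0, up_zero, mul_one, sw_mul_self]
  refine hasSquare_quotient (Subgroup.center ↥Ωs) c (fun g => ?_) ?_
  · by_cases hsc : ∃ μ : F, mt (g : O F R m) = μ • 1
    · obtain ⟨μ, hμ⟩ := hsc
      refine Or.inl (Subgroup.mem_center_iff.2 fun x => Subtype.ext (mt_inj ?_))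
      rw [Subgroup.coe_mul, Subgroup.coe_mul, mt_mul, mt_mul, hμ]
      simp
    push Not at hsc
    refine Or.inr ?_
    obtain ⟨z, hz, hdet, hns⟩ := exists_good hR (by omega) hm (g : O F R m) g.2 hsc (K.det * K.det)
      (mul_ne_zero hK0 hK0) (IsSquare.mul_self _)
    refine Two.of_conj (⟨z, hz⟩ : ↥Ωs) ?_
    set k : O F R m := z * g * z⁻¹ with hk
    obtain ⟨P, Q, hPQ⟩ := hsplit (bA k) hdet hns
    set B₁ := (P : Matrix (Fin m) (Fin m) F) * K * (P⁻¹ : Matrix.SpecialLinearGroup (Fin m) F) with hB₁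
    set B₂ := (Q : Matrix (Fin m) (Fin m) F) * K * (Q⁻¹ : Matrix.SpecialLinearGroup (Fin m) F) with hB₂
    set B₁' := (P : Matrix (Fin m) (Fin m) F) * K' * (P⁻¹ : Matrix.SpecialLinearGroup (Fin m) F)
    set B₂' := (Q : Matrix (Fin m) (Fin m) F) * K' * (Q⁻¹ : Matrix.SpecialLinearGroup (Fin m) F)
    have hu₁ : B₁ * B₁' = 1 := conj_inverse hKK P
    have hu₂ : B₂ * B₂' = 1 := conj_inverse hKK Q
    have hinv : bA k * (B₂' * B₁') = 1 := by
      rw [hPQ, Matrix.mul_assoc, ← Matrix.mul_assoc B₂, hu₂, Matrix.one_mul, hu₁]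
    have hkm : k ∈ Ωs := mul_mem (mul_mem hz g.2) (inv_mem hz)
    obtain ⟨-, x, Y, hY, y, W, hW, e⟩ := omega_decompose hR h4 k hkm _ hinv
    let p : ↥Ωs := ⟨emb P, hemb P⟩
    let r : ↥Ωs := ⟨emb Q, hemb Q⟩
    let v : ↥Ωs := ⟨lo hR x Y hY, lo_mem_omega hR h4 _ _ _⟩
    let u : ↥Ωs := ⟨up hR y W hW, up_mem_omega hR h4 _ _ _⟩
    have e2 : (⟨z, hz⟩ : ↥Ωs) * g * (⟨z, hz⟩ : ↥Ωs)⁻¹ = v * ((p * c * p⁻¹) * (r * c * r⁻¹)) * u := by
      refine Subtype.ext ?_
      show k = lo hR x Y hY * (emb P * dg K K' hKK * (emb P)⁻¹ * (emb Q * dg K K' hKK * (emb Q)⁻¹)) * up hR y W hW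
      rw [hconj P K K' hKK B₁ B₁' hu₁ rfl, hconj Q K K' hKK B₂ B₂' hu₂ rfl, e]
      congr 2
      refine mt_inj ?_
      rw [mt_mul, mt_dg, mt_dg, mt_dg, mk3_mul, hPQ]
      simp [Matrix.transpose_mul]
    rw [e2]
    refine two_of_levi V' U' hVc hVf hUc hUf ?_ ?_
    · refine Subgroup.mem_subgroupOf.2 ?_
      show (emb P)⁻¹ * lo hR x Y hY * emb P ∈ VO hR
      have := lo_conj hR _ _ (sl_inv_mul P) x Y hY
      rw [dg_inv] at this
      simp only [emb, dg_inv]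
      exact (mem_VO hR).2 ⟨_, _, _, this⟩
    · refine Subgroup.mem_subgroupOf.2 ?_
      show (emb Q)⁻¹ * up hR y W hW * emb Q ∈ UO F R m hR
      have := up_conj hR _ _ (sl_inv_mul Q) y W hW
      rw [dg_inv] at this
      simp only [emb, dg_inv]
      exact ⟨_, _, _, this⟩
  · refine ⟨1, ⟨(emb Q₀)⁻¹ * w, mul_mem (inv_mem (hemb Q₀)) hw⟩, Subtype.ext ?_⟩
    show (1 : O F R m) = 1 * dg K K' hKK * 1⁻¹ * ((emb Q₀)⁻¹ * w * dg K K' hKK * ((emb Q₀)⁻¹ * w)⁻¹)
    have h : w * dg K K' hKK * w⁻¹ = emb Q₀ * (dg K K' hKK)⁻¹ * (emb Q₀)⁻¹ := by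
      rw [hwc, dg_inv]
      exact (hconj Q₀ K' K hK'K _ _ _ (inv_transpose_conj hKK Q₀ hQ₀)).symm
    rw [show (emb Q₀)⁻¹ * w * dg K K' hKK * ((emb Q₀)⁻¹ * w)⁻¹ = (emb Q₀)⁻¹ * (w * dg K K' hKK * w⁻¹) * emb Q₀ by group, h]
    group

/-- The class on a full canonical form. -/
theorem hasSquare_full (h9 : 9 ≤ Fintype.card F) {k : ℕ} (hk : 1 ≤ k)
    (hev : Even (k + 2) ∨ Nonempty R) :
    HasSquare (Cfsg.POmega F (qv (F := F) (R := R) (m := k + 2))) := by
  classical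
  obtain ⟨a, b, r, ha, ha2, hbr, hr, hfree⟩ := exists_scalars h9
  have hb : b ≠ 0 := by rw [hbr]; exact mul_ne_zero hr hr
  have hKK : (b • canM k a) * (b⁻¹ • canI k a) = 1 := by
    rw [Matrix.smul_mul, Matrix.mul_smul, smul_smul, mul_inv_cancel₀ hb, one_smul, canM_canI ha]
  have hdet : (b • canM k a).det = b ^ (k + 2) := by rw [Matrix.det_smul, Fintype.card_fin, det_canM a ha, mul_one]
  have hsq : IsSquare (b ^ (k + 2)) := (show IsSquare b from ⟨r, hbr⟩).pow _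
  obtain ⟨w, hw, hwc⟩ : ∃ w : O F R (k + 2), w ∈ Cfsg.Omega F (qv (F := F) (R := R) (m := k + 2)) ∧
      w * dg _ _ hKK * w⁻¹ = dg (b⁻¹ • canI k a)ᵀ (b • canM k a)ᵀ
        (by rw [← Matrix.transpose_mul, hKK, Matrix.transpose_one]) := by
    have hc : Nat.card F ≠ 2 ∨ Fintype.card (R ⊕ (Fin (k + 2) ⊕ Fin (k + 2))) ≠ 4 :=
      Or.inl (by rw [Nat.card_eq_fintype_card]; omega)
    have hs : ((-1 : F)) ^ (k + 2) ≠ 0 := pow_ne_zero _ (neg_ne_zero.2 one_ne_zero)
    by_cases he : Even (k + 2)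
    · refine ⟨sw Finset.univ, ((hasW_sw (F := F) (R := R) Finset.univ).mem_iff hR (by simpa using hs)).2
        ⟨by simpa using he, by simp [he.neg_one_pow]⟩, ?_⟩
      rw [sw_inv, sw_dg]
    · obtain ⟨r₀⟩ := hev.resolve_left he
      let D₀ : Matrix (Fin (k + 2)) (Fin (k + 2)) F := blk (-1) 0 0 1
      have hD₀ : D₀ * D₀ = 1 := by simp [D₀, blk_mul, blk_one]
      have hD₀d : D₀.det = -1 := by rw [blk_det_lower, Matrix.det_one, mul_one]
      refine ⟨sw Finset.univ * (rho * dg D₀ D₀ hD₀),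
        (((hasW_sw (F := F) (R := R) Finset.univ).mul ((hasW_rho hR r₀).mul (hasW_dg hR hc D₀ D₀ hD₀))).mem_iff hR ?_).2
          ⟨?_, ?_⟩, ?_⟩
      · rw [hD₀d]; simp
      · rw [Finset.card_univ, Fintype.card_fin, add_zero, Nat.even_add]
        simp [he]
      · rw [hD₀d, Finset.card_univ, Fintype.card_fin, (Nat.not_even_iff_odd.1 he).neg_one_pow]
        simp
      · set c : O F R (k + 2) := dg _ _ hKK
        have hcomm : rho * dg D₀ D₀ hD₀ * c = c * (rho * dg D₀ D₀ hD₀) := by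
          refine mt_inj ?_
          simp only [c, mt_mul, mt_rho, mt_dg, mk3_mul]
          have e1 : D₀ * canM k a = canM k a * D₀ := by simp [D₀, canM, blk_mul]
          have e2 : D₀ * canI k a = canI k a * D₀ := by simp [D₀, canI, blk_mul]
          simp [e1, ← Matrix.transpose_mul, e2]
        rw [show sw Finset.univ * (rho * dg D₀ D₀ hD₀) * c * (sw Finset.univ * (rho * dg D₀ D₀ hD₀))⁻¹ =
          sw Finset.univ * (rho * dg D₀ D₀ hD₀ * c * (rho * dg D₀ D₀ hD₀)⁻¹) * (sw Finset.univ)⁻¹ by group,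
          hcomm, mul_inv_cancel_right, sw_inv, sw_dg]
  obtain ⟨Q₀, hQ₀⟩ := canM_transpose_sim k a
  refine hasSquare_of_class hR h9 (by omega) _ _ hKK (fun i j h => by simp [canM_upper k a i j h]) (fun i j _ e => ?_)
    (fun _ i e => ?_) (by rw [hdet]; exact hsq) (fun A hA hns => ?_) w hw hwc Q₀ ?_
  · rw [Matrix.smul_apply, Matrix.smul_apply, canM_diag, canM_diag, smul_eq_mul, smul_eq_mul] at e
    exact (hfree k i j).1 (by linear_combination e)
  · rw [Matrix.smul_apply, canM_diag, smul_eq_mul] at e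
    exact (hfree k i i).2 e
  · exact exists_two_scaled (by omega) ha ha2 hb A (by rw [hA, hdet, mul_pow]) fun μ h => absurd h (hns μ)
  · rw [Matrix.transpose_smul, hQ₀, Matrix.mul_smul, Matrix.smul_mul]

/-- The class with one fixed pair, for an odd number of pairs without a middle coordinate. -/
theorem hasSquare_pivot (h9 : 9 ≤ Fintype.card F) {k : ℕ} (hk : Odd (k + 2 + 1)) (hRe : IsEmpty R) :
    HasSquare (Cfsg.POmega F (qv (F := F) (R := R) (m := k + 2 + 1))) := by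
  classical
  obtain ⟨a, b, r, ha, ha2, hbr, hr, hfree⟩ := exists_scalars h9
  have hb : b ≠ 0 := by rw [hbr]; exact mul_ne_zero hr hr
  have h1 : (b • canM k a) * (b⁻¹ • canI k a) = 1 := by
    rw [Matrix.smul_mul, Matrix.mul_smul, smul_smul, mul_inv_cancel₀ hb, one_smul, canM_canI ha]
  set K := blk (1 : F) 0 0 (b • canM k a) with hK
  set K' := blk (1 : F) 0 0 (b⁻¹ • canI k a) with hK'
  have hKK : K * K' = 1 := by
    rw [hK, hK', blk_mul, h1]
    simp [blk_one]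
  have hdet : K.det = b ^ (k + 2) := by
    rw [hK, blk_det_lower, one_mul, Matrix.det_smul, Fintype.card_fin, det_canM a ha, mul_one]
  set s : Finset (Fin (k + 2 + 1)) := Finset.univ.erase 0 with hs
  have hcard : s.card = k + 2 := by rw [hs, Finset.card_erase_of_mem (Finset.mem_univ _)]; simp
  have he : Even (k + 2) := by
    rcases Nat.even_or_odd (k + 2) with h | h
    · exact h
    · exact absurd h.add_one (Nat.not_even_iff_odd.2 hk)
  obtain ⟨Q₁, hQ₁⟩ := canM_transpose_sim k a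
  refine hasSquare_of_class hR h9 (by omega) K K' hKK ?_ ?_ (fun r => hRe.elim r)
    (by rw [hdet]; exact (show IsSquare b from ⟨r, hbr⟩).pow _) (fun A hA hns => ?_) (sw s)
    (((hasW_sw (F := F) (R := R) s).mem_iff hR (pow_ne_zero _ (neg_ne_zero.2 one_ne_zero))).2
      ⟨by rw [hcard]; exact he, by simp [hcard, he.neg_one_pow]⟩) ?_
    ⟨blk 1 0 0 (Q₁ : Matrix (Fin (k + 2)) (Fin (k + 2)) F), by rw [blk_det_lower, Q₁.det_coe, one_mul]⟩ ?_
  · intro i j
    refine Fin.cases ?_ (fun i' => ?_) i <;> refine Fin.cases ?_ (fun j' => ?_) j <;> intro hij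
    · exact absurd hij (lt_irrefl _)
    · simp [hK]
    · simp [hK]
    · rw [Fin.succ_lt_succ_iff] at hij
      simp [hK, canM_upper k a i' j' hij]
  · intro i j
    refine Fin.cases ?_ (fun i' => ?_) i <;> refine Fin.cases ?_ (fun j' => ?_) j <;> intro hij
    · exact absurd rfl hij
    · simpa [hK, canM_diag] using (hfree k j' j').2
    · simpa [hK, canM_diag] using (hfree k i' i').2
    · intro e
      simp [hK, canM_diag] at e
      exact (hfree k i' j').1 (by linear_combination e)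
  · exact exists_two_blk (by omega) ha ha2 hb (fun i => (hfree k i i).2) A (by rw [hA, hdet, mul_pow]) hns
  · rw [mul_inv_eq_iff_eq_mul]
    refine mt_inj ?_
    have hd1 : (Matrix.diagonal fun i : Fin (k + 2 + 1) => if i ∈ s then (0 : F) else 1) = blk 1 0 0 0 := by
      ext i j
      refine Fin.cases ?_ (fun i' => ?_) i <;> refine Fin.cases ?_ (fun j' => ?_) j <;>
        simp [hs, Matrix.diagonal_apply, Fin.succ_ne_zero, Ne.symm (Fin.succ_ne_zero _)]
    have hd2 : (Matrix.diagonal fun i : Fin (k + 2 + 1) => if i ∈ s then (1 : F) else 0) = blk 0 0 0 1 := by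
      ext i j
      refine Fin.cases ?_ (fun i' => ?_) i <;> refine Fin.cases ?_ (fun j' => ?_) j <;>
        simp [hs, Matrix.diagonal_apply, Matrix.one_apply, Fin.succ_ne_zero, Ne.symm (Fin.succ_ne_zero _)]
    rw [mt_mul, mt_mul, mt_sw, mt_dg, mt_dg, swM, hd1, hd2, mk3_mul, mk3_mul, hK, hK', blk_transpose, blk_transpose]
    simp [blk_mul, Matrix.transpose_smul, blk_transpose]
  · have hinv : (((⟨blk 1 0 0 (Q₁ : Matrix (Fin (k + 2)) (Fin (k + 2)) F), by rw [blk_det_lower, Q₁.det_coe, one_mul]⟩ :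
        Matrix.SpecialLinearGroup (Fin (k + 2 + 1)) F)⁻¹ : Matrix.SpecialLinearGroup (Fin (k + 2 + 1)) F) :
        Matrix (Fin (k + 2 + 1)) (Fin (k + 2 + 1)) F) =
        blk 1 0 0 ((Q₁⁻¹ : Matrix.SpecialLinearGroup (Fin (k + 2)) F) : Matrix (Fin (k + 2)) (Fin (k + 2)) F) :=
      left_inv_eq_right_inv (sl_inv_mul _) (by
        show blk 1 0 0 (Q₁ : Matrix (Fin (k + 2)) (Fin (k + 2)) F) * blk 1 0 0 _ = 1
        rw [blk_mul, sl_mul_inv]
        simp [blk_one])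
    rw [hinv, hK, blk_transpose, Matrix.transpose_smul, hQ₁]
    show _ = blk 1 0 0 (Q₁ : Matrix (Fin (k + 2)) (Fin (k + 2)) F) * _ * _
    rw [blk_mul, blk_mul]
    simp

end Group

section Reindex

variable {F : Type*} [Field F] {ι κ : Type} [Fintype ι] [DecidableEq ι] [Fintype κ] [DecidableEq κ]

/-- Forms differing by a renaming of the coordinates have isomorphic groups. -/
noncomputable def isoCongr (e : ι ≃ κ) (q : (ι → F) → F) (q' : (κ → F) → F) (h : ∀ v, q' v = q (v ∘ e)) :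
    ↥(Cfsg.isometryGroup F q) ≃* ↥(Cfsg.isometryGroup F q') :=
  ((Units.mapEquiv (Matrix.reindexAlgEquiv F F e).toMulEquiv).subgroupMap (Cfsg.isometryGroup F q)).trans
    (MulEquiv.subgroupCongr (by
      ext g
      constructor
      · rintro ⟨g, hg, rfl⟩ u v
        show q' (Matrix.reindex e e g.1 *ᵥ u) = q' u
        rw [h, h]
        have e1 : (Matrix.reindex e e g.1 *ᵥ u) ∘ e = g.1 *ᵥ (u ∘ e) := by
          rw [Matrix.reindex_apply, Matrix.submatrix_mulVec_equiv]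
          funext x; simp
        rw [e1]
        exact hg (u ∘ e) (v ∘ e)
      · intro hg
        refine ⟨(Units.mapEquiv (Matrix.reindexAlgEquiv F F e).toMulEquiv).symm g, fun u v => ?_,
          (Units.mapEquiv (Matrix.reindexAlgEquiv F F e).toMulEquiv).apply_symm_apply g⟩
        show q (Matrix.reindex e.symm e.symm g.1 *ᵥ u) = q u
        have e1 : Matrix.reindex e.symm e.symm g.1 *ᵥ u = (g.1 *ᵥ (u ∘ e.symm)) ∘ e := by
          rw [Matrix.reindex_apply, Matrix.submatrix_mulVec_equiv]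
          rfl
        have h2 : q' (g.1 *ᵥ (u ∘ e.symm)) = q' (u ∘ e.symm) := hg (u ∘ e.symm) (v ∘ e.symm)
        rw [h, h, ← e1] at h2
        simpa [Function.comp_assoc] using h2))

/-- The same for the projective derived groups. -/
theorem pOmega_congr (e : ι ≃ κ) (q : (ι → F) → F) (q' : (κ → F) → F) (h : ∀ v, q' v = q (v ∘ e)) :
    Nonempty (Cfsg.POmega F q ≃* Cfsg.POmega F q') := by
  let f := isoCongr e q q' h
  let d : ↥(Cfsg.Omega F q) ≃* ↥(Cfsg.Omega F q') :=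
    (f.subgroupMap (Cfsg.Omega F q)).trans
      (MulEquiv.subgroupCongr (Cfsg.Agent.Classical.OOmega.map_commutator_equiv f))
  refine ⟨QuotientGroup.congr _ _ d (le_antisymm ?_ fun x hx =>
    ⟨d.symm x, (Subgroup.centerCongr d.symm ⟨x, hx⟩).2, d.apply_symm_apply x⟩)⟩
  rintro _ ⟨y, hy, rfl⟩
  exact (Subgroup.centerCongr d ⟨y, hy⟩).2

end Reindex

variable {F : Type*} [Field F] [Fintype F]

theorem hasSquare_plus (h9 : 9 ≤ Fintype.card F) (m : ℕ) (hm : 4 ≤ m) :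
    HasSquare (Cfsg.POmega F (Cfsg.quadFormPlus m F)) := by
  obtain ⟨e⟩ := pOmega_congr (Equiv.emptySum Empty (Fin m ⊕ Fin m)) (qv (F := F) (R := Empty) (m := m))
    (Cfsg.quadFormPlus m F) (fun v => by simp [qv, Cfsg.quadFormPlus, dotProduct])
  refine HasSquare.of_equiv e.symm ?_
  rcases Nat.even_or_odd m with he | ho
  · obtain ⟨k, rfl⟩ : ∃ k, m = k + 2 := ⟨m - 2, by omega⟩
    exact hasSquare_full (fun r => r.elim) h9 (by omega) (Or.inl he)
  · obtain ⟨k, rfl⟩ : ∃ k, m = k + 2 + 1 := ⟨m - 3, by omega⟩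
    exact hasSquare_pivot (fun r => r.elim) h9 ho inferInstance

theorem hasSquare_odd (h9 : 9 ≤ Fintype.card F) (m : ℕ) (hm : 3 ≤ m) (hodd : Odd (Fintype.card F)) :
    HasSquare (Cfsg.POmega F (Cfsg.quadFormOdd m F)) := by
  obtain ⟨k, rfl⟩ : ∃ k, m = k + 2 := ⟨m - 2, by omega⟩
  have h2 : (2 : F) ≠ 0 := by
    intro h
    haveI : CharP F 2 := CharTwo.of_one_ne_zero_of_two_eq_zero one_ne_zero h
    have := FiniteField.even_card_of_char_two (F := F) (ringChar.eq F 2)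
    rw [Nat.odd_iff] at hodd
    omega
  rw [show Cfsg.quadFormOdd (k + 2) F = qv (F := F) (R := Unit) (m := k + 2) from
    funext fun v => by simp [qv, Cfsg.quadFormOdd, dotProduct, _root_.sq]]
  exact hasSquare_full (fun _ => h2) h9 (by omega) (Or.inr ⟨()⟩)

end Cfsg.Agent.Lie.ClassSq.Orth
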