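import Mathlib
import Cfsg.Prelude.Def_Classical
import Cfsg.Agent.Lib.Lie.ClassSquare.Field

/-!
The projective symplectic groups are squares of a conjugacy class.
-/

set_option autoImplicit false
set_option linter.unusedSectionVars false

namespace Cfsg.Agent.Lie.ClassSq.Symp

open Matrix

variable {F : Type*} [Field F] {m : ℕ}

set_option quotPrecheck false in
local notation "G" => ↥(Matrix.symplecticGroup (Fin m) F)
local notation "M₂" => Matrix (Fin m ⊕ Fin m) (Fin m ⊕ Fin m) F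
local notation "M" => Matrix (Fin m) (Fin m) F

theorem mem_blocks (A B C D : M) (h1 : A * Bᵀ = B * Aᵀ) (h2 : C * Dᵀ = D * Cᵀ) (h3 : A * Dᵀ - B * Cᵀ = 1) :
    fromBlocks A B C D ∈ Matrix.symplecticGroup (Fin m) F := by
  rw [SymplecticGroup.mem_iff, Matrix.J, fromBlocks_transpose, fromBlocks_multiply, fromBlocks_multiply]
  have h4 : D * Aᵀ - C * Bᵀ = 1 := by simpa using congrArg Matrix.transpose h3
  simp only [Matrix.mul_zero, Matrix.mul_one, Matrix.mul_neg, zero_add, add_zero, Matrix.neg_mul]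
  congr 1
  · rw [h1, add_neg_cancel]
  · rw [← h3]; abel
  · rw [← h4]; abel
  · rw [h2, add_neg_cancel]

/-- The upper unipotent radical. -/
def up (X : M) (hX : Xᵀ = X) : G := ⟨fromBlocks 1 X 0 1, mem_blocks _ _ _ _ (by simp [hX]) (by simp) (by simp)⟩

/-- The lower unipotent radical. -/
def lo (X : M) (hX : Xᵀ = X) : G := ⟨fromBlocks 1 0 X 1, mem_blocks _ _ _ _ (by simp) (by simp [hX]) (by simp)⟩

/-- The Levi subgroup. -/
def dg (A A' : M) (h : A * A' = 1) : G :=
  ⟨fromBlocks A 0 0 A'ᵀ, mem_blocks _ _ _ _ (by simp) (by simp) (by simp [h])⟩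

theorem coe_up (X : M) (hX : Xᵀ = X) : ((up X hX : G) : M₂) = fromBlocks 1 X 0 1 := rfl
theorem coe_lo (X : M) (hX : Xᵀ = X) : ((lo X hX : G) : M₂) = fromBlocks 1 0 X 1 := rfl
theorem coe_dg (A A' : M) (h : A * A' = 1) : ((dg A A' h : G) : M₂) = fromBlocks A 0 0 A'ᵀ := rfl

theorem coe_mul' (g h : G) : ((g * h : G) : M₂) = (g : M₂) * (h : M₂) := rfl

theorem dg_inv (A A' : M) (h : A * A' = 1) : (dg A A' h : G)⁻¹ = dg A' A (mul_eq_one_comm.1 h) := by
  refine inv_eq_of_mul_eq_one_right (Subtype.ext ?_)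
  rw [coe_mul', coe_dg, coe_dg, fromBlocks_multiply]
  simp [h, ← Matrix.transpose_mul, mul_eq_one_comm.1 h]

theorem dg_mul (A A' B B' : M) (h : A * A' = 1) (h' : B * B' = 1) (h'' : A * B * (B' * A') = 1) :
    (dg A A' h : G) * dg B B' h' = dg (A * B) (B' * A') h'' := by
  refine Subtype.ext ?_
  rw [coe_mul', coe_dg, coe_dg, coe_dg, fromBlocks_multiply]
  simp [Matrix.transpose_mul]

theorem up_conj (A A' : M) (h : A * A' = 1) (X : M) (hX : Xᵀ = X) :
    (dg A A' h : G) * up X hX * (dg A A' h)⁻¹ =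
      up (A * X * Aᵀ) (by rw [Matrix.transpose_mul, Matrix.transpose_mul, Matrix.transpose_transpose, hX, Matrix.mul_assoc]) := by
  refine Subtype.ext ?_
  rw [dg_inv, coe_mul', coe_mul', coe_dg, coe_dg, coe_up, coe_up, fromBlocks_multiply, fromBlocks_multiply]
  simp [h, ← Matrix.transpose_mul, mul_eq_one_comm.1 h]

theorem lo_conj (A A' : M) (h : A * A' = 1) (X : M) (hX : Xᵀ = X) :
    (dg A A' h : G) * lo X hX * (dg A A' h)⁻¹ =
      lo (A'ᵀ * X * A') (by rw [Matrix.transpose_mul, Matrix.transpose_mul, Matrix.transpose_transpose, hX, Matrix.mul_assoc]) := by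
  refine Subtype.ext ?_
  rw [dg_inv, coe_mul', coe_mul', coe_dg, coe_dg, coe_lo, coe_lo, fromBlocks_multiply, fromBlocks_multiply]
  simp [h, ← Matrix.transpose_mul, mul_eq_one_comm.1 h]

variable (F m)

/-- The upper radical as a subgroup. -/
def U : Subgroup G where
  carrier := {g | ∃ X hX, g = up X hX}
  one_mem' := ⟨0, Matrix.transpose_zero, Subtype.ext (by rw [coe_up]; exact fromBlocks_one.symm)⟩
  mul_mem' := by
    rintro g h ⟨X, hX, rfl⟩ ⟨Y, hY, rfl⟩
    refine ⟨X + Y, by rw [Matrix.transpose_add, hX, hY], Subtype.ext ?_⟩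
    rw [coe_mul', coe_up, coe_up, coe_up, fromBlocks_multiply]
    simp [add_comm]
  inv_mem' := by
    rintro g ⟨X, hX, rfl⟩
    refine ⟨-X, by rw [Matrix.transpose_neg, hX], inv_eq_of_mul_eq_one_right (Subtype.ext ?_)⟩
    rw [coe_mul', coe_up, coe_up, fromBlocks_multiply]
    simp

/-- The lower radical as a subgroup. -/
def V : Subgroup G where
  carrier := {g | ∃ X hX, g = lo X hX}
  one_mem' := ⟨0, Matrix.transpose_zero, Subtype.ext (by rw [coe_lo]; exact fromBlocks_one.symm)⟩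
  mul_mem' := by
    rintro g h ⟨X, hX, rfl⟩ ⟨Y, hY, rfl⟩
    refine ⟨X + Y, by rw [Matrix.transpose_add, hX, hY], Subtype.ext ?_⟩
    rw [coe_mul', coe_lo, coe_lo, coe_lo, fromBlocks_multiply]
    simp
  inv_mem' := by
    rintro g ⟨X, hX, rfl⟩
    refine ⟨-X, by rw [Matrix.transpose_neg, hX], inv_eq_of_mul_eq_one_right (Subtype.ext ?_)⟩
    rw [coe_mul', coe_lo, coe_lo, fromBlocks_multiply]
    simp

variable {F m}

/-- The symplectic relations between the blocks. -/
theorem rel (g : G) {A B C D : M} (hg : (g : M₂) = fromBlocks A B C D) :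
    (Aᵀ * C)ᵀ = Aᵀ * C ∧ (A * Bᵀ)ᵀ = A * Bᵀ ∧ Cᵀ * B - Aᵀ * D = -1 := by
  have h1 := SymplecticGroup.mem_iff'.1 g.2
  have h2 := SymplecticGroup.mem_iff.1 g.2
  rw [hg, Matrix.J, fromBlocks_transpose, fromBlocks_multiply, fromBlocks_multiply, fromBlocks_inj] at h1 h2
  simp only [Matrix.mul_zero, Matrix.mul_one, Matrix.mul_neg, zero_add, add_zero, Matrix.neg_mul] at h1 h2
  refine ⟨?_, ?_, ?_⟩
  · rw [Matrix.transpose_mul, Matrix.transpose_transpose]
    linear_combination (norm := abel) h1.1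
  · rw [Matrix.transpose_mul, Matrix.transpose_transpose]
    linear_combination (norm := abel) h2.1
  · linear_combination (norm := abel) h1.2.1

/-- The upper left block. -/
def blkA (g : G) : M := (g : M₂).toBlocks₁₁
/-- The lower left block. -/
def blkC (g : G) : M := (g : M₂).toBlocks₂₁
/-- The upper right block. -/
def blkB (g : G) : M := (g : M₂).toBlocks₁₂

theorem blocks_eq (g : G) : (g : M₂) = fromBlocks (blkA g) (blkB g) (blkC g) (g : M₂).toBlocks₂₂ :=
  (fromBlocks_toBlocks _).symm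

theorem up_move (g : G) (X : M) (hX : Xᵀ = X) : blkA (up X hX * g * (up X hX)⁻¹) = blkA g + X * blkC g ∧
    blkC (up X hX * g * (up X hX)⁻¹) = blkC g := by
  have hi : (up X hX : G)⁻¹ = up (-X) (by rw [Matrix.transpose_neg, hX]) := by
    refine inv_eq_of_mul_eq_one_right (Subtype.ext ?_)
    rw [coe_mul', coe_up, coe_up, fromBlocks_multiply]
    simp
  unfold blkA blkC
  rw [coe_mul', coe_mul', hi, coe_up, coe_up, blocks_eq g, fromBlocks_multiply, fromBlocks_multiply]
  simp [blkA, blkC]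

theorem lo_move (g : G) (X : M) (hX : Xᵀ = X) : blkA (lo X hX * g * (lo X hX)⁻¹) = blkA g - blkB g * X ∧
    blkC (lo X hX * g * (lo X hX)⁻¹) =
      X * blkA g + blkC g - (X * blkB g + (g : M₂).toBlocks₂₂) * X := by
  have hi : (lo X hX : G)⁻¹ = lo (-X) (by rw [Matrix.transpose_neg, hX]) := by
    refine inv_eq_of_mul_eq_one_right (Subtype.ext ?_)
    rw [coe_mul', coe_lo, coe_lo, fromBlocks_multiply]
    simp
  unfold blkA blkC
  rw [coe_mul', coe_mul', hi, coe_lo, coe_lo, blocks_eq g, fromBlocks_multiply, fromBlocks_multiply]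
  simp [blkA, blkB, blkC, sub_eq_add_neg]

variable [Fintype F]

/-- Some conjugate has invertible upper left block. -/
theorem exists_invertible (h5 : 5 ≤ Fintype.card F) (g : G) : ∃ z : G, (blkA (z * g * z⁻¹)).det ≠ 0 := by
  classical
  suffices h : ∀ (n : ℕ) (g : G), Module.finrank F (LinearMap.ker (blkA g).mulVecLin) ≤ n →
      ∃ z : G, (blkA (z * g * z⁻¹)).det ≠ 0 from h _ g le_rfl
  intro n
  induction n with
  | zero =>
    intro g hg
    refine ⟨1, fun h => ?_⟩
    rw [one_mul, inv_one, mul_one] at h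
    obtain ⟨v, hv0, hv⟩ := Matrix.exists_mulVec_eq_zero_iff.2 h
    have hb : LinearMap.ker (blkA g).mulVecLin = ⊥ := Submodule.finrank_eq_zero.1 (Nat.le_zero.1 hg)
    exact hv0 ((Submodule.eq_bot_iff _).1 hb v hv)
  | succ n ih =>
    intro g hg
    by_cases h : (blkA g).det = 0
    swap
    · exact ⟨1, by rwa [one_mul, inv_one, mul_one]⟩
    obtain ⟨v, hv0, hv⟩ := Matrix.exists_mulVec_eq_zero_iff.2 h
    set A := blkA g
    set C := blkC g
    have hCv : C *ᵥ v ≠ 0 := by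
      intro hC
      refine hv0 ?_
      have h1 : (g : M₂) *ᵥ Sum.elim v 0 = 0 := by
        rw [blocks_eq g, fromBlocks_mulVec]
        ext (i | i) <;> simp [A, C] at hv hC ⊢ <;> simp [hv, hC]
      have h2 : (((g⁻¹ : G) * g : G) : M₂) *ᵥ Sum.elim v 0 = 0 := by
        rw [coe_mul', ← Matrix.mulVec_mulVec, h1, Matrix.mulVec_zero]
      rw [inv_mul_cancel] at h2
      funext i
      have h3 := congrFun h2 (Sum.inl i)
      simpa using h3
    let H : Submodule F (Fin m → F) := LinearMap.ker ((Matrix.of fun (_ : Fin 1) => C *ᵥ v).mulVecLin)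
    have hH : H ≠ ⊤ := fun e => hCv (funext fun i => by
      have h1 : (Pi.single i (1 : F)) ∈ H := e ▸ Submodule.mem_top
      rw [LinearMap.mem_ker] at h1
      simpa [Matrix.mulVec] using congrFun h1 0)
    have hR : LinearMap.range A.mulVecLin ≠ ⊤ := fun e => hv0 (by
      have hinj := LinearMap.injective_iff_surjective.2 (LinearMap.range_eq_top.1 e)
      exact hinj (by simpa using hv))
    obtain ⟨w, hw⟩ := Cfsg.Agent.Lie.SLComm.exists_not_mem [H, LinearMap.range A.mulVecLin] (by simp; omega)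
      (by simp [hH, hR])
    have hwH : w ⬝ᵥ (C *ᵥ v) ≠ 0 := fun e => hw H (by simp) (by
      rw [LinearMap.mem_ker]; ext i
      rw [Matrix.mulVecLin_apply]
      simp only [Matrix.mulVec, Matrix.of_apply, Pi.zero_apply]
      rw [dotProduct_comm]; exact e)
    have hwR : w ∉ LinearMap.range A.mulVecLin := hw _ (by simp)
    set X := Matrix.vecMulVec w w with hXdef
    have hX : Xᵀ = X := Matrix.transpose_vecMulVec _ _
    obtain ⟨hA', -⟩ := up_move g X hX
    obtain ⟨z, hz⟩ := ih (up X hX * g * (up X hX)⁻¹) (by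
      have hlt : LinearMap.ker (blkA (up X hX * g * (up X hX)⁻¹)).mulVecLin < LinearMap.ker A.mulVecLin := by
        rw [hA']
        have hmv : ∀ x, (A + X * C) *ᵥ x = A *ᵥ x + (w ⬝ᵥ (C *ᵥ x)) • w := fun x => by
          rw [Matrix.add_mulVec, hXdef, ← Matrix.mulVec_mulVec, Matrix.vecMulVec_mulVec]
          simp
        refine lt_of_le_of_ne (fun x hx => ?_) fun e => ?_
        · rw [LinearMap.mem_ker, Matrix.mulVecLin_apply, hmv] at hx
          rw [LinearMap.mem_ker, Matrix.mulVecLin_apply]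
          by_cases h0 : w ⬝ᵥ (C *ᵥ x) = 0
          · rwa [h0, zero_smul, add_zero] at hx
          · refine absurd ⟨-(w ⬝ᵥ (C *ᵥ x))⁻¹ • x, ?_⟩ hwR
            rw [Matrix.mulVecLin_apply, Matrix.mulVec_smul, eq_neg_of_add_eq_zero_left hx, neg_smul, smul_neg,
              neg_neg, smul_smul, inv_mul_cancel₀ h0, one_smul]
        · have : v ∈ LinearMap.ker (A + X * C).mulVecLin := e ▸ (show v ∈ LinearMap.ker A.mulVecLin from hv)
          rw [LinearMap.mem_ker, Matrix.mulVecLin_apply, hmv, hv, zero_add, smul_eq_zero] at this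
          exact this.elim hwH fun e => hwR (e ▸ zero_mem _)
      have := Submodule.finrank_lt_finrank_of_lt hlt
      omega)
    exact ⟨z * up X hX, by
      rwa [show z * up X hX * g * (z * up X hX)⁻¹ = z * (up X hX * g * (up X hX)⁻¹) * z⁻¹ by group]⟩

theorem mem_center_of_scalar {g : G} (μ : F) (h : (g : M₂) = μ • 1) : g ∈ Subgroup.center G :=
  Subgroup.mem_center_iff.2 fun x => Subtype.ext (by rw [coe_mul', coe_mul', h]; simp)

/-- A noncentral conjugate-invariant normalisation of the upper left block. -/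
theorem exists_good (h5 : 5 ≤ Fintype.card F) (hm : 2 ≤ m) (g : G) (hg : g ∉ Subgroup.center G) (δ : F) (hδ : δ ≠ 0) :
    ∃ z : G, (blkA (z * g * z⁻¹)).det = δ ∧ ∀ μ : F, blkA (z * g * z⁻¹) ≠ μ • 1 := by
  classical
  obtain ⟨z₀, hz₀⟩ := exists_invertible h5 g
  suffices h : ∀ k : G, k ∉ Subgroup.center G → (blkA k).det ≠ 0 →
      ∃ z : G, (blkA (z * k * z⁻¹)).det = δ ∧ ∀ μ : F, blkA (z * k * z⁻¹) ≠ μ • 1 by
    obtain ⟨z, hz⟩ := h (z₀ * g * z₀⁻¹) (fun h => hg (by
      have := Subgroup.mem_center_iff.1 h z₀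
      rwa [show z₀ * g * z₀⁻¹ = g from by
        have e := mul_left_cancel (a := z₀) (this.trans (by group : z₀ * g * z₀⁻¹ * z₀ = z₀ * g))
        exact e] at h)) hz₀
    exact ⟨z * z₀, by rwa [show z * z₀ * g * (z * z₀)⁻¹ = z * (z₀ * g * z₀⁻¹) * z⁻¹ by group]⟩
  -- an upper move
  have useC : ∀ k : G, (blkA k).det ≠ 0 → blkC k ≠ 0 →
      ∃ z : G, (blkA (z * k * z⁻¹)).det = δ ∧ ∀ μ : F, blkA (z * k * z⁻¹) ≠ μ • 1 := by
    intro k hk hC
    obtain ⟨X, hX, h1, h2⟩ := exists_sym_move h5 hm _ _ hk (rel k (blocks_eq k)).1 hC δ hδ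
    exact ⟨up X hX, by rw [(up_move k X hX).1]; exact ⟨h1, h2⟩⟩
  intro k hk hdet
  by_cases hC : blkC k ≠ 0
  · exact useC k hdet hC
  by_cases hB : blkB k ≠ 0
  · have hs := (rel k (blocks_eq k)).2.1
    obtain ⟨X, hX, h1, h2⟩ := exists_sym_move h5 hm (blkA k)ᵀ (blkB k)ᵀ (by rwa [Matrix.det_transpose])
      (by rw [Matrix.transpose_transpose]; exact hs) (fun h => hB (Matrix.transpose_eq_zero.1 h)) δ hδ
    have e : blkA (lo (-X) (by rw [Matrix.transpose_neg, hX]) * k * (lo (-X) (by rw [Matrix.transpose_neg, hX]))⁻¹) =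
        ((blkA k)ᵀ + X * (blkB k)ᵀ)ᵀ := by
      rw [(lo_move k (-X) _).1, Matrix.transpose_add, Matrix.transpose_mul, hX, Matrix.transpose_transpose,
        Matrix.transpose_transpose, Matrix.mul_neg, sub_neg_eq_add]
    refine ⟨lo (-X) (by rw [Matrix.transpose_neg, hX]), by rw [e, Matrix.det_transpose]; exact h1, fun μ h => h2 μ ?_⟩
    rw [e] at h
    have := congrArg Matrix.transpose h
    rwa [Matrix.transpose_transpose, Matrix.transpose_smul, Matrix.transpose_one] at this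
  push Not at hC hB
  have hD : (blkA k)ᵀ * (k : M₂).toBlocks₂₂ = 1 := by
    have := (rel k (blocks_eq k)).2.2
    rw [hC, Matrix.transpose_zero, Matrix.zero_mul, zero_sub, neg_inj] at this
    exact this
  set A := blkA k with hAdef
  by_cases hall : ∀ X : M, Xᵀ = X → Aᵀ * X * A = X
  · exfalso
    have hrow : ∀ i a b, A i a * A i b = (Matrix.vecMulVec (Pi.single i 1) (Pi.single i (1 : F)) : M) a b := by
      intro i a b
      have h := congrFun (congrFun (hall (Matrix.vecMulVec (Pi.single i 1) (Pi.single i 1)) (Matrix.transpose_vecMulVec _ _)) a) b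
      rw [Matrix.mul_vecMulVec, Matrix.vecMulVec_mul, Matrix.vecMulVec_apply] at h
      rw [← h]
      simp [Matrix.mulVec_single_one]
    have hdiag : ∀ i j, i ≠ j → A i j = 0 := by
      intro i j hij
      have h := hrow i j j
      simp [Matrix.vecMulVec_apply, Ne.symm hij] at h
      exact h
    have hsq : ∀ i, A i i * A i i = 1 := fun i => by simpa [Matrix.vecMulVec_apply] using hrow i i i
    have hsame : ∀ i j, A i i = A j j := by
      intro i j
      by_cases hij : i = j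
      · rw [hij]
      have h := congrFun (congrFun (hall (Matrix.vecMulVec (Pi.single i 1) (Pi.single j 1) + Matrix.vecMulVec (Pi.single j 1) (Pi.single i 1))
        (by rw [Matrix.transpose_add, Matrix.transpose_vecMulVec, Matrix.transpose_vecMulVec, add_comm])) i) j
      rw [Matrix.mul_add, Matrix.add_mul, Matrix.mul_vecMulVec, Matrix.vecMulVec_mul, Matrix.mul_vecMulVec, Matrix.vecMulVec_mul,
        Matrix.add_apply, Matrix.vecMulVec_apply, Matrix.vecMulVec_apply] at h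
      simp [Matrix.mulVec_single_one, Matrix.vecMulVec_apply, hdiag i j hij, hij, Ne.symm hij] at h
      calc A i i = A i i * (A j j * A j j) := by rw [hsq, mul_one]
        _ = A i i * A j j * A j j := by ring
        _ = A j j := by rw [h, one_mul]
    obtain ⟨i₀⟩ : Nonempty (Fin m) := ⟨⟨0, by omega⟩⟩
    have hAμ : A = A i₀ i₀ • 1 := by
      ext i j
      by_cases hij : i = j
      · subst hij; simp [hsame i i₀]
      · simp [hdiag i j hij, hij]
    refine hk (mem_center_of_scalar (A i₀ i₀) ?_)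
    rw [blocks_eq k, hB, hC, ← hAdef]
    have h22 : (k : M₂).toBlocks₂₂ = A i₀ i₀ • 1 := by
      rw [hAμ, Matrix.transpose_smul, Matrix.transpose_one, Matrix.smul_mul, Matrix.one_mul] at hD
      calc (k : M₂).toBlocks₂₂ = (A i₀ i₀ * A i₀ i₀) • (k : M₂).toBlocks₂₂ := by rw [hsq, one_smul]
        _ = _ := by rw [← smul_smul, hD]
    rw [h22, hAμ, ← fromBlocks_one, fromBlocks_smul]
    simp [hsame]
  push Not at hall
  obtain ⟨X, hX, hne⟩ := hall
  obtain ⟨e1, e2⟩ := lo_move k X hX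
  rw [hB, Matrix.zero_mul, sub_zero, ← hAdef] at e1
  rw [hB, hC, Matrix.mul_zero, add_zero, zero_add, ← hAdef] at e2
  obtain ⟨z, hz⟩ := useC (lo X hX * k * (lo X hX)⁻¹) (by rw [e1]; exact hdet) (fun h => hne (by
    rw [e2, sub_eq_zero] at h
    rw [Matrix.mul_assoc, h, ← Matrix.mul_assoc, hD, Matrix.one_mul]))
  exact ⟨z * lo X hX, by
    rwa [show z * lo X hX * k * (z * lo X hX)⁻¹ = z * (lo X hX * k * (lo X hX)⁻¹) * z⁻¹ by group]⟩

/-- Factorisation along the Siegel parabolic. -/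
theorem decompose (g : G) (A' : M) (h : blkA g * A' = 1) :
    ∃ X hX Y hY, g = lo X hX * dg (blkA g) A' h * up Y hY := by
  obtain ⟨h1, h2, h3⟩ := rel g (blocks_eq g)
  have h' : A' * blkA g = 1 := mul_eq_one_comm.1 h
  have hT : A'ᵀ * (blkA g)ᵀ = 1 := by rw [← Matrix.transpose_mul, h, Matrix.transpose_one]
  rw [Matrix.transpose_mul, Matrix.transpose_transpose] at h1 h2
  have hCA : (blkC g * A')ᵀ = blkC g * A' := by
    rw [Matrix.transpose_mul]
    calc A'ᵀ * (blkC g)ᵀ = A'ᵀ * ((blkC g)ᵀ * blkA g) * A' := by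
          rw [Matrix.mul_assoc, Matrix.mul_assoc, h, Matrix.mul_one]
      _ = _ := by rw [h1, ← Matrix.mul_assoc, hT, Matrix.one_mul]
  have hAB : (A' * blkB g)ᵀ = A' * blkB g := by
    rw [Matrix.transpose_mul]
    calc (blkB g)ᵀ * A'ᵀ = A' * (blkA g * (blkB g)ᵀ) * A'ᵀ := by rw [← Matrix.mul_assoc A', h', Matrix.one_mul]
      _ = _ := by rw [← h2, ← Matrix.mul_assoc, Matrix.mul_assoc (A' * blkB g), ← Matrix.transpose_mul, h', Matrix.transpose_one, Matrix.mul_one]
  refine ⟨_, hCA, _, hAB, Subtype.ext ?_⟩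
  rw [coe_mul', coe_mul', coe_lo, coe_dg, coe_up, fromBlocks_multiply, fromBlocks_multiply]
  conv_lhs => rw [blocks_eq g]
  simp only [Matrix.one_mul, Matrix.mul_zero, Matrix.zero_mul, add_zero, zero_add, Matrix.mul_one]
  congr 1
  · rw [← Matrix.mul_assoc, h, Matrix.one_mul]
  · rw [Matrix.mul_assoc, h', Matrix.mul_one]
  · calc (g : M₂).toBlocks₂₂ = A'ᵀ * ((blkA g)ᵀ * (g : M₂).toBlocks₂₂) := by rw [← Matrix.mul_assoc, hT, Matrix.one_mul]
      _ = A'ᵀ * ((blkC g)ᵀ * blkB g + 1) := by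
          congr 1
          linear_combination (norm := abel) -h3
      _ = _ := by
          rw [Matrix.mul_add, Matrix.mul_one, ← Matrix.mul_assoc, ← Matrix.transpose_mul, hCA, Matrix.mul_assoc]
          simp only [← Matrix.mul_assoc, h', Matrix.one_mul]
          rw [Matrix.mul_assoc (blkC g * A'), h, Matrix.mul_one]

theorem hasSquare_psp (h9 : 9 ≤ Fintype.card F) (hm : 2 ≤ m) : HasSquare (Cfsg.PSp m F) := by
  classical
  obtain ⟨k, rfl⟩ : ∃ k, m = k + 2 := ⟨m - 2, by omega⟩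
  obtain ⟨a, b, r, ha, ha2, hbr, hr, hfree⟩ := exists_scalars h9
  have hb : b ≠ 0 := by rw [hbr]; exact mul_ne_zero hr hr
  set K : Matrix (Fin (k + 2)) (Fin (k + 2)) F := b • canM k a with hK
  set K' : Matrix (Fin (k + 2)) (Fin (k + 2)) F := b⁻¹ • canI k a with hK'
  have hKK : K * K' = 1 := by
    rw [hK, hK', Matrix.smul_mul, Matrix.mul_smul, smul_smul, mul_inv_cancel₀ hb, one_smul, canM_canI ha]
  have hK'K := mul_eq_one_comm.1 hKK
  let c : Matrix.symplecticGroup (Fin (k + 2)) F := dg K K' hKK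
  have hdiag : ∀ i, K i i = b * canβ k a i := fun i => by simp [hK, canM_diag]
  have hup : ∀ i j, i < j → K i j = 0 := fun i j h => by simp [hK, canM_upper k a i j h]
  have hne : ∀ (X : Matrix (Fin (k + 2)) (Fin (k + 2)) F) i j, (1 : F) * K i i * K j j ≠ 1 ∨ X i j = 0 := fun X i j =>
    Or.inl fun e => (hfree k i j).1 (by rw [hdiag, hdiag] at e; linear_combination e)
  have hU : ∀ x ∈ U F (k + 2), c * x * c⁻¹ ∈ U F (k + 2) := by
    rintro x ⟨X, hX, rfl⟩
    exact ⟨_, _, up_conj K K' hKK X hX⟩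
  have hV : ∀ x ∈ V F (k + 2), c * x * c⁻¹ ∈ V F (k + 2) := by
    rintro x ⟨X, hX, rfl⟩
    exact ⟨_, _, lo_conj K K' hKK X hX⟩
  have hUf : ∀ x ∈ U F (k + 2), c * x * c⁻¹ = x → x = 1 := by
    rintro x ⟨X, hX, rfl⟩ h
    have e : K * X * Kᵀ = X := by
      rw [up_conj K K' hKK X hX] at h
      exact (fromBlocks_inj.1 (congrArg Subtype.val h)).2.1
    have h0 : X = 0 := lower_fixed hup 1 (hne X) (by rw [one_smul]; exact e)
    exact Subtype.ext (by rw [coe_up, h0]; exact fromBlocks_one)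
  have hVf : ∀ x ∈ V F (k + 2), c * x * c⁻¹ = x → x = 1 := by
    rintro x ⟨X, hX, rfl⟩ h
    have e : K'ᵀ * X * K' = X := by
      rw [lo_conj K K' hKK X hX] at h
      exact (fromBlocks_inj.1 (congrArg Subtype.val h)).2.2.1
    have h0 : X = 0 := upper_fixed hup 1 (hne X) (by
      rw [one_smul]
      conv_lhs => rw [← e]
      rw [show Kᵀ * (K'ᵀ * X * K') * K = Kᵀ * K'ᵀ * X * (K' * K) by simp only [Matrix.mul_assoc], hK'K,
        Matrix.mul_one, ← Matrix.transpose_mul, hK'K, Matrix.transpose_one, Matrix.one_mul])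
    exact Subtype.ext (by rw [coe_lo, h0]; exact fromBlocks_one)
  let emb : Matrix.SpecialLinearGroup (Fin (k + 2)) F → Matrix.symplecticGroup (Fin (k + 2)) F := fun P =>
    dg (P : Matrix _ _ F) ((P⁻¹ : Matrix.SpecialLinearGroup (Fin (k + 2)) F) : Matrix _ _ F)
      (by rw [← Matrix.SpecialLinearGroup.coe_mul, mul_inv_cancel, Matrix.SpecialLinearGroup.coe_one])
  have hconj : ∀ P : Matrix.SpecialLinearGroup (Fin (k + 2)) F, ∀ B B' hB, B = (P : Matrix (Fin (k + 2)) (Fin (k + 2)) F) * K * (P⁻¹ : Matrix.SpecialLinearGroup (Fin (k + 2)) F) →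
      emb P * c * (emb P)⁻¹ = dg B B' hB := by
    intro P B B' hB e
    have hB' : B' = (P : Matrix (Fin (k + 2)) (Fin (k + 2)) F) * K' * (P⁻¹ : Matrix.SpecialLinearGroup (Fin (k + 2)) F) := by
      have h1 : B * ((P : Matrix (Fin (k + 2)) (Fin (k + 2)) F) * K' * (P⁻¹ : Matrix.SpecialLinearGroup (Fin (k + 2)) F)) = 1 := by
        rw [e]
        calc _ = (P : Matrix (Fin (k + 2)) (Fin (k + 2)) F) * (K * ((P⁻¹ : Matrix.SpecialLinearGroup (Fin (k + 2)) F) * (P : Matrix (Fin (k + 2)) (Fin (k + 2)) F)) * K') *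
              (P⁻¹ : Matrix.SpecialLinearGroup (Fin (k + 2)) F) := by simp only [Matrix.mul_assoc]
          _ = _ := by
              rw [← Matrix.SpecialLinearGroup.coe_mul, inv_mul_cancel, Matrix.SpecialLinearGroup.coe_one, Matrix.mul_one, hKK,
                Matrix.mul_one, ← Matrix.SpecialLinearGroup.coe_mul, mul_inv_cancel, Matrix.SpecialLinearGroup.coe_one]
      calc B' = B' * (B * _) := by rw [h1, Matrix.mul_one]
        _ = _ := by rw [← Matrix.mul_assoc, mul_eq_one_comm.1 hB, Matrix.one_mul]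
    refine Subtype.ext ?_
    simp only [emb, c, dg_inv, coe_mul', coe_dg, fromBlocks_multiply]
    simp [e, hB', Matrix.transpose_mul, Matrix.mul_assoc]
  refine hasSquare_quotient (Subgroup.center (Matrix.symplecticGroup (Fin (k + 2)) F)) c (fun g => ?_) ?_
  · by_cases hg : g ∈ Subgroup.center (Matrix.symplecticGroup (Fin (k + 2)) F)
    · exact Or.inl hg
    obtain ⟨z, hdet, hns⟩ := exists_good (by omega) hm g hg ((b * b) ^ (k + 2)) (pow_ne_zero _ (mul_ne_zero hb hb))
    refine Or.inr (Two.of_conj z ?_)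
    obtain ⟨P, R, hPR⟩ := exists_two_scaled (by omega) ha ha2 hb (blkA (z * g * z⁻¹)) hdet fun μ h => absurd h (hns μ)
    rw [← hK] at hPR
    set B₁ := (P : Matrix (Fin (k + 2)) (Fin (k + 2)) F) * K * (P⁻¹ : Matrix.SpecialLinearGroup (Fin (k + 2)) F) with hB₁
    set B₂ := (R : Matrix (Fin (k + 2)) (Fin (k + 2)) F) * K * (R⁻¹ : Matrix.SpecialLinearGroup (Fin (k + 2)) F) with hB₂
    have hA0 : IsUnit (blkA (z * g * z⁻¹)).det := by rw [hdet]; exact (pow_ne_zero _ (mul_ne_zero hb hb)).isUnit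
    have hu₁ : IsUnit B₁.det := isUnit_of_mul_isUnit_left (y := B₂.det) (by rwa [← Matrix.det_mul, ← hPR])
    have hu₂ : IsUnit B₂.det := isUnit_of_mul_isUnit_right (x := B₁.det) (by rwa [← Matrix.det_mul, ← hPR])
    have hinv : blkA (z * g * z⁻¹) * (B₂⁻¹ * B₁⁻¹) = 1 := by
      rw [hPR, Matrix.mul_assoc, ← Matrix.mul_assoc B₂, Matrix.mul_nonsing_inv _ hu₂, Matrix.one_mul,
        Matrix.mul_nonsing_inv _ hu₁]
    obtain ⟨X, hX, Y, hY, e⟩ := decompose (z * g * z⁻¹) _ hinv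
    rw [e, show dg (blkA (z * g * z⁻¹)) (B₂⁻¹ * B₁⁻¹) hinv =
      (emb P * c * (emb P)⁻¹) * (emb R * c * (emb R)⁻¹) by
        rw [hconj P B₁ B₁⁻¹ (Matrix.mul_nonsing_inv _ hu₁) rfl, hconj R B₂ B₂⁻¹ (Matrix.mul_nonsing_inv _ hu₂) rfl]
        refine Subtype.ext ?_
        simp only [coe_mul', coe_dg, fromBlocks_multiply, hPR]
        simp [Matrix.transpose_mul]]
    refine two_of_levi (V F (k + 2)) (U F (k + 2)) hV hVf hU hUf (v := lo X hX) (u := up Y hY) ?_ ?_
    · simp only [emb, dg_inv]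
      have := lo_conj ((P⁻¹ : Matrix.SpecialLinearGroup (Fin (k + 2)) F) : Matrix (Fin (k + 2)) (Fin (k + 2)) F) (P : Matrix (Fin (k + 2)) (Fin (k + 2)) F)
        (by rw [← Matrix.SpecialLinearGroup.coe_mul, inv_mul_cancel, Matrix.SpecialLinearGroup.coe_one]) X hX
      rw [dg_inv] at this
      exact ⟨_, _, this⟩
    · simp only [emb, dg_inv]
      have := up_conj ((R⁻¹ : Matrix.SpecialLinearGroup (Fin (k + 2)) F) : Matrix (Fin (k + 2)) (Fin (k + 2)) F) (R : Matrix (Fin (k + 2)) (Fin (k + 2)) F)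
        (by rw [← Matrix.SpecialLinearGroup.coe_mul, inv_mul_cancel, Matrix.SpecialLinearGroup.coe_one]) Y hY
      rw [dg_inv] at this
      exact ⟨_, _, this⟩
  · -- reality
    obtain ⟨P, hP⟩ := ssim_of_sim (canI_sim (k := k) (a := a))
    obtain ⟨R, hR⟩ := canM_transpose_sim k a
    have hJ : (⟨Matrix.J (Fin (k + 2)) F, SymplecticGroup.J_mem _ _⟩ : Matrix.symplecticGroup (Fin (k + 2)) F) * c =
        dg K'ᵀ Kᵀ (by rw [← Matrix.transpose_mul, hKK, Matrix.transpose_one]) * ⟨Matrix.J (Fin (k + 2)) F, SymplecticGroup.J_mem _ _⟩ := by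
      refine Subtype.ext ?_
      simp only [c, coe_mul', coe_dg, Matrix.J, fromBlocks_multiply, Matrix.transpose_transpose]
      simp
    set J₀ : Matrix.symplecticGroup (Fin (k + 2)) F := ⟨Matrix.J (Fin (k + 2)) F, SymplecticGroup.J_mem _ _⟩ with hJ₀
    -- `K'ᵀ` is conjugate to `K'`
    have hs : ∃ Q : Matrix.SpecialLinearGroup (Fin (k + 2)) F,
        K'ᵀ = (Q : Matrix (Fin (k + 2)) (Fin (k + 2)) F) * K' * (Q⁻¹ : Matrix.SpecialLinearGroup (Fin (k + 2)) F) := by
      refine ⟨R, ?_⟩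
      have h1 : Kᵀ = (R : Matrix (Fin (k + 2)) (Fin (k + 2)) F) * K * (R⁻¹ : Matrix.SpecialLinearGroup (Fin (k + 2)) F) := by
        rw [hK, Matrix.transpose_smul, hR, Matrix.mul_smul, Matrix.smul_mul]
      have h2 : K'ᵀ * Kᵀ = 1 := by rw [← Matrix.transpose_mul, hKK, Matrix.transpose_one]
      have h3 : Kᵀ * ((R : Matrix (Fin (k + 2)) (Fin (k + 2)) F) * K' * (R⁻¹ : Matrix.SpecialLinearGroup (Fin (k + 2)) F)) = 1 := by
        rw [h1]
        calc _ = (R : Matrix (Fin (k + 2)) (Fin (k + 2)) F) * (K * ((R⁻¹ : Matrix.SpecialLinearGroup (Fin (k + 2)) F) * (R : Matrix (Fin (k + 2)) (Fin (k + 2)) F)) * K') *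
              (R⁻¹ : Matrix.SpecialLinearGroup (Fin (k + 2)) F) := by simp only [Matrix.mul_assoc]
          _ = _ := by
              rw [← Matrix.SpecialLinearGroup.coe_mul, inv_mul_cancel, Matrix.SpecialLinearGroup.coe_one, Matrix.mul_one, hKK,
                Matrix.mul_one, ← Matrix.SpecialLinearGroup.coe_mul, mul_inv_cancel, Matrix.SpecialLinearGroup.coe_one]
      calc K'ᵀ = K'ᵀ * (Kᵀ * _) := by rw [h3, Matrix.mul_one]
        _ = _ := by rw [← Matrix.mul_assoc, h2, Matrix.one_mul]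
    obtain ⟨Q, hQ⟩ := hs
    refine ⟨1, (emb Q)⁻¹ * J₀, ?_⟩
    have h4 : J₀ * c * J₀⁻¹ = emb Q * c⁻¹ * (emb Q)⁻¹ := by
      rw [hJ, mul_inv_cancel_right]
      refine Subtype.ext ?_
      simp only [emb, c, dg_inv, coe_mul', coe_dg, fromBlocks_multiply]
      simp only [Matrix.mul_zero, Matrix.zero_mul, add_zero, zero_add]
      rw [← hQ]
      congr 1
      have h5 : Kᵀ * K'ᵀ = 1 := by rw [← Matrix.transpose_mul, hK'K, Matrix.transpose_one]
      rw [← Matrix.transpose_mul, ← Matrix.transpose_mul, Matrix.transpose_transpose]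
      have h6 : ((Q : Matrix (Fin (k + 2)) (Fin (k + 2)) F) * K * (Q⁻¹ : Matrix.SpecialLinearGroup (Fin (k + 2)) F)) * K'ᵀ = 1 := by
        rw [hQ]
        calc _ = (Q : Matrix (Fin (k + 2)) (Fin (k + 2)) F) * (K * ((Q⁻¹ : Matrix.SpecialLinearGroup (Fin (k + 2)) F) * (Q : Matrix (Fin (k + 2)) (Fin (k + 2)) F)) * K') *
              (Q⁻¹ : Matrix.SpecialLinearGroup (Fin (k + 2)) F) := by simp only [Matrix.mul_assoc]
          _ = _ := by
              rw [← Matrix.SpecialLinearGroup.coe_mul, inv_mul_cancel, Matrix.SpecialLinearGroup.coe_one, Matrix.mul_one, hKK,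
                Matrix.mul_one, ← Matrix.SpecialLinearGroup.coe_mul, mul_inv_cancel, Matrix.SpecialLinearGroup.coe_one]
      have h7 : (Q : Matrix (Fin (k + 2)) (Fin (k + 2)) F) * K * (Q⁻¹ : Matrix.SpecialLinearGroup (Fin (k + 2)) F) = Kᵀ := by
        calc _ = (Q : Matrix (Fin (k + 2)) (Fin (k + 2)) F) * K * (Q⁻¹ : Matrix.SpecialLinearGroup (Fin (k + 2)) F) * (K'ᵀ * Kᵀ) := by
              rw [mul_eq_one_comm.1 h5, Matrix.mul_one]
          _ = 1 * Kᵀ := by rw [← Matrix.mul_assoc, h6]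
          _ = _ := Matrix.one_mul _
      rw [← Matrix.mul_assoc, h7, Matrix.transpose_transpose]
    rw [show ((emb Q)⁻¹ * J₀) * c * ((emb Q)⁻¹ * J₀)⁻¹ = (emb Q)⁻¹ * (J₀ * c * J₀⁻¹) * emb Q by group, h4]
    group

end Cfsg.Agent.Lie.ClassSq.Symp
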